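import Cfsg.Agent.Lib.Solvable.TurullHeight.Basic
import Cfsg.Agent.Lib.Solvable.FPFOperators.Weights
import Mathlib.Algebra.Module.ZMod
import Mathlib.Algebra.Field.ZMod
import Mathlib.LinearAlgebra.Matrix.ToLin
import Mathlib.LinearAlgebra.Matrix.Rank
import Mathlib.LinearAlgebra.Dimension.Free
import Mathlib.LinearAlgebra.FiniteDimensional.Lemmas
import Mathlib.FieldTheory.Finiteness
import Mathlib.FieldTheory.IsAlgClosed.AlgebraicClosure

/-!
# Extension of scalars and free orbits of weights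
-/

set_option autoImplicit false

namespace CfsgLib.Solvable.TurullHeight

open Subgroup CfsgLib.Solvable.FPFOperators
open scoped commutatorElement

variable {Γ V : Type*} [Group Γ] [AddCommGroup V] [DistribMulAction Γ V]

theorem end_sum_apply {ι : Type*} (u : Finset ι) (f : ι → AddMonoid.End V) (v : V) :
    (∑ i ∈ u, f i) v = ∑ i ∈ u, f i v :=
  AddMonoidHom.finsetSum_apply f u v

/-- Endomorphisms of an elementary abelian group become matrices over an extension field, without
raising ranks. -/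
theorem exists_extendEnd [Finite V] {q : ℕ} [Fact q.Prime] (K : Type*) [Field K] [CharP K q]
    (hexp : ∀ v : V, q • v = 0) :
    ∃ (d : ℕ) (Φ : AddMonoid.End V →+* Module.End K (Fin d → K)),
      Function.Injective Φ ∧ Nat.card V = q ^ d ∧
      ∀ (x : AddMonoid.End V) (δ : ℕ), Nat.card (AddMonoidHom.range x) ≤ q ^ δ →
        Module.finrank K (LinearMap.range (Φ x)) ≤ δ := by
  classical
  obtain ⟨mod⟩ : Nonempty (Module (ZMod q) V) := ⟨AddCommGroup.zmodModule hexp⟩
  haveI : Module.Finite (ZMod q) V := Module.Finite.of_finite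
  let b := Module.finBasis (ZMod q) V
  let L : AddMonoid.End V →+* Module.End (ZMod q) V :=
    { toFun := fun f => AddMonoidHom.toZModLinearMap q f
      map_one' := rfl
      map_mul' := fun _ _ => rfl
      map_zero' := rfl
      map_add' := fun _ _ => rfl }
  let Φ : Module.End (ZMod q) V →+* Module.End K (Fin (Module.finrank (ZMod q) V) → K) :=
    ((Matrix.toLinAlgEquiv' (R := K)).toRingEquiv.toRingHom.comp
      (ZMod.castHom dvd_rfl K).mapMatrix).comp (LinearMap.toMatrixAlgEquiv b).toRingEquiv.toRingHom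
  have hΦ : Function.Injective Φ := by
    intro x y h
    refine (LinearMap.toMatrixAlgEquiv b).injective ?_
    have h1 := (Matrix.toLinAlgEquiv' (R := K)).injective h
    refine Matrix.ext fun i j => ?_
    exact (ZMod.castHom dvd_rfl K).injective (congrFun (congrFun h1 i) j)
  refine ⟨_, Φ.comp L, hΦ.comp fun x y h => AddMonoidHom.ext fun v => LinearMap.congr_fun h v,
    ?_, fun x δ hδ => ?_⟩
  · rw [Module.natCard_eq_pow_finrank (K := ZMod q), Nat.card_zmod]
  let U := LinearMap.range (L x)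
  let bU := Module.finBasis (ZMod q) U
  have hU : Module.finrank (ZMod q) U ≤ δ := by
    have h1 : Nat.card U = q ^ Module.finrank (ZMod q) U := by
      rw [Module.natCard_eq_pow_finrank (K := ZMod q), Nat.card_zmod]
    have h2 : Nat.card U = Nat.card (AddMonoidHom.range x) :=
      Nat.card_congr (Equiv.subtypeEquivRight fun v => Iff.rfl)
    exact (Nat.pow_le_pow_iff_right (Fact.out : q.Prime).one_lt).1 (by rw [← h1, h2]; exact hδ)
  have hfac : LinearMap.toMatrix b b (L x) =
      LinearMap.toMatrix bU b U.subtype * LinearMap.toMatrix b bU (L x).rangeRestrict := by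
    rw [← LinearMap.toMatrix_comp b bU b]; rfl
  set g := ZMod.castHom (dvd_refl q) K
  have hrank : Matrix.rank ((LinearMap.toMatrix b b (L x)).map g) ≤ δ := by
    rw [hfac, Matrix.map_mul]
    exact (Matrix.rank_mul_le_left _ _).trans
      ((Matrix.rank_le_card_width _).trans (by rw [Fintype.card_fin]; exact hU))
  exact hrank

/-- A power of `s` generates when `r` is prime. -/
theorem exists_pow_eq_self {s : Γ} {r i : ℕ} (hr : r.Prime) (hs : s ^ r = 1) (hi : ¬ r ∣ i) :
    ∃ m, (s ^ i) ^ m = s := by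
  obtain ⟨m, -, hm⟩ :=
    Nat.exists_mul_mod_eq_one_of_coprime ((hr.coprime_iff_not_dvd).2 hi).symm hr.one_lt
  exact ⟨m, by rw [← pow_mul, pow_eq_pow_mod (i * m) hs, hm, pow_one]⟩

variable [Finite Γ]

/-- Weights of a fixed-point-free abelian group without fixed vectors lie in free orbits. -/
theorem regular_weight_free {K R : Type*} [Field K] [Ring R] [Algebra K R] {A : Subgroup Γ}
    [A.Normal] [Fintype A] (hAc : ∀ a ∈ A, ∀ b ∈ A, a * b = b * a) {ρ : Γ →* R}
    (hsum : ∑ a : A, ρ (a : Γ) = 0) {s : Γ} {r : ℕ} (hr : r.Prime) (hs : s ^ r = 1)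
    (hfpf : ∀ a ∈ A, s * a = a * s → a = 1) {χ : A →* Kˣ}
    (hχ : weightIdem A ρ χ ≠ 0) {i : ℕ} (hi : s ^ i • χ = χ) : r ∣ i := by
  by_contra hri
  have hn : (A.Normal) := inferInstance
  have hc : ∀ a : A, ⁅(a : Γ), s ^ i⁆ ∈ A := fun a => by
    rw [commutatorElement_def, mul_assoc (a : Γ), mul_assoc (a : Γ)]
    exact mul_mem a.2 (by simpa [mul_assoc] using hn.conj_mem _ (inv_mem a.2) (s ^ i))
  have hinj : Function.Injective fun a : A => (⟨⁅(a : Γ), s ^ i⁆, hc a⟩ : A) := by
    intro a b hab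
    have h1 : (a : Γ) * s ^ i * (a : Γ)⁻¹ = b * s ^ i * (b : Γ)⁻¹ := by
      simpa [commutatorElement_def] using congrArg Subtype.val hab
    have h2 : Commute ((b : Γ)⁻¹ * a) (s ^ i) := by
      show (b : Γ)⁻¹ * a * s ^ i = s ^ i * ((b : Γ)⁻¹ * a)
      calc (b : Γ)⁻¹ * a * s ^ i = (b : Γ)⁻¹ * (a * s ^ i * (a : Γ)⁻¹) * a := by group
        _ = (b : Γ)⁻¹ * (b * s ^ i * (b : Γ)⁻¹) * a := by rw [h1]
        _ = s ^ i * ((b : Γ)⁻¹ * a) := by group
    obtain ⟨m, hm⟩ := exists_pow_eq_self hr hs hri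
    exact Subtype.ext
      (inv_mul_eq_one.1 (hfpf _ (mul_mem (inv_mem b.2) a.2) (hm ▸ h2.pow_right m).eq.symm)).symm
  have htriv : ∀ a : A, χ a = 1 := by
    intro a
    obtain ⟨b, hb⟩ := (Finite.surjective_of_injective hinj) a
    have h1 : χ ((MulAut.conjNormal (s ^ i)) b⁻¹) = χ b⁻¹ := by
      conv_lhs => rw [← hi]
      rw [dual_smul_apply, ← MulAut.mul_apply, ← map_mul, inv_mul_cancel, map_one, MulAut.one_apply]
    have e : a = b * (MulAut.conjNormal (s ^ i)) b⁻¹ := by
      rw [← hb]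
      refine Subtype.ext ?_
      rw [Subgroup.coe_mul, MulAut.conjNormal_apply]
      show ⁅(b : Γ), s ^ i⁆ = _
      simp [commutatorElement_def, mul_assoc]
    rw [e, map_mul, h1, ← map_mul, mul_inv_cancel, map_one]
  refine hχ ?_
  rw [weightIdem]
  simp only [htriv, Units.val_one, one_smul, hsum, smul_zero]

/-- An operator commuting with `s` and fixing the fixed vectors of `s` is trivial, over a regular
abelian normal subgroup. -/
theorem eq_one_of_regular [Finite V] {q : ℕ} (hq : q.Prime) (hexp : ∀ v : V, q • v = 0)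
    {A : Subgroup Γ} [A.Normal] (hAc : ∀ a ∈ A, ∀ b ∈ A, a * b = b * a)
    (hA : ¬ q ∣ Nat.card A) (h0 : fixedSub V A = ⊥) {s t : Γ} {r : ℕ} (hr : r.Prime)
    (hs : s ^ r = 1) (hfpf : ∀ a ∈ A, s * a = a * s → a = 1) (hts : t * s = s * t)
    (ht : (orderOf t).Coprime r) (htC : ∀ v : V, s • v = v → t • v = v)
    (hfaith : ∀ g : Γ, (∀ v : V, g • v = v) → g = 1) : t = 1 := by
  classical
  haveI := Fact.mk hq
  set K := AlgebraicClosure (ZMod q)
  haveI : Fintype A := Fintype.ofFinite A
  obtain ⟨d, Φ, hΦ, -, -⟩ := exists_extendEnd (V := V) K hexp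
  let ρ : Γ →* Module.End K (Fin d → K) :=
    Φ.toMonoidHom.comp (DistribMulAction.toAddMonoidEnd Γ V)
  have hρ : ∀ g, ρ g = Φ (DistribMulAction.toAddMonoidEnd Γ V g) := fun g => rfl
  have hAK : (Fintype.card A : K) ≠ 0 := by
    rw [ne_eq, CharP.cast_eq_zero_iff K q, ← Nat.card_eq_fintype_card]; exact hA
  have hsum : ∑ a : A, ρ (a : Γ) = 0 := by
    simp only [hρ, ← map_sum]
    rw [show (∑ a : A, DistribMulAction.toAddMonoidEnd Γ V (a : Γ)) = 0 from
      AddMonoidHom.ext fun v => (AddMonoidHom.finsetSum_apply _ _ v).trans (sum_smul_eq_zero h0 v),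
      map_zero]
  set σ := ∑ i ∈ Finset.range r, ρ (s ^ i) with hσ
  have hkey : ρ t * σ = σ := by
    simp only [hσ, hρ, ← map_sum, ← map_mul]
    refine congrArg Φ (AddMonoidHom.ext fun v => ?_)
    show t • ((∑ i ∈ Finset.range r, DistribMulAction.toAddMonoidEnd Γ V (s ^ i)) v) =
      (∑ i ∈ Finset.range r, DistribMulAction.toAddMonoidEnd Γ V (s ^ i)) v
    rw [end_sum_apply]
    exact htC _ (smul_orbit_sum hs v)
  have hcommA : IsMulCommutative A := isMulCommutative_iff.2 fun a b =>
    Subtype.ext (hAc a a.2 b b.2)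
  have hsandwich : ∀ (g : Γ) (α β : A →* Kˣ), weightIdem A ρ α * ρ g * weightIdem A ρ β =
      if α = g • β then ρ g * weightIdem A ρ β else 0 := by
    intro g α β
    rw [mul_assoc, map_mul_weightIdem_smul, ← mul_assoc]
    split_ifs with h
    · rw [h, weightIdem_mul_self ρ hAK]
    · rw [weightIdem_orth ρ h, zero_mul]
  refine hfaith t fun v => ?_
  have ht1 : ρ t = 1 := by
    refine eq_of_forall_mul_weightIdem ρ hcommA hAK fun χ hχ => ?_
    have hfree : ∀ i, s ^ i • χ = χ → r ∣ i := fun i hi =>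
      regular_weight_free hAc hsum hr hs hfpf hχ hi
    have hL : weightIdem A ρ (t • χ) * (ρ t * σ) * weightIdem A ρ χ =
        ρ t * weightIdem A ρ χ := by
      simp only [hσ, Finset.mul_sum, Finset.sum_mul, ← map_mul, hsandwich]
      rw [Finset.sum_eq_single_of_mem 0 (Finset.mem_range.2 hr.pos)]
      · simp
      · intro i hi hi0
        rw [if_neg]
        intro h
        rw [mul_smul] at h
        exact Nat.not_dvd_of_pos_of_lt (Nat.pos_of_ne_zero hi0) (Finset.mem_range.1 hi)
          (hfree i (smul_left_cancel t h).symm)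
    rw [hkey] at hL
    simp only [hσ, Finset.mul_sum, Finset.sum_mul, hsandwich] at hL
    by_cases hex : ∃ i, i < r ∧ t • χ = s ^ i • χ
    · obtain ⟨i, hir, hi⟩ := hex
      have hpow : ∀ m : ℕ, t ^ m • χ = s ^ (i * m) • χ := by
        intro m
        induction m with
        | zero => simp
        | succ m ih =>
          rw [pow_succ', mul_smul, ih, ← mul_smul,
            ((show Commute t s from hts).pow_right (i * m)).eq, mul_smul, hi, ← mul_smul, ← pow_add,
            Nat.mul_succ]
      have h1 := hpow (orderOf t)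
      rw [pow_orderOf_eq_one, one_smul] at h1
      have hi0 : i = 0 := by
        rcases hr.dvd_mul.1 (hfree _ h1.symm) with h2 | h2
        · exact Nat.eq_zero_of_dvd_of_lt h2 hir
        · exact absurd (Nat.eq_one_of_dvd_coprimes ht h2 dvd_rfl) hr.ne_one
      subst hi0
      rw [Finset.sum_eq_single_of_mem 0 (Finset.mem_range.2 hr.pos), if_pos hi] at hL
      · rw [one_mul, ← hL, pow_zero, map_one, one_mul]
      · intro j hj hj0
        rw [if_neg]
        rw [hi, pow_zero, one_smul]
        exact fun h => Nat.not_dvd_of_pos_of_lt (Nat.pos_of_ne_zero hj0) (Finset.mem_range.1 hj)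
          (hfree j h.symm)
    · exfalso
      push Not at hex
      rw [Finset.sum_eq_zero fun i hi => if_neg (hex i (Finset.mem_range.1 hi))] at hL
      refine hχ ?_
      have h2 := congrArg (ρ t⁻¹ * ·) hL
      simp only [mul_zero, ← mul_assoc, ← map_mul, inv_mul_cancel, map_one, one_mul] at h2
      exact h2.symm
  have h3 : DistribMulAction.toAddMonoidEnd Γ V t = 1 := hΦ (by rw [← hρ, ht1, map_one])
  exact DFunLike.congr_fun h3 v

/-- A regular abelian normal subgroup makes `s` act freely: the fixed vectors are few. -/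
theorem le_of_regular [Finite V] {q : ℕ} (hq : q.Prime) (hexp : ∀ v : V, q • v = 0)
    {A : Subgroup Γ} [A.Normal] (hAc : ∀ a ∈ A, ∀ b ∈ A, a * b = b * a)
    (hA : ¬ q ∣ Nat.card A) (h0 : fixedSub V A = ⊥) {s : Γ} {r : ℕ} (hr : r.Prime)
    (hs : s ^ r = 1) (hfpf : ∀ a ∈ A, s * a = a * s → a = 1) {δ : ℕ}
    (hδ : Nat.card (movedSub V (zpowers s)) ≤ q ^ δ) :
    ∃ d k : ℕ, Nat.card V = q ^ d ∧ d = r * k ∧ (r - 1) * k ≤ δ := by
  classical
  haveI := Fact.mk hq
  set K := AlgebraicClosure (ZMod q)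
  haveI : Fintype A := Fintype.ofFinite A
  obtain ⟨d, Φ, -, hcard, hrank⟩ := exists_extendEnd (V := V) K hexp
  let ρ : Γ →* Module.End K (Fin d → K) :=
    Φ.toMonoidHom.comp (DistribMulAction.toAddMonoidEnd Γ V)
  have hρ : ∀ g, ρ g = Φ (DistribMulAction.toAddMonoidEnd Γ V g) := fun g => rfl
  have hAK : (Fintype.card A : K) ≠ 0 := by
    rw [ne_eq, CharP.cast_eq_zero_iff K q, ← Nat.card_eq_fintype_card]; exact hA
  have hcommA : IsMulCommutative A := isMulCommutative_iff.2 fun a b =>
    Subtype.ext (hAc a a.2 b b.2)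
  have hsum : ∑ a : A, ρ (a : Γ) = 0 := by
    simp only [hρ, ← map_sum]
    rw [show (∑ a : A, DistribMulAction.toAddMonoidEnd Γ V (a : Γ)) = 0 from
      AddMonoidHom.ext fun v => (AddMonoidHom.finsetSum_apply _ _ v).trans (sum_smul_eq_zero h0 v),
      map_zero]
  haveI := (card_dual (K := K) hcommA hAK).1
  haveI : Fintype (A →* Kˣ) := Fintype.ofFinite _
  let idx := Fintype.equivFin (A →* Kˣ)
  let rep : Finset (A →* Kˣ) := Finset.univ.filter fun χ =>
    weightIdem A ρ χ ≠ 0 ∧ ∀ i, i < r → idx χ ≤ idx (s ^ i • χ)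
  let P : Module.End K (Fin d → K) := ∑ χ ∈ rep, weightIdem A ρ χ
  have hmod : ∀ (i : ℕ) (χ : A →* Kˣ), s ^ (i % r) • χ = s ^ i • χ := fun i χ => by
    rw [← pow_eq_pow_mod i hs]
  have hPP : ∀ i j, i < r → j < r → ρ (s ^ i) * P * ρ (s ^ i)⁻¹ * (ρ (s ^ j) * P * ρ (s ^ j)⁻¹) =
      if i = j then ρ (s ^ i) * P * ρ (s ^ i)⁻¹ else 0 := by
    have hconj : ∀ i, ρ (s ^ i) * P * ρ (s ^ i)⁻¹ = ∑ χ ∈ rep, weightIdem A ρ (s ^ i • χ) := by
      intro i
      rw [Finset.mul_sum, Finset.sum_mul]
      refine Finset.sum_congr rfl fun χ _ => ?_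
      rw [map_mul_weightIdem_smul, mul_assoc, ← map_mul, mul_inv_cancel, map_one, mul_one]
    intro i j hi hj
    rw [hconj, hconj, Finset.sum_mul]
    split_ifs with hij
    · subst hij
      refine Finset.sum_congr rfl fun χ hχ => ?_
      rw [Finset.mul_sum, Finset.sum_eq_single_of_mem χ hχ fun ψ _ hne =>
        weightIdem_orth ρ fun h => hne (smul_left_cancel _ h).symm]
      exact weightIdem_mul_self ρ hAK _
    · refine Finset.sum_eq_zero fun χ hχ => ?_
      rw [Finset.mul_sum]
      refine Finset.sum_eq_zero fun ψ hψ => weightIdem_orth ρ fun h => hij ?_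
      have hχ' := (Finset.mem_filter.1 hχ).2
      have hψ' := (Finset.mem_filter.1 hψ).2
      -- translate to the two representatives of one orbit
      have h1 : ψ = s ^ ((r - j + i) % r) • χ := by
        rw [hmod, pow_add, mul_smul, h, ← mul_smul, ← pow_add, Nat.sub_add_cancel hj.le, hs,
          one_smul]
      have h2 : χ = s ^ ((r - i + j) % r) • ψ := by
        rw [hmod, pow_add, mul_smul, ← h, ← mul_smul, ← pow_add, Nat.sub_add_cancel hi.le, hs,
          one_smul]
      have hle1 := hχ'.2 _ (Nat.mod_lt (r - j + i) hr.pos)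
      have hle2 := hψ'.2 _ (Nat.mod_lt (r - i + j) hr.pos)
      rw [← h1] at hle1; rw [← h2] at hle2
      have heq : χ = ψ := idx.injective (le_antisymm hle1 hle2)
      subst heq
      have hfree := regular_weight_free hAc hsum hr hs hfpf hχ'.1 h1.symm
      have h3 : (r - j + i) % r = 0 := Nat.eq_zero_of_dvd_of_lt hfree (Nat.mod_lt _ hr.pos)
      have h4 : r ∣ r - j + i := Nat.dvd_of_mod_eq_zero h3
      obtain ⟨c, hc⟩ := h4
      rcases c with _ | _ | c
      · omega
      · omega
      · exfalso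
        have : r * (c + 1 + 1) ≥ r * 2 := Nat.mul_le_mul_left r (by omega)
        omega
  have hone : ∑ i ∈ Finset.range r, ρ (s ^ i) * P * ρ (s ^ i)⁻¹ = 1 := by
    refine eq_of_forall_mul_weightIdem ρ hcommA hAK fun χ hχ => ?_
    rw [one_mul, Finset.sum_mul]
    obtain ⟨i₀, hi₀, hmin⟩ := Finset.exists_min_image (Finset.range r)
      (fun i => idx (s ^ i • χ)) ⟨0, Finset.mem_range.2 hr.pos⟩
    set ψ := s ^ i₀ • χ with hψ
    have hψrep : ψ ∈ rep := by
      refine Finset.mem_filter.2 ⟨Finset.mem_univ _, ?_, fun i _ => ?_⟩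
      · rw [Ne, hψ, weightIdem_smul_eq_zero_iff]; exact hχ
      · rw [hψ, ← mul_smul, ← pow_add, ← hmod (i + i₀) χ]
        exact hmin ((i + i₀) % r) (Finset.mem_range.2 (Nat.mod_lt (i + i₀) hr.pos))
    have hj₀ : s ^ ((r - i₀) % r) • ψ = χ := by
      rw [hmod, hψ, ← mul_smul, ← pow_add, Nat.sub_add_cancel (Finset.mem_range.1 hi₀).le, hs,
        one_smul]
    set j₀ := (r - i₀) % r with hj₀def
    have hj₀r : j₀ < r := Nat.mod_lt _ hr.pos
    have hj₀m : ρ (s ^ j₀) * P * ρ (s ^ j₀)⁻¹ * weightIdem A ρ χ = weightIdem A ρ χ := by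
      rw [mul_assoc (ρ (s ^ j₀) * P), map_mul_weightIdem_smul, ← hj₀, inv_smul_smul,
        ← mul_assoc, mul_assoc (ρ (s ^ j₀)), Finset.sum_mul,
        Finset.sum_eq_single_of_mem ψ hψrep fun φ _ hne => weightIdem_orth ρ hne,
        weightIdem_mul_self ρ hAK, map_mul_weightIdem_smul, mul_assoc, ← map_mul, mul_inv_cancel,
        map_one, mul_one]
    rw [Finset.sum_eq_single_of_mem j₀ (Finset.mem_range.2 hj₀r)]
    · exact hj₀m
    · intro j hj hne
      rw [← hj₀m, ← mul_assoc, hPP j j₀ (Finset.mem_range.1 hj) hj₀r, if_neg hne, zero_mul]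
  set k := Module.finrank K (LinearMap.range P)
  -- `W ≅ (range P) ^ r`
  let up : (Fin d → K) →ₗ[K] (Fin r → LinearMap.range P) :=
    LinearMap.pi fun i => P.rangeRestrict ∘ₗ ρ (s ^ (i : ℕ))⁻¹
  let down : (Fin r → LinearMap.range P) →ₗ[K] (Fin d → K) :=
    ∑ i : Fin r, ρ (s ^ (i : ℕ)) ∘ₗ (LinearMap.range P).subtype ∘ₗ LinearMap.proj i
  have hdu : ∀ v, down (up v) = v := fun v => by
    have h := LinearMap.congr_fun hone v
    rw [LinearMap.sum_apply, ← Fin.sum_univ_eq_sum_range
      (fun i => (ρ (s ^ i) * P * ρ (s ^ i)⁻¹) v) r] at h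
    simpa [up, down, LinearMap.sum_apply] using h
  have hud : ∀ f, up (down f) = f := by
    intro f
    funext i
    refine Subtype.ext ?_
    show P (ρ (s ^ (i : ℕ))⁻¹ (down f)) = f i
    simp only [down, LinearMap.sum_apply, LinearMap.comp_apply, LinearMap.proj_apply,
      Submodule.subtype_apply, map_sum]
    rw [Finset.sum_eq_single i]
    · obtain ⟨w, hw⟩ := (f i).2
      rw [← hw, ← Module.End.mul_apply (ρ (s ^ (i : ℕ))⁻¹), ← map_mul, inv_mul_cancel, map_one,
        Module.End.one_apply, ← Module.End.mul_apply]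
      have := hPP 0 0 hr.pos hr.pos
      simp only [pow_zero, map_one, one_mul, mul_one, inv_one, if_true] at this
      rw [this]
    · intro j _ hne
      obtain ⟨w, hw⟩ := (f j).2
      have h := hPP i j i.2 j.2
      rw [if_neg fun h => hne (Fin.ext h.symm)] at h
      have h2 := congrArg (fun z => ρ (s ^ (i : ℕ))⁻¹ * z * ρ (s ^ (j : ℕ))) h
      simp only [mul_zero, zero_mul, ← mul_assoc, ← map_mul, inv_mul_cancel, map_one,
        one_mul] at h2
      simp only [mul_assoc, ← map_mul, inv_mul_cancel, map_one, mul_one] at h2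
      rw [← hw]
      simpa [mul_assoc, map_mul] using LinearMap.congr_fun h2 w
    · simp
  have hd : d = r * k := by
    have e : (Fin d → K) ≃ₗ[K] (Fin r → LinearMap.range P) :=
      LinearEquiv.ofLinearMap up down (LinearMap.ext hud) (LinearMap.ext hdu)
    have h := e.finrank_eq
    rwa [Module.finrank_fintype_fun_eq_card, Fintype.card_fin, Module.finrank_pi_fintype,
      Finset.sum_const, Finset.card_univ, Fintype.card_fin, smul_eq_mul] at h
  refine ⟨d, k, hcard, hd, ?_⟩
  -- fixed vectors inject into `range P`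
  set D : AddMonoid.End V := DistribMulAction.toAddMonoidEnd Γ V s - 1 with hD
  have hrD : Nat.card (AddMonoidHom.range D) ≤ q ^ δ :=
    le_trans (Nat.le_of_dvd Nat.card_pos (AddSubgroup.card_dvd_of_le (by
      rintro _ ⟨v, rfl⟩
      exact sub_mem_movedSub (mem_zpowers s) v))) hδ
  have hb := hrank D δ hrD
  rw [hD, map_sub, map_one, ← hρ] at hb
  have hker : Module.finrank K (LinearMap.ker (ρ s - 1)) ≤ k := by
    refine LinearMap.finrank_le_finrank_of_injective
      (f := P.rangeRestrict ∘ₗ (LinearMap.ker (ρ s - 1)).subtype) ?_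
    rw [← LinearMap.ker_eq_bot, LinearMap.ker_eq_bot']
    intro v hv
    have hPv : P (v : Fin d → K) = 0 := congrArg Subtype.val hv
    have hsv : ρ s (v : Fin d → K) = v := by
      have := v.2
      rw [LinearMap.mem_ker, LinearMap.sub_apply, Module.End.one_apply, sub_eq_zero] at this
      exact this
    have hinv : ∀ i : ℕ, ρ (s ^ i)⁻¹ (v : Fin d → K) = v := by
      intro i
      have h1 : ρ (s ^ i) (v : Fin d → K) = v := by
        induction i with
        | zero => rw [pow_zero, map_one]; rfl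
        | succ i ih => rw [pow_succ, map_mul, Module.End.mul_apply, hsv, ih]
      conv_lhs => rw [← h1]
      rw [← Module.End.mul_apply, ← map_mul, inv_mul_cancel, map_one]; rfl
    refine Subtype.ext ?_
    refine (LinearMap.congr_fun hone (v : Fin d → K)).symm.trans ?_
    rw [LinearMap.sum_apply]
    exact Finset.sum_eq_zero fun i _ => by
      rw [Module.End.mul_apply, Module.End.mul_apply, hinv, hPv, map_zero]
  have hrn := LinearMap.finrank_range_add_finrank_ker (ρ s - 1)
  rw [Module.finrank_fintype_fun_eq_card, Fintype.card_fin] at hrn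
  rw [Nat.sub_mul, one_mul]
  omega

end CfsgLib.Solvable.TurullHeight
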