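import Mathlib.Algebra.Ring.Subring.Basic
import Mathlib.FieldTheory.Finite.Basic
import Mathlib.LinearAlgebra.LinearIndependent.Basic
import Mathlib.LinearAlgebra.Dimension.Constructions
import Mathlib.RingTheory.IntegralDomain
import Mathlib.GroupTheory.Coset.Card
import Mathlib.Algebra.BigOperators.Fin
import Mathlib.Tactic.Ring
import Mathlib.Data.Fintype.Sets
import Mathlib.Data.SetLike.Fintype
import Mathlib.RingTheory.Finiteness.Cardinality
import Mathlib.LinearAlgebra.FiniteDimensional.Basic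
import Mathlib.Tactic.Abel
import Mathlib.Tactic.LinearCombination

/-!
# Isometries of alternating forms with values in roots of unity
-/

set_option autoImplicit false

namespace CfsgLib.Solvable.TurullHeight

variable {M : Type*} [AddCommGroup M]

/-- A character group is no larger than the group. -/
theorem natCard_monoidHom_le {A : Type*} [CommGroup A] [Finite A] (K : Type*) [Field K] :
    Finite (A →* Kˣ) ∧ Nat.card (A →* Kˣ) ≤ Nat.card A := by
  classical
  haveI : Fintype A := Fintype.ofFinite A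
  have hinj : Function.Injective fun f : A →* Kˣ => (Units.coeHom K).comp f :=
    fun f g h => MonoidHom.ext fun a => Units.ext (DFunLike.congr_fun h a)
  have h : LinearIndependent K fun f : A →* Kˣ => (((Units.coeHom K).comp f : A →* K) : A → K) :=
    (linearIndependent_monoidHom A K).comp _ hinj
  haveI : Finite (A →* Kˣ) := h.finite
  haveI : Fintype (A →* Kˣ) := Fintype.ofFinite _
  refine ⟨inferInstance, ?_⟩
  rw [Nat.card_eq_fintype_card, Nat.card_eq_fintype_card]
  simpa using h.fintype_card_le_finrank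

/-- An isotropic subgroup has square at most the order. -/
theorem card_isotropic_sq_le [Finite M] {K : Type*} [Field K] (B : M →+ M →+ Additive Kˣ)
    (hnd : ∀ u, (∀ v, B u v = 0) → u = 0) (W : AddSubgroup M)
    (hW : ∀ u ∈ W, ∀ v ∈ W, B u v = 0) : Nat.card W * Nat.card W ≤ Nat.card M := by
  classical
  let P : AddSubgroup M := ⨅ w : W, (B (w : M)).ker
  have hP : ∀ v, v ∈ P ↔ ∀ w ∈ W, B w v = 0 := fun v => by simp [P, AddSubgroup.mem_iInf]
  have hWP : W ≤ P := fun v hv => (hP v).2 fun w hw => hW w hw v hv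
  let A := Multiplicative (M ⧸ P)
  let ψ : W → (A →* Kˣ) := fun w =>
    AddMonoidHom.toMultiplicativeLeft (QuotientAddGroup.lift P (B (w : M))
      fun v hv => (hP v).1 hv w w.2)
  have hinj : Function.Injective ψ := by
    intro a b h
    have h1 := AddMonoidHom.toMultiplicativeLeft.injective h
    refine Subtype.ext (sub_eq_zero.1 (hnd _ fun v => ?_))
    have h2 := DFunLike.congr_fun h1 (QuotientAddGroup.mk v)
    rw [map_sub, AddMonoidHom.sub_apply, sub_eq_zero]
    exact h2
  obtain ⟨hfin, hle⟩ := natCard_monoidHom_le (A := A) K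
  calc Nat.card W * Nat.card W ≤ Nat.card (M ⧸ P) * Nat.card P :=
        Nat.mul_le_mul ((Nat.card_le_card_of_injective ψ hinj).trans hle)
          (AddSubgroup.card_le_of_le hWP)
    _ = Nat.card M := (AddSubgroup.card_eq_card_quotient_mul_card_addSubgroup P).symm

section Endo

variable {g : AddMonoid.End M}

theorem pow_add_apply (g : AddMonoid.End M) (i j : ℕ) (v : M) :
    (g ^ (i + j)) v = (g ^ i) ((g ^ j) v) := by
  rw [pow_add]; rfl

/-- An endomorphism commuting with `g` has a stable kernel. -/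
theorem eq_zero_of_commute (hirr : ∀ U : AddSubgroup M, (∀ u ∈ U, g u ∈ U) → U = ⊥ ∨ U = ⊤)
    {x : AddMonoid.End M} (hx : Commute g x) {v : M} (hv : v ≠ 0) (h : x v = 0) : x = 0 := by
  rcases hirr (AddMonoidHom.ker x) fun u hu => (show x (g u) = 0 from by
      have := DFunLike.congr_fun hx.eq u
      exact this.symm.trans (by show g (x u) = 0; rw [show x u = 0 from hu, map_zero])) with hb | ht
  · refine absurd ?_ hv
    rw [← AddSubgroup.mem_bot, ← hb]; exact h
  · exact AddMonoidHom.ext fun u => (show u ∈ AddMonoidHom.ker x by rw [ht]; trivial)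

theorem commute_of_mem_closure {x y : AddMonoid.End M}
    (hy : y ∈ Subring.closure ({g} : Set (AddMonoid.End M))) (hx : Commute g x) : Commute y x := by
  induction hy using Subring.closure_induction with
  | mem z hz => rw [Set.mem_singleton_iff.1 hz]; exact hx
  | zero => exact Commute.zero_left x
  | one => exact Commute.one_left x
  | add a b _ _ ha hb => exact ha.add_left hb
  | neg a _ ha => exact ha.neg_left
  | mul a b _ _ ha hb => exact ha.mul_left hb

/-- Over an irreducible cyclic module, whatever commutes with `g` is a polynomial in it. -/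
theorem mem_closure_of_commute (hirr : ∀ U : AddSubgroup M, (∀ u ∈ U, g u ∈ U) → U = ⊥ ∨ U = ⊤)
    {x : AddMonoid.End M} (hx : Commute g x) :
    x ∈ Subring.closure ({g} : Set (AddMonoid.End M)) := by
  by_cases hM : ∀ v : M, v = 0
  · have : x = 0 := AddMonoidHom.ext fun v => (hM (x v)).trans (hM _).symm
    rw [this]; exact zero_mem _
  push Not at hM
  obtain ⟨v, hv⟩ := hM
  set F := Subring.closure ({g} : Set (AddMonoid.End M))
  let U : AddSubgroup M :=
    { carrier := {w | ∃ f ∈ F, f v = w}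
      zero_mem' := ⟨0, zero_mem _, rfl⟩
      add_mem' := by
        rintro _ _ ⟨a, ha, rfl⟩ ⟨b, hb, rfl⟩; exact ⟨a + b, add_mem ha hb, rfl⟩
      neg_mem' := by rintro _ ⟨a, ha, rfl⟩; exact ⟨-a, neg_mem ha, rfl⟩ }
  rcases hirr U (by
      rintro _ ⟨a, ha, rfl⟩
      exact ⟨g * a, mul_mem (Subring.subset_closure rfl) ha, rfl⟩) with hb | ht
  · refine absurd ?_ hv
    rw [← AddSubgroup.mem_bot, ← hb]; exact ⟨1, one_mem _, rfl⟩
  · obtain ⟨f, hf, hfv⟩ : x v ∈ U := by rw [ht]; trivial
    have hgf : Commute g f := (commute_of_mem_closure hf (Commute.refl g)).symm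
    have hz : x - f = 0 := eq_zero_of_commute hirr (hx.sub_right hgf) hv (by
      show x v - f v = 0
      rw [hfv, sub_self])
    rw [sub_eq_zero] at hz
    exact hz ▸ hf

/-- Whatever commutes with `g` commutes among itself. -/
theorem commute_of_irreducible (hirr : ∀ U : AddSubgroup M, (∀ u ∈ U, g u ∈ U) → U = ⊥ ∨ U = ⊤)
    {x y : AddMonoid.End M} (hx : Commute g x) (hy : Commute g y) : Commute x y :=
  commute_of_mem_closure (mem_closure_of_commute hirr hx) hy

variable {T : Type*} [AddCommGroup T]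

/-- In characteristic two, an isometry commuting with an irreducible `g` with `g ^ (2 ^ a + 1) = 1`
has order dividing `2 ^ a + 1`. -/
theorem pow_eq_one_of_isometry (B : M →+ M →+ T) (hnd : ∀ v, (∀ u, B u v = 0) → v = 0)
    (h2 : ∀ v : M, 2 • v = 0) {a : ℕ} (hN : g ^ (2 ^ a + 1) = 1)
    (hg : ∀ u v, B (g u) (g v) = B u v)
    (hirr : ∀ U : AddSubgroup M, (∀ u ∈ U, g u ∈ U) → U = ⊥ ∨ U = ⊤)
    {x : AddMonoid.End M} (hx : Commute g x) (hxB : ∀ u v, B (x u) (x v) = B u v) :
    x ^ (2 ^ a + 1) = 1 := by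
  set F := Subring.closure ({g} : Set (AddMonoid.End M))
  have hcomm : ∀ f ∈ F, ∀ f' ∈ F, Commute f f' := fun f hf f' hf' =>
    commute_of_mem_closure hf (commute_of_mem_closure hf' (Commute.refl g)).symm
  have h20 : (2 : AddMonoid.End M) = 0 := AddMonoidHom.ext fun v => by
    show (2 : AddMonoid.End M) v = 0
    rw [show (2 : AddMonoid.End M) = 1 + 1 by norm_num]
    show v + v = 0
    rw [← two_nsmul]; exact h2 v
  have hfrob : ∀ (n : ℕ) (f f' : AddMonoid.End M), Commute f f' →
      (f + f') ^ 2 ^ n = f ^ 2 ^ n + f' ^ 2 ^ n := by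
    intro n f f' hff
    induction n with
    | zero => simp
    | succ n ih =>
      rw [pow_succ, pow_mul, ih, (hff.pow_pow _ _).add_sq, h20, zero_mul, zero_mul, add_zero,
        ← pow_mul, ← pow_mul]
  have hP : ∀ f ∈ F, ∀ u v, B (f u) v = B u ((f ^ 2 ^ a) v) := by
    intro f hf
    induction hf using Subring.closure_induction with
    | mem z hz =>
      rw [Set.mem_singleton_iff.1 hz]
      intro u v
      conv_lhs => rw [show v = g ((g ^ 2 ^ a) v) from by
        have := DFunLike.congr_fun hN v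
        rw [add_comm, pow_add_apply, pow_one] at this
        exact this.symm]
      exact hg _ _
    | zero => intro u v; simp [zero_pow (pow_pos two_pos a).ne']
    | one => intro u v; simp
    | add f f' hf hf' e e' =>
      intro u v
      rw [hfrob a f f' (hcomm f hf f' hf')]
      show B (f u + f' u) v = B u ((f ^ 2 ^ a) v + (f' ^ 2 ^ a) v)
      rw [map_add, AddMonoidHom.add_apply, map_add, e, e']
    | neg f hf e =>
      intro u v
      have hneg : -f = f := by
        rw [neg_eq_iff_add_eq_zero, ← two_mul, h20, zero_mul]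
      rw [hneg]; exact e u v
    | mul f f' hf hf' e e' =>
      intro u v
      rw [(hcomm f hf f' hf').mul_pow, ((hcomm f hf f' hf').pow_pow _ _).eq]
      show B (f (f' u)) v = B u ((f' ^ 2 ^ a) ((f ^ 2 ^ a) v))
      rw [e, e']
  refine AddMonoidHom.ext fun v => sub_eq_zero.1 (hnd _ fun u => ?_)
  show B u ((x ^ (2 ^ a + 1)) v - v) = 0
  rw [map_sub, pow_add_apply, pow_one, ← hP x (mem_closure_of_commute hirr hx), hxB, sub_self]

/-- A unit moved to its inverse by an endomorphism of a finite domain. -/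
theorem exists_pow_succ_eq_one {F : Type*} [CommRing F] [IsDomain F] [Finite F] (σ : F →+* F)
    (γ γ' : F) (hγγ' : γ * γ' = 1) (hσγ : σ γ = γ') (hσγ' : σ γ' = γ) (hne : γ' ≠ γ) :
    ∃ Q : ℕ, Q * Q ≤ Nat.card F ∧ γ ^ (Q + 1) = 1 := by
  classical
  let F₀ : Subring F := RingHom.eqLocus σ (RingHom.id F)
  have hF₀ : ∀ x, x ∈ F₀ ↔ σ x = x := fun x => Iff.rfl
  have hγF₀ : γ ∉ F₀ := fun h => hne (by rw [hF₀, hσγ] at h; exact h)
  letI : Field F₀ := (Finite.isField_of_domain F₀).toField
  haveI : Fintype F₀ := Fintype.ofFinite F₀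
  refine ⟨Fintype.card F₀, ?_, ?_⟩
  · have h1 : Nat.card (F₀ × F₀) ≤ Nat.card F := by
      refine Nat.card_le_card_of_injective (fun p => (p.1 : F) + (p.2 : F) * γ) fun p p' h => ?_
      have h' : (p.1 : F) + (p.2 : F) * γ = (p'.1 : F) + (p'.2 : F) * γ := h
      have he : ((p.1 : F) - p'.1) = ((p'.2 : F) - p.2) * γ := by linear_combination h'
      have h2 : p.2 = p'.2 := by
        by_contra hne'
        refine hγF₀ ((hF₀ γ).2 ?_)
        have e1 := congrArg σ he
        rw [map_sub, map_mul, map_sub, (hF₀ _).1 p.1.2, (hF₀ _).1 p'.1.2, (hF₀ _).1 p.2.2,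
          (hF₀ _).1 p'.2.2, he] at e1
        exact (mul_left_cancel₀ (sub_ne_zero.2 fun h0 => hne' (Subtype.ext h0).symm) e1).symm
      refine Prod.ext (Subtype.ext ?_) h2
      rw [h2] at h'
      exact add_right_cancel h'
    rwa [Nat.card_prod, Nat.card_eq_fintype_card (α := F₀)] at h1
  letI : Algebra F₀ F := F₀.subtype.toAlgebra
  let φ := FiniteField.frobeniusAlgHom F₀ F
  set Q := Fintype.card F₀ with hQ
  have hφ : ∀ x, φ x = x ^ Q := fun x => rfl
  have hroot : γ ^ Q ≠ γ := by
    intro h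
    let P : Polynomial F := Polynomial.X ^ Q - Polynomial.X
    have hQ1 : 1 < Q := Fintype.one_lt_card
    have hdeg : P.natDegree = Q := by
      rw [Polynomial.natDegree_sub_eq_left_of_natDegree_lt
        (by rw [Polynomial.natDegree_X, Polynomial.natDegree_X_pow]; exact hQ1),
        Polynomial.natDegree_X_pow]
    have hP0 : P ≠ 0 := fun h0 => by rw [h0, Polynomial.natDegree_zero] at hdeg; omega
    let Z : Finset F := insert γ (Finset.univ.map ⟨fun x : F₀ => (x : F), Subtype.val_injective⟩)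
    have hZ : ∀ x ∈ Z, P.eval x = 0 := by
      intro x hx
      rcases Finset.mem_insert.1 hx with rfl | hx
      · simp [P, h]
      · obtain ⟨y, -, rfl⟩ := Finset.mem_map.1 hx
        have hy : ((y ^ Q : F₀) : F) = y := congrArg Subtype.val (FiniteField.pow_card y)
        simp only [P, Polynomial.eval_sub, Polynomial.eval_pow, Polynomial.eval_X,
          Function.Embedding.coeFn_mk]
        exact sub_eq_zero.2 hy
    have h1 := Polynomial.card_le_degree_of_subset_roots (p := P) (Z := Z)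
      fun x hx => (Polynomial.mem_roots hP0).2 (hZ x hx)
    rw [hdeg, Finset.card_insert_of_notMem (by
      simp only [Finset.mem_map, Finset.mem_univ, true_and, not_exists]
      exact fun y hy => hγF₀ (hy ▸ y.2)), Finset.card_map, Finset.card_univ] at h1
    omega
  have ht : γ + γ' ∈ F₀ := by rw [hF₀, map_add, hσγ, hσγ', add_comm]
  have hT : φ (γ + γ') = γ + γ' := φ.commutes (⟨_, ht⟩ : F₀)
  rw [map_add, hφ, hφ] at hT
  have hmul : γ ^ Q * γ' ^ Q = 1 := by rw [← mul_pow, hγγ', one_pow]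
  have h0 : (γ ^ Q - γ) * (γ ^ Q - γ') = 0 := by
    linear_combination (γ ^ Q) * hT + hγγ' - hmul
  rcases mul_eq_zero.1 h0 with h1 | h1
  · exact absurd (sub_eq_zero.1 h1) hroot
  · rw [pow_succ', sub_eq_zero.1 h1, hγγ']

/-- The order of a semiregular isometry of a nondegenerate module. -/
theorem sub_one_sq_le_card [Finite M] {K : Type*} [Field K] (B : M →+ M →+ Additive Kˣ)
    (hnd : ∀ u, (∀ v, B u v = 0) → u = 0) (hB : ∀ u v, B u v = 0 → B v u = 0)
    {N : ℕ} (hN : g ^ N = 1) (hg : ∀ u v, B (g u) (g v) = B u v)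
    (hfree : ∀ k, 0 < k → k < N → ∀ v, (g ^ k) v = v → v = 0) (hM : Nontrivial M) :
    (N - 1) * (N - 1) ≤ Nat.card M := by
  classical
  rcases Nat.lt_or_ge N 3 with hN3 | hN3
  · have h1 : (N - 1) * (N - 1) ≤ 1 * 1 := Nat.mul_le_mul (by omega) (by omega)
    exact h1.trans (Nat.card_pos)
  have hgN : ∀ v, (g ^ N) v = v := fun v => by rw [hN]; rfl
  obtain ⟨U, -, hU⟩ := Finite.exists_le_minimal
    (p := fun U : AddSubgroup M => U ≠ ⊥ ∧ ∀ u ∈ U, g u ∈ U) (a := ⊤)
    ⟨top_ne_bot, fun u _ => trivial⟩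
  obtain ⟨hU0, hUg⟩ := hU.prop
  have hUmin : ∀ W ≤ U, (∀ u ∈ W, g u ∈ W) → W = ⊥ ∨ W = U := fun W hW hWg =>
    or_iff_not_imp_left.2 fun h0 => le_antisymm hW (hU.le_of_le ⟨h0, hWg⟩ hW)
  obtain ⟨v₀, hv₀U, hv₀⟩ : ∃ v ∈ U, v ≠ 0 :=
    (AddSubgroup.bot_or_exists_ne_zero U).resolve_left hU0
  have hgU : ∀ k, ∀ u ∈ U, (g ^ k) u ∈ U := by
    intro k
    induction k with
    | zero => exact fun u hu => hu
    | succ k ih => intro u hu; rw [pow_succ]; exact ih _ (hUg u hu)
  have hNU : N + 1 ≤ Nat.card U := by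
    let f : Option (Fin N) → U := fun o => o.elim 0 fun k => ⟨(g ^ (k : ℕ)) v₀, hgU _ _ hv₀U⟩
    have hne : ∀ k : Fin N, (g ^ (k : ℕ)) v₀ ≠ 0 := fun k h => hv₀ (by
      have h1 := hgN v₀
      rw [← Nat.sub_add_cancel k.2.le, pow_add_apply, h, map_zero] at h1
      exact h1.symm)
    have hf : Function.Injective f := by
      have hlt : ∀ i j : Fin N, i.1 < j.1 → (g ^ i.1) v₀ ≠ (g ^ j.1) v₀ := by
        intro i j hij h
        rw [← Nat.sub_add_cancel hij.le, pow_add_apply] at h
        exact hne i (hfree _ (by omega) (by omega) _ h.symm)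
      rintro (_ | i) (_ | j) h
      · rfl
      · exact absurd (congrArg Subtype.val h).symm (hne j)
      · exact absurd (congrArg Subtype.val h) (hne i)
      · rcases lt_trichotomy i.1 j.1 with h' | h' | h'
        · exact absurd (congrArg Subtype.val h) (hlt i j h')
        · rw [Fin.ext h']
        · exact absurd (congrArg Subtype.val h).symm (hlt j i h')
    have h1 := Nat.card_le_card_of_injective f hf
    rw [Finite.card_option, Nat.card_fin] at h1
    exact h1
  by_cases hiso : ∀ u ∈ U, ∀ v ∈ U, B u v = 0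
  · exact (Nat.mul_le_mul (by omega) (by omega)).trans (card_isotropic_sq_le B hnd U hiso)
  -- `U` is nondegenerate and irreducible
  have hsurj : ∀ u ∈ U, ∃ u' ∈ U, g u' = u := fun u hu =>
    ⟨(g ^ (N - 1)) u, hgU _ u hu, by
      have := hgN u
      rw [show N = 1 + (N - 1) by omega, pow_add_apply, pow_one] at this
      exact this⟩
  have hndU : ∀ u ∈ U, (∀ v ∈ U, B u v = 0) → u = 0 := by
    intro u hu h
    let R : AddSubgroup M := U ⊓ ⨅ v : U, (B.flip (v : M)).ker
    have hR : ∀ w, w ∈ R ↔ w ∈ U ∧ ∀ v ∈ U, B w v = 0 := fun w => by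
      simp [R, AddSubgroup.mem_iInf]
    rcases hUmin R inf_le_left (fun w hw => (hR _).2 ⟨hUg w ((hR w).1 hw).1, fun v hv => by
        obtain ⟨v', hv', rfl⟩ := hsurj v hv
        rw [hg]; exact ((hR w).1 hw).2 v' hv'⟩) with hb | ht
    · rw [← AddSubgroup.mem_bot, ← hb]; exact (hR u).2 ⟨hu, h⟩
    · exact absurd (fun a ha b hb => ((hR a).1 (ht.symm ▸ ha)).2 b hb) hiso
  let g₀ : AddMonoid.End U :=
    AddMonoidHom.codRestrict ((g : M →+ M).comp U.subtype) U fun u => hUg _ u.2
  have hg₀ : ∀ (k : ℕ) (u : U), (((g₀ ^ k) u : U) : M) = (g ^ k) u := by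
    intro k
    induction k with
    | zero => exact fun u => rfl
    | succ k ih => intro u; rw [pow_succ, pow_succ]; exact ih (g₀ u)
  have hirr : ∀ W : AddSubgroup U, (∀ u ∈ W, g₀ u ∈ W) → W = ⊥ ∨ W = ⊤ := by
    intro W hW
    rcases hUmin (W.map U.subtype) (by rintro _ ⟨w, -, rfl⟩; exact w.2) (by
        rintro _ ⟨w, hw, rfl⟩; exact ⟨g₀ w, hW w hw, rfl⟩) with hb | ht
    · exact Or.inl ((AddSubgroup.map_eq_bot_iff_of_injective _ U.subtype_injective).1 hb)
    · refine Or.inr (AddSubgroup.map_injective U.subtype_injective (ht.trans ?_))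
      ext w; exact ⟨fun hw => ⟨⟨w, hw⟩, trivial, rfl⟩, fun ⟨w', _, e⟩ => e ▸ w'.2⟩
  set F := Subring.closure ({g₀} : Set (AddMonoid.End U)) with hF
  have hcomm : ∀ f ∈ F, ∀ f' ∈ F, Commute f f' := fun f hf f' hf' =>
    commute_of_mem_closure hf (commute_of_mem_closure hf' (Commute.refl g₀)).symm
  letI : CommRing F :=
    { (inferInstance : Ring F) with mul_comm := fun a b => Subtype.ext (hcomm a a.2 b b.2) }
  haveI : Finite (AddMonoid.End U) :=
    Finite.of_injective (fun f : U →+ U => (f : U → U)) DFunLike.coe_injective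
  haveI : Nontrivial F := ⟨⟨0, 1, fun h => hv₀ (congrArg Subtype.val
    (DFunLike.congr_fun (congrArg Subtype.val h) (⟨v₀, hv₀U⟩ : U))).symm⟩⟩
  have hmul0 : ∀ a b : F, a * b = 0 → a = 0 ∨ b = 0 := by
    intro a b hab
    by_cases hb : b = 0
    · exact Or.inr hb
    left
    have hb' : ∃ v : U, (b : AddMonoid.End U) v ≠ 0 := by
      by_contra h
      push Not at h
      exact hb (Subtype.ext (AddMonoidHom.ext h))
    obtain ⟨v, hv⟩ := hb'
    refine Subtype.ext (eq_zero_of_commute hirr
      (commute_of_mem_closure a.2 (Commute.refl g₀)).symm hv ?_)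
    exact DFunLike.congr_fun (congrArg Subtype.val hab) v
  haveI : NoZeroDivisors F := ⟨fun {a b} => hmul0 a b⟩
  haveI : IsDomain F := NoZeroDivisors.to_isDomain F
  let γ : F := ⟨g₀, Subring.subset_closure rfl⟩
  have hγ : γ ^ N = 1 := Subtype.ext (AddMonoidHom.ext fun u => Subtype.ext (by
    show (((g₀ ^ N) u : U) : M) = u
    rw [hg₀, hgN]))
  let γ' : F := γ ^ (N - 1)
  have hγγ' : γ * γ' = 1 := by
    show γ * γ ^ (N - 1) = 1
    rw [← pow_succ', Nat.sub_add_cancel (by omega), hγ]
  -- the adjoint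
  let Adj : F → F → Prop := fun f f' =>
    ∀ u v : U, B ((f : AddMonoid.End U) u : U) v = B u ((f' : AddMonoid.End U) v : U)
  have hadj_unique : ∀ {f f₁ f₂ : F}, Adj f f₁ → Adj f f₂ → f₁ = f₂ := by
    intro f f₁ f₂ h₁ h₂
    refine Subtype.ext (AddMonoidHom.ext fun v => ?_)
    refine sub_eq_zero.1 (Subtype.ext (hndU _ (Subtype.prop _) fun u hu => hB _ _ ?_))
    rw [AddSubgroup.coe_sub, map_sub]
    exact sub_eq_zero.2 ((h₁ ⟨u, hu⟩ v).symm.trans (h₂ ⟨u, hu⟩ v))
  have hadj_γ : Adj γ γ' := by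
    intro u v
    show B (g u) v = B u (((g₀ ^ (N - 1)) v : U) : M)
    rw [hg₀]
    conv_lhs => rw [show (v : M) = g ((g ^ (N - 1)) v) from by
      have := hgN v
      rw [show N = 1 + (N - 1) by omega, pow_add_apply, pow_one] at this
      exact this.symm]
    exact hg _ _
  have hadj_zero : Adj 0 0 := fun u v => by
    show B (0 : M) v = B u (0 : M)
    simp
  have hadj_one : Adj 1 1 := fun u v => rfl
  have hadj_add : ∀ {a a' b b' : F}, Adj a a' → Adj b b' → Adj (a + b) (a' + b') := by
    intro a a' b b' ha hb u v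
    show B (((a : AddMonoid.End U) u : U) + ((b : AddMonoid.End U) u : U) : M) v =
      B u ((((a' : AddMonoid.End U) v : U) : M) + (((b' : AddMonoid.End U) v : U) : M))
    rw [map_add, AddMonoidHom.add_apply, map_add, ha, hb]
  have hadj_mul : ∀ {a a' b b' : F}, Adj a a' → Adj b b' → Adj (a * b) (a' * b') := by
    intro a a' b b' ha hb u v
    rw [mul_comm a' b']
    exact (ha _ v).trans (hb u _)
  have hex : ∀ f : F, ∃ f', Adj f f' := by
    rintro ⟨f, hf⟩
    induction hf using Subring.closure_induction with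
    | mem z hz => obtain rfl := Set.mem_singleton_iff.1 hz; exact ⟨γ', hadj_γ⟩
    | zero => exact ⟨0, hadj_zero⟩
    | one => exact ⟨1, hadj_one⟩
    | add a b ha hb e e' =>
      obtain ⟨a', ha'⟩ := e; obtain ⟨b', hb'⟩ := e'
      exact ⟨a' + b', hadj_add ha' hb'⟩
    | neg a ha e =>
      obtain ⟨a', ha'⟩ := e
      refine ⟨-a', fun u v => ?_⟩
      show B (-((a u : U) : M)) v = B u (-(((a' : AddMonoid.End U) v : U) : M))
      rw [map_neg, AddMonoidHom.neg_apply, map_neg]
      exact congrArg Neg.neg (ha' u v)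
    | mul a b ha hb e e' =>
      obtain ⟨a', ha'⟩ := e; obtain ⟨b', hb'⟩ := e'
      exact ⟨a' * b', hadj_mul ha' hb'⟩
  choose star hstar using hex
  let σ : F →+* F :=
    { toFun := star
      map_one' := hadj_unique (hstar 1) hadj_one
      map_mul' := fun a b => hadj_unique (hstar _) (hadj_mul (hstar a) (hstar b))
      map_zero' := hadj_unique (hstar 0) hadj_zero
      map_add' := fun a b => hadj_unique (hstar _) (hadj_add (hstar a) (hstar b)) }
  have hσγ : σ γ = γ' := hadj_unique (hstar γ) hadj_γ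
  have hσγ' : σ γ' = γ := by
    have h1 : γ' * σ γ' = 1 := by rw [← hσγ, ← map_mul, hσγ, hγγ', map_one]
    calc σ γ' = γ * γ' * σ γ' := by rw [hγγ', one_mul]
      _ = γ := by rw [mul_assoc, h1, mul_one]
  have hγne : γ' ≠ γ := by
    intro h
    rw [h] at hγγ'
    refine hv₀ (hfree 2 (by omega) (by omega) v₀ ?_)
    have h2 : γ ^ 2 = 1 := (sq γ).trans hγγ'
    have h3 := congrArg Subtype.val
      (DFunLike.congr_fun (congrArg Subtype.val h2) (⟨v₀, hv₀U⟩ : U))
    exact (hg₀ 2 ⟨v₀, hv₀U⟩).symm.trans h3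
  obtain ⟨Q, hQF, hfin⟩ := exists_pow_succ_eq_one σ γ γ' hγγ' hσγ hσγ' hγne
  have hsq : Q * Q ≤ Nat.card U := by
    refine hQF.trans (Nat.card_le_card_of_injective
      (fun f : F => (f : AddMonoid.End U) ⟨v₀, hv₀U⟩) fun a b h => sub_eq_zero.1 ?_)
    refine Subtype.ext (eq_zero_of_commute hirr
      (commute_of_mem_closure (a - b).2 (Commute.refl g₀)).symm
      (v := (⟨v₀, hv₀U⟩ : U)) (fun h0 => hv₀ (congrArg Subtype.val h0)) ?_)
    show (a : AddMonoid.End U) _ - (b : AddMonoid.End U) _ = 0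
    exact sub_eq_zero.2 h
  have hNQ : N ≤ Q + 1 := by
    by_contra hlt
    refine hv₀ (hfree (Q + 1) (by omega) (by omega) v₀ ?_)
    have h3 := congrArg Subtype.val
      (DFunLike.congr_fun (congrArg Subtype.val hfin) (⟨v₀, hv₀U⟩ : U))
    exact (hg₀ (Q + 1) ⟨v₀, hv₀U⟩).symm.trans h3
  exact (Nat.mul_le_mul (by omega) (by omega)).trans
    (hsq.trans (AddSubgroup.card_le_card_addGroup U))

end Endo

end CfsgLib.Solvable.TurullHeight
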