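import Cfsg.Agent.Lib.Solvable.TurullHeight.Symp
import Cfsg.Agent.Lib.Solvable.TurullHeight.Form
import Mathlib.Data.ZMod.QuotientGroup
import Mathlib.Tactic.Zify
import Mathlib.Tactic.Linarith

/-!
# An operator sending fixed vectors to killed ones fixes them

`R` is a class two group whose centre is fixed by `s`, `M = R / Z(R)`.  A product of translates
of a fixed character by a well placed element of `R` shows that `t` fixes the fixed vectors.
-/

set_option autoImplicit false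

namespace CfsgLib.Solvable.TurullHeight

open Subgroup CfsgLib
open scoped commutatorElement

universe u

/-- The hypotheses on a class two group with operators `s`. -/
structure CentralSetup {Γ : Type*} [Group Γ] (R : Subgroup Γ) (s : Γ) (r : ℕ) (V : Type*)
    [AddCommGroup V] [DistribMulAction Γ V] : Prop where
  prime : r.Prime
  pow : s ^ r = 1
  copr : (Nat.card R).Coprime r
  copV : (Nat.card R).Coprime (Nat.card V)
  coprV : r.Coprime (Nat.card V)
  class2 : ∀ a ∈ R, ∀ b ∈ R, ⁅a, b⁆ ∈ cenIn R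
  centre : ∀ z ∈ cenIn R, s * z = z * s
  fix : ∀ a ∈ R, s * a = a * s → a ∈ cenIn R
  free : ∀ z ∈ cenIn R, z ≠ 1 → fixedSub V (zpowers z) = ⊥

namespace SympModule

variable {Γ : Type u} [Group Γ] {R : Subgroup Γ} {T : Type*} [CommGroup T] {χ : cenIn R →* T}
  {M : Type u} [AddCommGroup M] [DistribMulAction Γ M] {cl : R → M} {B : M →+ M →+ Additive T}

theorem map_sub (hM : SympModule R χ M cl B) (a b : R) : cl (a * b⁻¹) = cl a - cl b := by
  have h : cl (a * b⁻¹) + cl b = cl a := by rw [← hM.map_mul, inv_mul_cancel_right]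
  rw [← h, add_sub_cancel_right]

/-- Modulo the centre, `s` has no fixed point. -/
theorem free [Finite Γ] [R.Normal] {s : Γ} {r : ℕ} {V : Type*} [AddCommGroup V] [DistribMulAction Γ V]
    (hM : SympModule R χ M cl B) (h : CentralSetup R s r V) {m : M} (hm : s • m = m) : m = 0 := by
  obtain ⟨a, rfl⟩ := hM.surj m
  have hmem : s * a * s⁻¹ ∈ R := (inferInstance : R.Normal).conj_mem _ a.2 s
  have h1 : cl ⟨s * a * s⁻¹, hmem⟩ = cl a := (hM.map_conj s a hmem).trans hm
  have h2 : ⁅s, (a : Γ)⁆ ∈ cenIn R := by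
    have := (hM.eq_zero (⟨s * a * s⁻¹, hmem⟩ * a⁻¹)).1 (by rw [hM.map_sub, h1, sub_self])
    simpa [commutatorElement_def] using this
  obtain ⟨n, hn, hc⟩ := Coprime.exists_mul_mem_centralizer (A := zpowers s) (N := cenIn R)
    (k := (a : Γ)) (by rw [normalizer_eq_top]; exact le_top)
    (by
      rw [Nat.card_zpowers]
      exact ((h.copr.coprime_dvd_left (card_dvd_of_le inf_le_left)).coprime_dvd_right
        (orderOf_dvd_of_pow_eq_one h.pow)).symm)
    (Or.inl (Coprime.isSolvable_zpowers s)) fun g hg => by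
      obtain ⟨k, rfl⟩ := (mem_powers_iff_mem_zpowers (x := s)).2 hg
      exact commutator_pow_mem h2 k
  have h3 : n * a ∈ cenIn R :=
    h.fix _ (mul_mem (mem_cenIn.1 hn).1 a.2) (mem_centralizer_iff.1 hc s (mem_zpowers s))
  exact (hM.eq_zero a).2 (by simpa using mul_mem (inv_mem hn) h3)

/-- A subgroup of operators of coprime order centralising commutators has a nondegenerate fixed
module. -/
theorem nondeg_fixedSub [Finite Γ] (hM : SympModule R χ M cl B) {Q : Subgroup Γ}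
    (hQ : (Nat.card Q).Coprime (Nat.card M))
    (hQc : ∀ g ∈ Q, ∀ a ∈ R, ∀ b ∈ R, g * ⁅a, b⁆ = ⁅a, b⁆ * g) {m : M}
    (hm : m ∈ fixedSub M Q) (h : ∀ m' ∈ fixedSub M Q, B m m' = 0) : m = 0 := by
  haveI := hM.finite
  refine hM.nondeg m (hom_eq_of_fixed_of_moved hQ h fun g hg v => ?_)
  rw [_root_.map_sub, sub_eq_zero]
  conv_lhs => rw [← mem_fixedSub.1 hm g hg]
  exact hM.isometry g (hQc g hg) m v

end SympModule

/-- Choosing a point avoiding few preimages of an isotropic subgroup. -/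
theorem exists_good {M : Type*} [AddCommGroup M] [Finite M] (B₀ : AddSubgroup M) {ι : Type*}
    (J : Finset ι) (f : ι → M →+ M) (hf : ∀ j ∈ J, Function.Injective (f j))
    (hcard : (Nat.card B₀ - 1) * (J.card + 1) + 1 < Nat.card M) :
    ∃ m : M, m ∉ B₀ ∧ ∀ j ∈ J, f j m ∉ B₀ := by
  classical
  haveI : Fintype M := Fintype.ofFinite M
  let S : Finset M := Finset.univ.filter fun m => m ∈ B₀ ∧ m ≠ 0
  have hS : S.card = Nat.card B₀ - 1 := by
    have h1 : S = (Finset.univ.filter fun m => m ∈ B₀).erase 0 := by ext m; simp [S, and_comm]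
    rw [h1, Finset.card_erase_of_mem (by simp)]
    rw [Nat.card_eq_fintype_card, ← Fintype.card_subtype]
  by_contra hno
  push Not at hno
  have hle : (Finset.univ : Finset M) ⊆
      insert 0 (S ∪ J.biUnion fun j => Finset.univ.filter fun m => f j m ∈ S) := by
    intro m _
    rw [Finset.mem_insert, or_iff_not_imp_left]
    intro hm
    rw [Finset.mem_union]
    by_cases hmB : m ∈ B₀
    · exact Or.inl (by simp [S, hmB, hm])
    obtain ⟨j, hj, hjm⟩ := hno m hmB
    refine Or.inr (Finset.mem_biUnion.2 ⟨j, hj, ?_⟩)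
    simp only [S, Finset.mem_filter, Finset.mem_univ, true_and]
    exact ⟨hjm, fun h0 => hm (hf j hj (h0.trans (map_zero (f j)).symm))⟩
  have h1 := Finset.card_le_card hle
  have h2 : (J.biUnion fun j => Finset.univ.filter fun m => f j m ∈ S).card ≤ J.card * S.card := by
    refine Finset.card_biUnion_le_card_mul _ _ _ fun j hj => ?_
    refine Finset.card_le_card_of_injOn (f j) (fun m hm => (Finset.mem_filter.1 hm).2) fun a _ b _ h =>
      hf j hj h
  have h3 := (Finset.card_insert_le (0 : M)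
    (S ∪ J.biUnion fun j => Finset.univ.filter fun m => f j m ∈ S))
  have h4 := Finset.card_union_le S (J.biUnion fun j => Finset.univ.filter fun m => f j m ∈ S)
  rw [Finset.card_univ, ← Nat.card_eq_fintype_card] at h1
  rw [hS] at h2 h4
  have : (Nat.card B₀ - 1) * (J.card + 1) = J.card * (Nat.card B₀ - 1) + (Nat.card B₀ - 1) := by ring
  omega

theorem sum_range_shift {E : Type*} [AddCommGroup E] (f : ℕ → E) {n : ℕ} (h : f n = f 0) :
    ∑ i ∈ Finset.range n, f (i + 1) = ∑ i ∈ Finset.range n, f i := by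
  have h1 := Finset.sum_range_succ f n
  rw [Finset.sum_range_succ' f n, h, add_right_cancel_iff] at h1
  exact h1

variable {Γ : Type u} [Group Γ] [Finite Γ] {V : Type*} [AddCommGroup V] [Finite V]
  [DistribMulAction Γ V] {T : Type*} [AddCommGroup T] {Ω : Set (V →+ T)}

/-- An operator moving fixed vectors into the killed ones fixes them. -/
theorem smul_eq_of_sub_mem_killedSub {R : Subgroup Γ} [hRn : R.Normal] {s : Γ} {r : ℕ}
    (h : CentralSetup R s r V) (hD : IsDatum Γ Ω) {K : Type*} [Field K] {χ : cenIn R →* Kˣ}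
    (hχ : ∀ a ∈ R, ∀ b ∈ R, ∀ hh : ⁅a, b⁆ ∈ cenIn R, χ ⟨⁅a, b⁆, hh⟩ = 1 → ⁅a, b⁆ = 1)
    {M : Type u} [AddCommGroup M] [DistribMulAction Γ M] {cl : R → M}
    {B : M →+ M →+ Additive Kˣ} (hM : SympModule R χ M cl B) (hne : ∃ m : M, m ≠ 0) {t : Γ}
    (hts : t * s = s * t) (htZ : ∀ z ∈ cenIn R, t * z = z * t)
    (htR : (orderOf t).Coprime (Nat.card R)) (htr : (orderOf t).Coprime r)
    (htk : ∀ c : V, s • c = c → t • c - c ∈ killedSub Ω s) {c : V} (hc : s • c = c) :
    t • c = c := by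
  classical
  haveI := hM.finite
  have hr := h.prime
  set w := t • c - c with hw
  have hwk : w ∈ killedSub Ω s := htk c hc
  refine sub_eq_zero.1 (hD.sep w fun ω hω => ?_)
  by_cases hωm : IsMoved s ω
  · exact hwk.2 ω hω hωm
  by_cases hω0 : ∀ v, ω v = 0
  · exact hω0 w
  have hfix : ∀ v, ω (s • v) = ω v := fun v => by
    by_contra h'; exact hωm ⟨v, h'⟩
  -- the stabiliser and its image
  let Bs : Subgroup Γ :=
    { carrier := {b | b ∈ R ∧ ∀ v, ω (b • v) = ω v}
      one_mem' := ⟨one_mem R, fun v => by rw [one_smul]⟩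
      mul_mem' := fun {x y} hx hy => ⟨mul_mem hx.1 hy.1, fun v => by rw [mul_smul, hx.2, hy.2]⟩
      inv_mem' := fun {x} hx => ⟨inv_mem hx.1, fun v => by
        rw [← hx.2 (x⁻¹ • v), smul_inv_smul]⟩ }
  have hBsZ : ∀ z ∈ Bs, z ∈ cenIn R → z = 1 := by
    intro z hz hzZ
    by_contra hz1
    refine hω0 fun v => hom_eq_zero_of_invariant (Q := zpowers z) ?_ (h.free z hzZ hz1) ?_ v
    · exact h.copV.coprime_dvd_left
        (card_dvd_of_le (zpowers_le.2 (mem_cenIn.1 hzZ).1))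
    · intro a ha v
      exact ((zpowers_le.2 hz : zpowers z ≤ Bs) ha).2 v
  let B₁ : AddSubgroup M :=
    { carrier := {m | ∃ b : R, (b : Γ) ∈ Bs ∧ cl b = m}
      zero_mem' := ⟨1, one_mem Bs, hM.map_one⟩
      add_mem' := by
        rintro _ _ ⟨a, ha, rfl⟩ ⟨b, hb, rfl⟩
        exact ⟨a * b, mul_mem ha hb, hM.map_mul a b⟩
      neg_mem' := by
        rintro _ ⟨a, ha, rfl⟩
        refine ⟨a⁻¹, inv_mem ha, eq_neg_of_add_eq_zero_left ?_⟩
        rw [← hM.map_mul, inv_mul_cancel, hM.map_one] }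
  have hB₁s : ∀ m ∈ B₁, s • m ∈ B₁ := by
    rintro _ ⟨b, hb, rfl⟩
    refine ⟨⟨s * b * s⁻¹, hRn.conj_mem _ b.2 s⟩, ⟨hRn.conj_mem _ b.2 s, fun v => ?_⟩,
      hM.map_conj s b _⟩
    show ω ((s * b * s⁻¹) • v) = ω v
    rw [mul_smul, mul_smul, hfix, hb.2, ← hfix (s⁻¹ • v), smul_inv_smul]
  have hB₁iso : ∀ m ∈ B₁, ∀ m' ∈ B₁, B m m' = 0 := by
    rintro _ ⟨a, ha, rfl⟩ _ ⟨b, hb, rfl⟩
    have hh := h.class2 _ a.2 _ b.2
    rw [hM.form a b hh, ofMul_eq_zero, ← map_one χ]
    congr 1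
    refine Subtype.ext (hBsZ _ ?_ hh)
    show ⁅(a : Γ), (b : Γ)⁆ ∈ Bs
    rw [commutatorElement_def]
    exact mul_mem (mul_mem (mul_mem ha hb) (inv_mem ha)) (inv_mem hb)
  -- a translate is moved when its class avoids the image of the stabiliser
  have hmoved : ∀ a : R, cl a ∉ B₁ → IsMoved s (ω.comp (DistribSMul.toAddMonoidHom V (a : Γ))) := by
    intro a ha
    by_contra hm
    have hmem : s * (a : Γ)⁻¹ * s⁻¹ ∈ R := hRn.conj_mem _ (inv_mem a.2) s
    have h1 : cl a - s • cl a ∈ B₁ := by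
      refine ⟨a * ⟨s * (a : Γ)⁻¹ * s⁻¹, hmem⟩, ⟨Subtype.prop _, fun v => ?_⟩, ?_⟩
      · have h2 := (not_moved_comp_iff hωm (a : Γ)).1 hm v
        rw [← h2]
        congr 2
        simp [commutatorElement_def, mul_assoc]
      · rw [hM.map_mul, sub_eq_add_neg]
        congr 1
        have e : (⟨s * (a : Γ)⁻¹ * s⁻¹, hmem⟩ : R) =
            (⟨s * a * s⁻¹, hRn.conj_mem _ a.2 s⟩ : R)⁻¹ :=
          Subtype.ext (by simp [mul_assoc])
        rw [e, eq_neg_iff_add_eq_zero, ← hM.map_conj s a (hRn.conj_mem _ a.2 s), ← hM.map_mul,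
          inv_mul_cancel, hM.map_one]
    -- `1 - s` permutes the image
    have hsurj : Function.Surjective fun b : B₁ =>
        (⟨(b : M) - s • (b : M), sub_mem b.2 (hB₁s _ b.2)⟩ : B₁) :=
      Finite.surjective_of_injective fun b b' hbb => by
        refine Subtype.ext (sub_eq_zero.1 (hM.free h ?_))
        have hb2 : (b : M) - s • (b : M) = b' - s • (b' : M) := congrArg Subtype.val hbb
        rw [smul_sub]
        rw [sub_eq_sub_iff_sub_eq_sub] at hb2
        exact hb2.symm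
    obtain ⟨b, hb⟩ := hsurj ⟨_, h1⟩
    have hb' : (b : M) - s • (b : M) = cl a - s • cl a := congrArg Subtype.val hb
    have h0 : cl a - (b : M) = 0 := hM.free h (by
      rw [smul_sub]
      rw [sub_eq_sub_iff_sub_eq_sub] at hb'
      rw [← neg_sub (s • (b : M)) (s • cl a), ← hb', neg_sub])
    rw [sub_eq_zero] at h0
    exact ha (h0 ▸ b.2)
  -- the smallest power of `t` with a fixed class
  have hex : ∃ n, 0 < n ∧ ∃ m : M, m ≠ 0 ∧ t ^ n • m = m := by
    obtain ⟨m, hm⟩ := hne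
    exact ⟨orderOf t, orderOf_pos t, m, hm, by rw [pow_orderOf_eq_one, one_smul]⟩
  set n := Nat.find hex with hn
  obtain ⟨hn0, m₀, hm₀, hm₀n⟩ := Nat.find_spec hex
  have hperiod : ∀ m : M, m ≠ 0 → t ^ n • m = m → ∀ k, t ^ k • m = m → n ∣ k := by
    intro m hm0 hmn k hk
    have h1 : MulAction.period t m ∣ n := MulAction.pow_smul_eq_iff_period_dvd.1 hmn
    have h2 : n ≤ MulAction.period t m :=
      Nat.find_min' hex ⟨Nat.pos_of_dvd_of_pos h1 hn0, m, hm0, MulAction.pow_period_smul t m⟩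
    have h3 : MulAction.period t m = n := le_antisymm (Nat.le_of_dvd hn0 h1) h2
    rw [← h3]
    exact MulAction.pow_smul_eq_iff_period_dvd.1 hk
  have hnt : n ∣ orderOf t := hperiod m₀ hm₀ hm₀n _ (by rw [pow_orderOf_eq_one, one_smul])
  have hrn : r.Coprime n := (htr.coprime_dvd_left hnt).symm
  set M₀ := fixedSub M (zpowers (t ^ n)) with hM₀
  have hmemM₀ : ∀ m, m ∈ M₀ ↔ t ^ n • m = m := fun m => mem_fixedSub_zpowers
  have hcts : Commute s t := hts.symm
  have hM₀s : ∀ (i τ : ℕ), ∀ m ∈ M₀, (s ^ i * t ^ τ) • m ∈ M₀ := by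
    intro i τ m hm
    rw [hmemM₀] at hm ⊢
    rw [← mul_smul,
      (((hcts.pow_pow i n).symm).mul_right ((Commute.refl t).pow_pow n τ)).eq, mul_smul, hm]
  have hcardM : Nat.card M ∣ Nat.card R := by
    rw [hM.card_eq]; exact Subgroup.index_dvd_card _
  have hcommZ : ∀ g, g * s = s * g → (∀ z ∈ cenIn R, g * z = z * g) →
      ∀ a ∈ R, ∀ b ∈ R, g * ⁅a, b⁆ = ⁅a, b⁆ * g := fun g _ hg a ha b hb => hg _ (h.class2 a ha b hb)
  have htnR : (Nat.card (zpowers (t ^ n))).Coprime (Nat.card M) := by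
    rw [Nat.card_zpowers]
    exact (htR.coprime_dvd_right hcardM).coprime_dvd_left (orderOf_pow_dvd n)
  have hnd : ∀ m ∈ M₀, (∀ m' ∈ M₀, B m m' = 0) → m = 0 := fun m hm =>
    hM.nondeg_fixedSub htnR (fun g hg a ha b hb => by
      obtain ⟨k, rfl⟩ := (mem_powers_iff_mem_zpowers (x := t ^ n)).2 hg
      exact (((show Commute t ⁅a, b⁆ from htZ _ (h.class2 a ha b hb)).pow_left n).pow_left k).eq) hm
  -- the semiregular isometry `s t` of `M₀`
  let B₀ : M₀ →+ M₀ →+ Additive Kˣ :=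
    AddMonoidHom.mk' (fun a => (B (a : M)).comp M₀.subtype) fun a b => by
      ext x; simp
  let gE : AddMonoid.End M₀ :=
    ((DistribSMul.toAddMonoidHom M (s * t)).comp M₀.subtype).codRestrict M₀ fun m => by
      have := hM₀s 1 1 m m.2
      rwa [pow_one, pow_one] at this
  have hgE : ∀ (k : ℕ) (m : M₀), (((gE ^ k) m : M₀) : M) = (s * t) ^ k • (m : M) := by
    intro k
    induction k with
    | zero => intro m; rw [pow_zero, pow_zero, one_smul]; rfl
    | succ k ih => intro m; rw [pow_succ, pow_succ, mul_smul]; exact ih (gE m)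
  have hgN : gE ^ (r * n) = 1 := AddMonoidHom.ext fun m => Subtype.ext (by
    show (((gE ^ (r * n)) m : M₀) : M) = (m : M)
    refine (hgE _ m).trans ?_
    rw [hcts.mul_pow, pow_mul s, h.pow, one_pow, one_mul, mul_comm r n, pow_mul]
    exact mem_fixedSub.1 m.2 _ (pow_mem (mem_zpowers (t ^ n)) r))
  have hfreeg : ∀ k, 0 < k → k < r * n → ∀ v : M₀, (gE ^ k) v = v → v = 0 := by
    intro k hk0 hk v hv
    by_contra hv0
    have hvM : (v : M) ≠ 0 := fun h0 => hv0 (Subtype.ext h0)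
    have h1 : (s * t) ^ k • (v : M) = v := by rw [← hgE, hv]
    have h2 : ∀ j, ((s * t) ^ k) ^ j • (v : M) = v := by
      intro j
      induction j with
      | zero => rw [pow_zero, one_smul]
      | succ j ih => rw [pow_succ, mul_smul, h1, ih]
    have hsk : r ∣ k := by
      by_contra hrk
      have h3 := h2 n
      rw [hcts.mul_pow, (hcts.pow_pow k k).mul_pow, ← pow_mul, ← pow_mul, mul_comm k n,
        pow_mul t n k, mul_smul,
        mem_fixedSub.1 v.2 _ (pow_mem (mem_zpowers (t ^ n)) k)] at h3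
      obtain ⟨j, -, hj⟩ := Nat.exists_mul_mod_eq_one_of_coprime
        ((hr.coprime_iff_not_dvd).2 (fun hd => hrk (hrn.dvd_of_dvd_mul_left hd))).symm hr.one_lt
      refine hvM (hM.free h ?_)
      have h4 : ∀ i, (s ^ (n * k)) ^ i • (v : M) = v := by
        intro i
        induction i with
        | zero => rw [pow_zero, one_smul]
        | succ i ih => rw [pow_succ, mul_smul, h3, ih]
      have h5 := h4 j
      rwa [← pow_mul, pow_eq_pow_mod (n * k * j) h.pow, hj, pow_one] at h5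
    have h3 : t ^ k • (v : M) = v := by
      obtain ⟨i, hi⟩ := hsk
      rw [hcts.mul_pow, hi, pow_mul s, h.pow, one_pow, one_mul, ← hi] at h1
      exact h1
    have hnk := hperiod _ hvM ((hmemM₀ _).1 v.2) k h3
    exact absurd (Nat.le_of_dvd hk0 (hrn.mul_dvd_of_dvd_of_dvd hsk hnk)) (not_le.2 hk)
  have hne₀ : Nontrivial M₀ :=
    ⟨⟨⟨m₀, (hmemM₀ _).2 hm₀n⟩, 0, fun h0 => hm₀ (congrArg Subtype.val h0)⟩⟩
  have hnd₀ : ∀ a : M₀, (∀ b : M₀, B₀ a b = 0) → a = 0 := fun a ha =>
    Subtype.ext (hnd a a.2 fun b hb => ha ⟨b, hb⟩)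
  have hbound : (r * n - 1) * (r * n - 1) ≤ Nat.card M₀ :=
    sub_one_sq_le_card B₀ hnd₀ (fun a b hab => hM.refl _ _ hab) hgN
      (fun a b => hM.isometry (s * t) (fun x hx y hy => by
        have hz := h.class2 x hx y hy
        rw [mul_assoc, htZ _ hz, ← mul_assoc, h.centre _ hz, mul_assoc]) _ _)
      hfreeg hne₀
  let B₁₀ : AddSubgroup M₀ := B₁.comap M₀.subtype
  have hb₀ : Nat.card B₁₀ * Nat.card B₁₀ ≤ Nat.card M₀ :=
    card_isotropic_sq_le B₀ hnd₀ B₁₀ fun a ha b hb => hB₁iso _ ha _ hb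
  -- a good class
  let J : Finset (ℕ × ℕ) := Finset.range r ×ˢ Finset.Ico 1 n
  let fJ : ℕ × ℕ → (M₀ →+ M₀) := fun p =>
    AddMonoidHom.id M₀ - ((DistribSMul.toAddMonoidHom M (s ^ p.1 * t ^ p.2)).comp
      M₀.subtype).codRestrict M₀ fun m => hM₀s p.1 p.2 m m.2
  have hfJ : ∀ p ∈ J, Function.Injective (fJ p) := by
    rintro ⟨i, τ⟩ hp
    obtain ⟨hi, hτ⟩ := Finset.mem_product.1 hp
    rw [Finset.mem_Ico] at hτ
    refine (injective_iff_map_eq_zero _).2 fun v hv => ?_
    have h1 : (s ^ i * t ^ τ) • (v : M) = v :=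
      (sub_eq_zero.1 (congrArg Subtype.val hv)).symm
    by_contra hv0
    have hvM : (v : M) ≠ 0 := fun h0 => hv0 (Subtype.ext h0)
    have h2 : ∀ j, (s ^ i * t ^ τ) ^ j • (v : M) = v := by
      intro j
      induction j with
      | zero => rw [pow_zero, one_smul]
      | succ j ih => rw [pow_succ, mul_smul, h1, ih]
    have h3 := h2 r
    rw [(hcts.pow_pow i τ).mul_pow, ← pow_mul, mul_comm i r, pow_mul, h.pow, one_pow, one_mul,
      ← pow_mul] at h3
    rcases Nat.eq_zero_or_pos τ with h0 | h0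
    · omega
    · have := hperiod _ hvM ((hmemM₀ _).1 v.2) _ h3
      exact absurd (Nat.le_of_dvd h0 (hrn.symm.dvd_of_dvd_mul_right this)) (not_le.2 hτ.2)
  obtain ⟨y, hyB, hyJ⟩ := exists_good B₁₀ J fJ hfJ (by
    have hJ : J.card + 1 = r * (n - 1) + 1 := by
      simp [J, Finset.card_product]
    rw [hJ]
    have hk : r * (n - 1) + 1 ≤ r * n - 1 := by
      have h2 := hr.two_le
      obtain ⟨n', hn'⟩ : ∃ n', n = n' + 1 := ⟨n - 1, by omega⟩
      rw [hn', Nat.add_sub_cancel, mul_add, mul_one]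
      omega
    set b := Nat.card B₁₀
    set k := r * (n - 1) + 1
    have hk2 : k * k ≤ Nat.card M₀ := (Nat.mul_le_mul hk hk).trans hbound
    have hb1 : 1 ≤ b := Nat.card_pos
    have hM2 : 2 ≤ Nat.card M₀ := Finite.one_lt_card
    rcases le_or_gt k b with hkb | hkb
    · have h5 : b * k ≤ b * b := Nat.mul_le_mul_left b hkb
      rcases Nat.eq_or_lt_of_le (show 1 ≤ k by omega) with hk1 | hk1
      · rw [← hk1, mul_one]
        rcases Nat.eq_or_lt_of_le hb1 with hb' | hb'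
        · omega
        · have : b * 2 ≤ b * b := Nat.mul_le_mul_left b hb'
          omega
      · rw [Nat.sub_mul, one_mul]
        omega
    · have h5 : (b - 1) * k ≤ (k - 2) * k := Nat.mul_le_mul_right k (by omega)
      rw [Nat.sub_mul k 2 k] at h5
      omega)
  obtain ⟨a, ha⟩ := hM.surj (y : M)
  -- a lift fixed by `t ^ n`
  obtain ⟨y₀, hy₀, hy₀c⟩ : ∃ y₀ : R, cl y₀ = (y : M) ∧ t ^ n * y₀ = y₀ * t ^ n := by
    have hmem : t ^ n * a * (t ^ n)⁻¹ ∈ R := hRn.conj_mem _ a.2 _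
    have h1 : ⁅t ^ n, (a : Γ)⁆ ∈ cenIn R := by
      have := (hM.eq_zero (⟨t ^ n * a * (t ^ n)⁻¹, hmem⟩ * a⁻¹)).1 (by
        rw [hM.map_sub, hM.map_conj, ha, (hmemM₀ _).1 y.2, sub_self])
      simpa [commutatorElement_def] using this
    obtain ⟨z, hz, hzc⟩ := Coprime.exists_mul_mem_centralizer (A := zpowers (t ^ n))
      (N := cenIn R) (k := (a : Γ)) (by rw [normalizer_eq_top]; exact le_top)
      (by
        rw [Nat.card_zpowers]
        exact (htR.coprime_dvd_right (card_dvd_of_le inf_le_left)).coprime_dvd_left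
          (orderOf_pow_dvd n))
      (Or.inl (Coprime.isSolvable_zpowers _)) fun g hg => by
        obtain ⟨k, rfl⟩ := (mem_powers_iff_mem_zpowers (x := t ^ n)).2 hg
        exact commutator_pow_mem h1 k
    refine ⟨⟨z, (mem_cenIn.1 hz).1⟩ * a, ?_, mem_centralizer_iff.1 hzc _ (mem_zpowers _)⟩
    rw [hM.map_mul, (hM.eq_zero _).2 hz, zero_add, ha]
  -- the two averaging operators
  let cj : ℕ → ℕ → R := fun τ i =>
    ⟨t ^ τ * (s ^ i * y₀ * (s ^ i)⁻¹) * (t ^ τ)⁻¹, hRn.conj_mem _ (hRn.conj_mem _ y₀.2 _) _⟩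
  have hclcj : ∀ τ i, cl (cj τ i) = (t ^ τ * s ^ i) • (y : M) := by
    intro τ i
    rw [← hy₀, mul_smul, ← hM.map_conj (s ^ i) y₀ (hRn.conj_mem _ y₀.2 _),
      ← hM.map_conj (t ^ τ) _ (hRn.conj_mem _ (hRn.conj_mem _ y₀.2 _) _)]
  let Bop : V → V := fun v =>
    ∑ τ ∈ Finset.range n, ∑ j ∈ Finset.range r, ((cj τ j : R) : Γ)⁻¹ • v
  have hBs : ∀ v, s • v = v → s • Bop v = Bop v := by
    intro v hv
    simp only [Bop, Finset.smul_sum]
    refine Finset.sum_congr rfl fun τ _ => ?_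
    have e : ∀ j, s • ((cj τ j : R) : Γ)⁻¹ • v = ((cj τ (j + 1) : R) : Γ)⁻¹ • v := by
      intro j
      conv_rhs => rw [← hv, ← mul_smul]
      rw [← mul_smul]
      congr 1
      show s * (t ^ τ * (s ^ j * y₀ * (s ^ j)⁻¹) * (t ^ τ)⁻¹)⁻¹ =
        (t ^ τ * (s ^ (j + 1) * y₀ * (s ^ (j + 1))⁻¹) * (t ^ τ)⁻¹)⁻¹ * s
      have hc' : Commute s (t ^ τ) := hcts.pow_right τ
      rw [pow_succ' s, mul_inv_rev, mul_inv_rev, mul_inv_rev, mul_inv_rev, inv_inv, mul_inv_rev,
        mul_inv_rev, inv_inv]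
      simp only [← mul_assoc]
      rw [hc'.eq, mul_assoc _ (t ^ τ)⁻¹ s, ← hc'.inv_right.eq]
      group
    rw [Finset.sum_congr rfl fun j _ => e j]
    refine sum_range_shift (fun j => ((cj τ j : R) : Γ)⁻¹ • v) ?_
    show (t ^ τ * (s ^ r * y₀ * (s ^ r)⁻¹) * (t ^ τ)⁻¹)⁻¹ • v =
      (t ^ τ * (s ^ 0 * y₀ * (s ^ 0)⁻¹) * (t ^ τ)⁻¹)⁻¹ • v
    rw [h.pow, pow_zero]
  have hBt : ∀ v, t • Bop v = Bop (t • v) := by
    intro v
    simp only [Bop, Finset.smul_sum]
    have e : ∀ τ j, t • ((cj τ j : R) : Γ)⁻¹ • v = ((cj (τ + 1) j : R) : Γ)⁻¹ • t • v := by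
      intro τ j
      rw [← mul_smul, ← mul_smul]
      congr 1
      show t * (t ^ τ * (s ^ j * y₀ * (s ^ j)⁻¹) * (t ^ τ)⁻¹)⁻¹ =
        (t ^ (τ + 1) * (s ^ j * y₀ * (s ^ j)⁻¹) * (t ^ (τ + 1))⁻¹)⁻¹ * t
      rw [pow_succ' t]; group
    rw [Finset.sum_congr rfl fun τ _ => Finset.sum_congr rfl fun j _ => e τ j]
    refine sum_range_shift (fun τ => ∑ j ∈ Finset.range r, ((cj τ j : R) : Γ)⁻¹ • t • v) ?_
    refine Finset.sum_congr rfl fun j _ => ?_
    congr 2
    show t ^ n * (s ^ j * y₀ * (s ^ j)⁻¹) * (t ^ n)⁻¹ = t ^ 0 * _ * (t ^ 0)⁻¹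
    have hc' : Commute (t ^ n) (s ^ j) := (hcts.pow_pow j n).symm
    have hc'' : Commute (t ^ n) (s ^ j * y₀ * (s ^ j)⁻¹) :=
      (hc'.mul_right hy₀c).mul_right hc'.inv_right
    rw [pow_zero, one_mul, inv_one, mul_one, hc''.eq, mul_inv_cancel_right]
  have hbw : Bop w ∈ killedSub Ω s := by
    have e : Bop w = t • Bop c - Bop c := by
      rw [hBt, hw]
      simp only [Bop, smul_sub, Finset.sum_sub_distrib]
    rw [e]
    exact htk _ (hBs c hc)
  have hclout : ∀ i, cl (cj 0 i) ∉ B₁ := by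
    intro i hi
    rw [hclcj, pow_zero, one_mul] at hi
    refine hyB ?_
    show (y : M) ∈ B₁
    have hk : ∀ k, ∀ m ∈ B₁, s ^ k • m ∈ B₁ := by
      intro k
      induction k with
      | zero => intro m hm; rwa [pow_zero, one_smul]
      | succ k ih => intro m hm; rw [pow_succ, mul_smul]; exact ih _ (hB₁s m hm)
    have := hk (r * i - i) _ hi
    rw [← mul_smul, ← pow_add, Nat.sub_add_cancel (Nat.le_mul_of_pos_left i hr.pos), pow_mul,
      h.pow, one_pow, one_smul] at this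
    exact this
  have hsk : ∀ k, ∀ m : M, s ^ k • m ∈ B₁ → m ∈ B₁ := by
    intro k m hm
    have hk : ∀ j, ∀ x ∈ B₁, s ^ j • x ∈ B₁ := by
      intro j
      induction j with
      | zero => intro x hx; rwa [pow_zero, one_smul]
      | succ j ih => intro x hx; rw [pow_succ, mul_smul]; exact ih _ (hB₁s x hx)
    have := hk (r * k - k) _ hm
    rw [← mul_smul, ← pow_add, Nat.sub_add_cancel (Nat.le_mul_of_pos_left k hr.pos), pow_mul,
      h.pow, one_pow, one_smul] at this
    exact this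
  -- evaluate
  have hsum0 : ∑ i ∈ Finset.range r, ω (((cj 0 i : R) : Γ) • Bop w) = 0 :=
    Finset.sum_eq_zero fun i _ => hbw.2 _ (hD.comp_mem _ ω hω) (hmoved _ (hclout i))
  have hterm : ∀ i ∈ Finset.range r, ω (((cj 0 i : R) : Γ) • Bop w) = ω w := by
    intro i hi
    simp only [Bop, Finset.smul_sum, map_sum]
    rw [Finset.sum_eq_single_of_mem 0 (Finset.mem_range.2 hn0),
      Finset.sum_eq_single_of_mem i hi, smul_inv_smul]
    · intro j hj hji
      rw [← mul_smul]
      refine hwk.2 _ (hD.comp_mem _ ω hω) (hmoved (cj 0 i * (cj 0 j)⁻¹) fun hmem => ?_)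
      rw [hM.map_sub, hclcj, hclcj, pow_zero, one_mul, one_mul] at hmem
      -- translate to `y - s ^ k • y`
      obtain ⟨k, hk0, hkr, hk⟩ : ∃ k, 0 < k ∧ k < r ∧ s ^ j • (y : M) = s ^ i • s ^ k • (y : M) := by
        refine ⟨(j + (r - i)) % r, Nat.pos_of_ne_zero fun h0 => ?_, Nat.mod_lt _ hr.pos, ?_⟩
        · have := Finset.mem_range.1 hi; have := Finset.mem_range.1 hj
          obtain ⟨q, hq⟩ := Nat.dvd_of_mod_eq_zero h0
          rcases q with _ | _ | q
          · omega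
          · omega
          · have : r * 2 ≤ r * (q + 1 + 1) := Nat.mul_le_mul_left r (by omega)
            omega
        · rw [← mul_smul, ← pow_add, pow_eq_pow_mod (i + _) h.pow, Nat.add_mod_mod,
            show i + (j + (r - i)) = j + r from by have := Finset.mem_range.1 hi; omega,
            ← pow_eq_pow_mod (j + r) h.pow, pow_add, h.pow, mul_one]
      rw [hk, ← smul_sub] at hmem
      have h6 : (y : M) - s ^ k • (y : M) ∈ B₁ := hsk i _ hmem
      -- `1 - s ^ k` preserves and permutes the image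
      have hk' : ∀ x ∈ B₁, s ^ k • x ∈ B₁ := by
        intro x hx
        have := hsk (r - k) (s ^ k • x)
        rw [← mul_smul, ← pow_add, Nat.sub_add_cancel hkr.le, h.pow, one_smul] at this
        exact this hx
      obtain ⟨j', -, hj'⟩ := Nat.exists_mul_mod_eq_one_of_coprime
        ((hr.coprime_iff_not_dvd).2 (Nat.not_dvd_of_pos_of_lt hk0 hkr)).symm hr.one_lt
      have hfreek : ∀ m : M, s ^ k • m = m → m = 0 := fun m hm => by
        refine hM.free h ?_
        have h7 : ∀ e, (s ^ k) ^ e • m = m := by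
          intro e
          induction e with
          | zero => rw [pow_zero, one_smul]
          | succ e ih => rw [pow_succ, mul_smul, hm, ih]
        have h8 := h7 j'
        rwa [← pow_mul, pow_eq_pow_mod (k * j') h.pow, hj', pow_one] at h8
      have hsurj : Function.Surjective fun b : B₁ =>
          (⟨(b : M) - s ^ k • (b : M), sub_mem b.2 (hk' _ b.2)⟩ : B₁) :=
        Finite.surjective_of_injective fun b b' hbb => by
          refine Subtype.ext (sub_eq_zero.1 (hfreek _ ?_))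
          have hb2 : (b : M) - s ^ k • (b : M) = b' - s ^ k • (b' : M) :=
            congrArg Subtype.val hbb
          rw [smul_sub]
          rw [sub_eq_sub_iff_sub_eq_sub] at hb2
          exact hb2.symm
      obtain ⟨b, hb⟩ := hsurj ⟨_, h6⟩
      have hb' : (b : M) - s ^ k • (b : M) = y - s ^ k • (y : M) := congrArg Subtype.val hb
      have h9 : (y : M) - b = 0 := hfreek _ (by
        rw [smul_sub]
        rw [sub_eq_sub_iff_sub_eq_sub] at hb'
        rw [← neg_sub (s ^ k • (b : M)) (s ^ k • (y : M)), ← hb', neg_sub])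
      rw [sub_eq_zero] at h9
      exact hyB (show (y : M) ∈ B₁ from h9 ▸ b.2)
    · intro τ hτ hτ0
      refine Finset.sum_eq_zero fun j hj => ?_
      rw [← mul_smul]
      refine hwk.2 _ (hD.comp_mem _ ω hω) (hmoved (cj 0 i * (cj τ j)⁻¹) fun hmem => ?_)
      rw [hM.map_sub, hclcj, hclcj, pow_zero, one_mul] at hmem
      have e : (t ^ τ * s ^ j) • (y : M) = s ^ i • (s ^ ((j + (r - i)) % r) * t ^ τ) • (y : M) := by
        rw [← mul_smul, ← mul_assoc, ← pow_add, pow_eq_pow_mod (i + _) h.pow, Nat.add_mod_mod,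
          show i + (j + (r - i)) = j + r from by have := Finset.mem_range.1 hi; omega,
          ← pow_eq_pow_mod (j + r) h.pow, pow_add, h.pow, mul_one, (hcts.pow_pow j τ).eq]
      rw [e, ← smul_sub] at hmem
      exact hyJ ((j + (r - i)) % r, τ) (Finset.mem_product.2
        ⟨Finset.mem_range.2 (Nat.mod_lt _ hr.pos),
          Finset.mem_Ico.2 ⟨Nat.pos_of_ne_zero hτ0, Finset.mem_range.1 hτ⟩⟩) (hsk i _ hmem)
  rw [Finset.sum_congr rfl hterm, Finset.sum_const, Finset.card_range, ← map_nsmul] at hsum0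
  rw [map_nsmul] at hsum0
  have h3 : (Nat.card V : ℕ) • ω w = 0 := by rw [← map_nsmul, card_nsmul_eq_zero', map_zero]
  have h4 : addOrderOf (ω w) ∣ r.gcd (Nat.card V) :=
    Nat.dvd_gcd (addOrderOf_dvd_of_nsmul_eq_zero hsum0) (addOrderOf_dvd_of_nsmul_eq_zero h3)
  rw [h.coprV.gcd_eq_one, Nat.dvd_one, AddMonoid.addOrderOf_eq_one_iff] at h4
  exact h4

end CfsgLib.Solvable.TurullHeight
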