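import Cfsg.Agent.Lib.Solvable.FPFOperators.Height2

/-!
# Towers of invariant prime power subgroups

A solvable group without a chain of `m` nilpotent factors carries a tower of `m + 1` invariant
prime power subgroups, each acting nontrivially and minimally on the next.
-/

set_option autoImplicit false

namespace CfsgLib.Solvable.TurullHeight

open Subgroup CfsgLib CfsgLib.Solvable.FPFOperators
open scoped commutatorElement

universe u

variable {Γ : Type u} [Group Γ]

/-- A chain of normal subgroups with `L` nilpotent factors. -/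
def HasChain (H : Type*) [Group H] (L : ℕ) : Prop :=
  ∃ F : Fin (L + 1) → Subgroup H, F 0 = ⊥ ∧ F (Fin.last L) = ⊤ ∧ Monotone F ∧
    (∀ i, (F i).Normal) ∧ ∀ i : Fin L, ∃ k : ℕ, (F i.succ).lowerCentralSeries k ≤ F i.castSucc

theorem HasChain.of_equiv {H H' : Type*} [Group H] [Group H'] {L : ℕ} (h : HasChain H L)
    (e : H ≃* H') : HasChain H' L := by
  obtain ⟨F, h0, h1, hm, hn, hk⟩ := h
  refine ⟨fun i => (F i).map e.toMonoidHom, ?_, ?_, fun i j hij => Subgroup.map_mono (hm hij),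
    fun i => (hn i).map e.toMonoidHom e.surjective, fun i => ?_⟩
  · show (F 0).map e.toMonoidHom = ⊥
    rw [h0, Subgroup.map_bot]
  · show (F (Fin.last L)).map e.toMonoidHom = ⊤
    rw [h1, map_top_of_surjective e.toMonoidHom e.surjective]
  · obtain ⟨k, hk'⟩ := hk i
    refine ⟨k, ?_⟩
    rw [← Subgroup.map_lowerCentralSeries]
    exact Subgroup.map_mono hk'

/-- The elements normalising `Q` and `N` and centralising `Q` modulo `N`. -/
def modCen (Q N : Subgroup Γ) : Subgroup Γ where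
  carrier := {x | x ∈ normalizer (Q : Set Γ) ∧ x ∈ normalizer (N : Set Γ) ∧ ∀ y ∈ Q, ⁅x, y⁆ ∈ N}
  one_mem' := ⟨one_mem _, one_mem _, fun y _ => by rw [commutatorElement_one_left]; exact one_mem N⟩
  mul_mem' := fun {a b} ha hb => ⟨mul_mem ha.1 hb.1, mul_mem ha.2.1 hb.2.1, fun y hy => by
    rw [show ⁅a * b, y⁆ = a * ⁅b, y⁆ * a⁻¹ * ⁅a, y⁆ by simp only [commutatorElement_def]; group]
    exact mul_mem ((mem_normalizer_iff.1 ha.2.1 _).1 (hb.2.2 y hy)) (ha.2.2 y hy)⟩
  inv_mem' := fun {a} ha => ⟨inv_mem ha.1, inv_mem ha.2.1, fun y hy => by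
    rw [show ⁅a⁻¹, y⁆ = a⁻¹ * ⁅a, y⁆⁻¹ * a by simp only [commutatorElement_def]; group]
    exact (mem_normalizer_iff''.1 ha.2.1 _).1 (inv_mem (ha.2.2 y hy))⟩

/-- The kernels, counted from the bottom. -/
def kerAux (P : ℕ → Subgroup Γ) (h : ℕ) : ℕ → Subgroup Γ
  | 0 => ⊥
  | d + 1 => P (h - (d + 1)) ⊓ modCen (P (h - d)) (kerAux P h d)

/-- The kernel of the action on the part of the tower below level `i`. -/
def towerKer (P : ℕ → Subgroup Γ) (h i : ℕ) : Subgroup Γ := kerAux P h (h - i)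

theorem conj_mem_kerAux [Finite Γ] {P : ℕ → Subgroup Γ} {h : ℕ} {g : Γ} (d : ℕ)
    (hg : ∀ j, h ≤ j + d → j ≤ h → g ∈ normalizer (P j : Set Γ)) :
    g ∈ normalizer (kerAux P h d : Set Γ) := by
  induction d with
  | zero =>
    refine mem_normalizer_fintype fun x hx => ?_
    rw [kerAux, SetLike.mem_coe, mem_bot] at hx
    rw [hx, mul_one, mul_inv_cancel]
    exact one_mem _
  | succ d ih =>
    have hK := ih fun j h1 h2 => hg j (by omega) h2
    refine mem_normalizer_fintype fun x hx => ?_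
    obtain ⟨hx1, hx2, hx3, hx4⟩ := hx
    have hP := hg (h - (d + 1)) (by omega) (by omega)
    have hQ := hg (h - d) (by omega) (by omega)
    refine ⟨(mem_normalizer_iff.1 hP x).1 hx1, mul_mem (mul_mem hQ hx2) (inv_mem hQ),
      mul_mem (mul_mem hK hx3) (inv_mem hK), fun y hy => ?_⟩
    rw [show ⁅g * x * g⁻¹, y⁆ = g * ⁅x, g⁻¹ * y * g⁆ * g⁻¹ by
      simp only [commutatorElement_def]; group]
    exact (mem_normalizer_iff.1 hK _).1 (hx4 _ ((mem_normalizer_iff''.1 hQ y).1 hy))

theorem mem_normalizer_towerKer [Finite Γ] {P : ℕ → Subgroup Γ} {h i : ℕ} {g : Γ} (hi : i ≤ h)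
    (hg : ∀ j, i ≤ j → j ≤ h → g ∈ normalizer (P j : Set Γ)) :
    g ∈ normalizer (towerKer P h i : Set Γ) :=
  conj_mem_kerAux _ fun j h1 h2 => hg j (by omega) h2

theorem towerKer_self (P : ℕ → Subgroup Γ) (h : ℕ) : towerKer P h h = ⊥ := by
  rw [towerKer, Nat.sub_self]; rfl

theorem mem_towerKer [Finite Γ] {P : ℕ → Subgroup Γ} {h : ℕ}
    (hP : ∀ i j, 1 ≤ i → i ≤ j → j ≤ h → P i ≤ normalizer (P j : Set Γ)) {i : ℕ} (hi : 1 ≤ i)
    (hih : i < h) {x : Γ} :
    x ∈ towerKer P h i ↔ x ∈ P i ∧ ∀ y ∈ P (i + 1), ⁅x, y⁆ ∈ towerKer P h (i + 1) := by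
  obtain ⟨d, hd⟩ : ∃ d, h - i = d + 1 := ⟨h - i - 1, by omega⟩
  have hd' : h - (i + 1) = d := by omega
  rw [towerKer, towerKer, hd, hd', kerAux, mem_inf, show h - (d + 1) = i by omega,
    show h - d = i + 1 by omega]
  refine ⟨fun hx => ⟨hx.1, hx.2.2.2⟩, fun hx => ⟨hx.1, hP i (i + 1) hi (by omega) (by omega) hx.1,
    conj_mem_kerAux d fun j h1 h2 => hP i j hi (by omega) h2 hx.1, hx.2⟩⟩

/-- A tower of invariant prime power subgroups. -/
structure Tower (G : Subgroup Γ) (s : Γ) (h : ℕ) (P : ℕ → Subgroup Γ) (p : ℕ → ℕ)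
    (K : ℕ → Subgroup Γ) : Prop where
  le : ∀ i, 1 ≤ i → i ≤ h → P i ≤ G
  prime : ∀ i, 1 ≤ i → i ≤ h → (p i).Prime
  pgroup : ∀ i, 1 ≤ i → i ≤ h → IsPGroup (p i) (P i)
  norm_s : ∀ i, 1 ≤ i → i ≤ h → s ∈ normalizer (P i : Set Γ)
  norm : ∀ i j, 1 ≤ i → i ≤ j → j ≤ h → P i ≤ normalizer (P j : Set Γ)
  ne : ∀ i, 1 ≤ i → i < h → p i ≠ p (i + 1)
  ker_last : K h = ⊥
  ker : ∀ i, 1 ≤ i → i < h → ∀ x, x ∈ K i ↔ x ∈ P i ∧ ∀ y ∈ P (i + 1), ⁅x, y⁆ ∈ K (i + 1)
  top : ¬ P 1 ≤ K 1
  top_min : ∀ Q ≤ P 1, s ∈ normalizer (Q : Set Γ) → ¬ Q ≤ K 1 → Q = P 1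
  act : ∀ i, 1 ≤ i → i < h → ¬ ⁅P (i + 1), P i⁆ ≤ K (i + 1)
  min : ∀ i, 1 ≤ i → i < h → ∀ Q ≤ P (i + 1),
    (∀ j, 1 ≤ j → j ≤ i → P j ≤ normalizer (Q : Set Γ)) → s ∈ normalizer (Q : Set Γ) →
      ¬ ⁅Q, P i⁆ ≤ K (i + 1) → Q = P (i + 1)

namespace Tower

variable {G : Subgroup Γ} {s : Γ} {h : ℕ} {P : ℕ → Subgroup Γ} {p : ℕ → ℕ} {K : ℕ → Subgroup Γ}

theorem ker_le (hT : Tower G s h P p K) {i : ℕ} (hi : 1 ≤ i) (hih : i ≤ h) : K i ≤ P i := by
  intro x hx
  rcases Nat.lt_or_eq_of_le hih with hlt | rfl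
  · exact ((hT.ker i hi hlt x).1 hx).1
  · rw [hT.ker_last, mem_bot] at hx
    rw [hx]; exact one_mem _

/-- Whatever normalises the lower members normalises the kernel. -/
theorem mem_normalizer_ker [Finite Γ] (hT : Tower G s h P p K) {g : Γ} :
    ∀ (d i : ℕ), i + d = h → 1 ≤ i → (∀ j, i ≤ j → j ≤ h → g ∈ normalizer (P j : Set Γ)) →
      g ∈ normalizer (K i : Set Γ) := by
  intro d
  induction d with
  | zero =>
    intro i hid _ _
    obtain rfl : i = h := by omega
    refine mem_normalizer_fintype fun x hx => ?_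
    rw [hT.ker_last, SetLike.mem_coe, mem_bot] at hx
    rw [hx, mul_one, mul_inv_cancel]
    exact one_mem _
  | succ d ih =>
    intro i hid hi hg
    have hK := ih (i + 1) (by omega) (by omega) fun j h1 h2 => hg j (by omega) h2
    refine mem_normalizer_fintype fun x hx => ?_
    obtain ⟨hx1, hx2⟩ := (hT.ker i hi (by omega) x).1 hx
    refine (hT.ker i hi (by omega) _).2
      ⟨(mem_normalizer_iff.1 (hg i le_rfl (by omega)) x).1 hx1, fun y hy => ?_⟩
    rw [show ⁅g * x * g⁻¹, y⁆ = g * ⁅x, g⁻¹ * y * g⁆ * g⁻¹ by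
      simp only [commutatorElement_def]; group]
    exact (mem_normalizer_iff.1 hK _).1 (hx2 _
      ((mem_normalizer_iff''.1 (hg (i + 1) (by omega) (by omega)) y).1 hy))

theorem le_normalizer_ker [Finite Γ] (hT : Tower G s h P p K) {i j : ℕ} (hi : 1 ≤ i) (hij : i ≤ j)
    (hjh : j ≤ h) : P i ≤ normalizer (K j : Set Γ) := fun _ hg =>
  hT.mem_normalizer_ker (h - j) j (by omega) (hi.trans hij) fun l h1 h2 =>
    hT.norm i l hi (hij.trans h1) h2 hg

theorem s_mem_normalizer_ker [Finite Γ] (hT : Tower G s h P p K) {i : ℕ} (hi : 1 ≤ i)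
    (hih : i ≤ h) : s ∈ normalizer (K i : Set Γ) :=
  hT.mem_normalizer_ker (h - i) i (by omega) hi fun l h1 h2 => hT.norm_s l (hi.trans h1) h2

end Tower

/-- A coprime operator centralising `⁅y, x⁆` modulo `K` centralises `y` modulo `K`. -/
theorem commutator_mem_of_twice [Finite Γ] {P K : Subgroup Γ} (hKP : K ≤ P)
    (hPK : P ≤ normalizer (K : Set Γ)) {x : Γ} (hxP : x ∈ normalizer (P : Set Γ))
    (hxK : x ∈ normalizer (K : Set Γ)) (hcop : (orderOf x).Coprime (Nat.card P)) {y : Γ}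
    (hy : y ∈ P) (h2 : ⁅⁅y, x⁆, x⁆ ∈ K) : ⁅y, x⁆ ∈ K := by
  classical
  set N := normalizer (K : Set Γ) with hN
  let y' : N := ⟨y, hPK hy⟩
  let x' : N := ⟨x, hxK⟩
  haveI : (K.subgroupOf N).Normal :=
    (normal_subgroupOf_iff_le_normalizer (hKP.trans hPK)).2 le_rfl
  set mk := QuotientGroup.mk' (K.subgroupOf N) with hmk
  set X := mk x' with hX
  set Y := mk y' with hY
  set a := ⁅Y, X⁆ with ha
  have hcomm : Commute a X := by
    rw [← commutatorElement_eq_one_iff_commute, ha, hY, hX, ← map_commutatorElement,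
      ← map_commutatorElement]
    exact (QuotientGroup.eq_one_iff _).2 h2
  have e1 : X * Y⁻¹ * X⁻¹ = Y⁻¹ * a := by rw [ha]; simp [commutatorElement_def, mul_assoc]
  have hpw : ∀ i, X ^ i * Y⁻¹ * (X ^ i)⁻¹ = Y⁻¹ * a ^ i := by
    intro i
    induction i with
    | zero => simp
    | succ i ih =>
      have hc : Commute X (a ^ i) := hcomm.symm.pow_right i
      rw [pow_succ' X, mul_inv_rev]
      calc X * X ^ i * Y⁻¹ * ((X ^ i)⁻¹ * X⁻¹) = X * (X ^ i * Y⁻¹ * (X ^ i)⁻¹) * X⁻¹ := by group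
        _ = X * Y⁻¹ * X⁻¹ * (X * a ^ i * X⁻¹) := by rw [ih]; group
        _ = Y⁻¹ * a ^ (i + 1) := by
            rw [e1, hc.eq, mul_inv_cancel_right, pow_succ', mul_assoc]
  have hX1 : X ^ orderOf x = 1 := by
    rw [hX, ← map_pow, show x' ^ orderOf x = 1 from Subtype.ext (pow_orderOf_eq_one x), map_one]
  have hao : a ^ orderOf x = 1 := by
    have h1 := hpw (orderOf x)
    rw [hX1, one_mul, inv_one, mul_one] at h1
    exact left_eq_mul.1 h1
  have hcy : ⁅y, x⁆ ∈ P := by
    rw [commutatorElement_def, mul_assoc, mul_assoc, ← mul_assoc x]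
    exact mul_mem hy ((mem_normalizer_iff.1 hxP _).1 (inv_mem hy))
  have haP : orderOf a ∣ Nat.card P := by
    rw [ha, hY, hX, ← map_commutatorElement]
    refine (orderOf_map_dvd mk _).trans ?_
    rw [← orderOf_injective N.subtype N.subtype_injective]
    exact Subgroup.orderOf_dvd_natCard P hcy
  have ha1 : a = 1 := orderOf_eq_one_iff.1
    (Nat.eq_one_of_dvd_coprimes hcop (orderOf_dvd_of_pow_eq_one hao) haP)
  rw [ha, hY, hX, ← map_commutatorElement] at ha1
  have h3 := (QuotientGroup.eq_one_iff ⁅y', x'⁆).1 ha1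
  exact h3

/-- Orders of elements of groups of different prime power orders are coprime. -/
theorem coprime_orderOf_card [Finite Γ] {P Q : Subgroup Γ} {p q : ℕ} [Fact p.Prime] [Fact q.Prime]
    (hP : IsPGroup p P) (hQ : IsPGroup q Q) (hne : p ≠ q) {x : Γ} (hx : x ∈ P) :
    (orderOf x).Coprime (Nat.card Q) :=
  Nat.Coprime.coprime_dvd_left (Subgroup.orderOf_dvd_natCard P hx)
    (IsPGroup.coprime_card_of_ne p q hne P Q hP hQ)

/-- The base of the towers: a minimal invariant subgroup of a core. -/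
theorem exists_tower_one [Finite Γ] {G : Subgroup Γ} [G.Normal] (hG : Group.IsSolvable G) (s : Γ)
    (h0 : ¬ HasChain G 0) :
    ∃ (P : ℕ → Subgroup Γ) (p : ℕ → ℕ) (K : ℕ → Subgroup Γ), Tower G s 1 P p K ∧
      ∃ O : Subgroup Γ, O.Normal ∧ O ≤ G ∧ IsPGroup (p 1) O ∧ P 1 ≤ O := by
  classical
  haveI := hG
  haveI hnt : Nontrivial G := by
    by_contra hn
    rw [not_nontrivial_iff_subsingleton] at hn
    exact h0 ⟨fun _ => ⊥, rfl, Subsingleton.elim _ _, monotone_const, fun _ => inferInstance,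
      fun i => i.elim0⟩
  have hne : Cfsg.fittingSubgroup G ≠ ⊥ := Solvable.Cores.fittingSubgroup_ne_bot
  obtain ⟨q, hq, hOne⟩ : ∃ q : ℕ, q.Prime ∧ Cfsg.pCore q G ≠ ⊥ := by
    by_contra hno
    push Not at hno
    exact hne (by
      rw [Solvable.Cores.fittingSubgroup_eq_iSup_pCore]
      exact eq_bot_iff.2 (iSup_le fun q => (hno q q.2).le))
  set O := (Cfsg.pCore q G).map G.subtype with hO
  haveI : O.Normal := by
    rw [hO]; infer_instance
  obtain ⟨P₁, hP₁O, hP₁⟩ := Finite.exists_le_minimal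
    (p := fun Q : Subgroup Γ => Q ≠ ⊥ ∧ s ∈ normalizer (Q : Set Γ)) (a := O)
    ⟨fun hb => hOne ((map_eq_bot_iff_of_injective _ G.subtype_injective).1 hb), by
      rw [normalizer_eq_top]; trivial⟩
  have hp : IsPGroup q O := (Solvable.Cores.isPGroup_pCore q).map _
  refine ⟨fun _ => P₁, fun _ => q, fun _ => ⊥, ⟨fun i _ _ => hP₁O.trans (map_subtype_le _),
    fun i _ _ => hq, fun i _ _ => hp.to_le hP₁O, fun i _ _ => hP₁.prop.2,
    fun i j _ _ _ => le_normalizer, fun i _ _ => absurd ‹i < 1› (by omega), rfl,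
    fun i _ _ => absurd ‹i < 1› (by omega), fun hle => hP₁.prop.1 (le_bot_iff.1 hle),
    fun Q hQ hs hne' => le_antisymm hQ (hP₁.le_of_le ⟨fun hb => hne' hb.le, hs⟩ hQ),
    fun i _ _ => absurd ‹i < 1› (by omega), fun i _ _ => absurd ‹i < 1› (by omega)⟩,
    O, inferInstance, map_subtype_le _, hp, hP₁O⟩

/-- Lifts of the members of a tower of the quotient by the Fitting subgroup. -/
theorem exists_lifts [Finite Γ] {G N₀ : Subgroup Γ} [hGn : G.Normal] [hN₀ : N₀.Normal] {s : Γ}
    {r : ℕ} (hs : s ^ r = 1) (hcop : (Nat.card G).Coprime r) (hN₀G : N₀ ≤ G) {h : ℕ}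
    {Q : ℕ → Subgroup (Γ ⧸ N₀)} {p : ℕ → ℕ} {K : ℕ → Subgroup (Γ ⧸ N₀)}
    (hT : Tower (G.map (QuotientGroup.mk' N₀)) (QuotientGroup.mk' N₀ s) h Q p K) :
    ∀ d ≤ h, ∃ (A : ℕ → Subgroup Γ) (N : Subgroup Γ), N ≤ G ∧ s ∈ normalizer (N : Set Γ) ∧
      (∀ i, 1 ≤ i → i + d ≤ h → Q i ≤ N.map (QuotientGroup.mk' N₀)) ∧
      ∀ i, h < i + d → i ≤ h → A i ≤ G ∧ IsPGroup (p i) (A i) ∧ s ∈ normalizer (A i : Set Γ) ∧
        (A i).map (QuotientGroup.mk' N₀) = Q i ∧ N ≤ normalizer (A i : Set Γ) ∧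
        ∀ j, i ≤ j → j ≤ h → A i ≤ normalizer (A j : Set Γ) := by
  classical
  set mk := QuotientGroup.mk' N₀ with hmk
  intro d
  induction d with
  | zero =>
    intro _
    exact ⟨fun _ => ⊥, G, le_rfl, by rw [normalizer_eq_top]; trivial,
      fun i hi hid => hT.le i hi (by omega), fun i h1 h2 => by omega⟩
  | succ d ih =>
    intro hdh
    obtain ⟨A, N, hNG, hsN, hQN, hA⟩ := ih (by omega)
    set i₀ := h - d with hi₀
    have hi₀1 : 1 ≤ i₀ := by omega
    haveI := Fact.mk (hT.prime i₀ hi₀1 (by omega))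
    set X := N ⊓ (Q i₀).comap mk with hX
    have hXmap : X.map mk = Q i₀ := by
      refine le_antisymm ?_ fun y hy => ?_
      · exact (Subgroup.map_mono inf_le_right).trans (map_comap_le _ _)
      · obtain ⟨g, hg, rfl⟩ := hQN i₀ hi₀1 (by omega) hy
        exact ⟨g, ⟨hg, hy⟩, rfl⟩
    have hsX : zpowers s ≤ normalizer (X : Set Γ) := zpowers_le.2 (mem_normalizer_fintype
      fun g hg => ⟨(mem_normalizer_iff.1 hsN g).1 hg.1, by
        show mk (s * g * s⁻¹) ∈ Q i₀
        rw [map_mul, map_mul, map_inv]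
        exact (mem_normalizer_iff.1 (hT.norm_s i₀ hi₀1 (by omega)) _).1 hg.2⟩)
    obtain ⟨S, hS⟩ := Coprime.exists_invariant_sylow hsX (by
      rw [Nat.card_zpowers]
      exact ((hcop.coprime_dvd_left (card_dvd_of_le (inf_le_left.trans hNG))).coprime_dvd_right
        (orderOf_dvd_of_pow_eq_one hs)).symm) (Or.inl (Coprime.isSolvable_zpowers s)) (p i₀)
    set A₀ := (S : Subgroup X).map X.subtype with hA₀
    have hA₀X : A₀ ≤ X := map_subtype_le _
    have hA₀map : A₀.map mk = Q i₀ := by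
      have hsurj : Function.Surjective (mk.subgroupMap X) := mk.subgroupMap_surjective X
      set S' := S.mapSurjective hsurj with hS'
      have htop : (S' : Subgroup (X.map mk)) = ⊤ := by
        refine (S'.is_maximal' ?_ le_top).symm
        refine IsPGroup.of_equiv ?_ Subgroup.topEquiv.symm
        rw [hXmap]
        exact hT.pgroup i₀ hi₀1 (by omega)
      have h1 : ((S : Subgroup X).map (mk.subgroupMap X)).map (X.map mk).subtype = X.map mk := by
        rw [show (S : Subgroup X).map (mk.subgroupMap X) = ⊤ from htop, ← MonoidHom.range_eq_map,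
          Subgroup.range_subtype]
      rw [hA₀, ← hXmap, ← h1, Subgroup.map_map, Subgroup.map_map]
      congr 1
    set N' := N ⊓ normalizer (A₀ : Set Γ) with hN'
    have hsA₀ : s ∈ normalizer (A₀ : Set Γ) := hS (mem_zpowers s)
    refine ⟨Function.update A i₀ A₀, N', inf_le_left.trans hNG,
      mem_normalizer_fintype fun g hg => mem_inf.2 ⟨(mem_normalizer_iff.1 hsN g).1 (mem_inf.1 hg).1,
        mul_mem (mul_mem hsA₀ (mem_inf.1 hg).2) (inv_mem hsA₀)⟩, fun i hi hid => ?_,
      fun i h1 h2 => ?_⟩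
    · intro y hy
      obtain ⟨n, hn, rfl⟩ := hQN i hi (by omega) hy
      have hnX : n ∈ normalizer (X : Set Γ) := mem_normalizer_fintype fun g hg =>
        mem_inf.2 ⟨mul_mem (mul_mem hn (mem_inf.1 hg).1) (inv_mem hn), by
          show mk (n * g * n⁻¹) ∈ Q i₀
          rw [map_mul, map_mul, map_inv]
          exact (mem_normalizer_iff.1 (hT.norm i i₀ hi (by omega) (by omega) hy) _).1 hg.2⟩
      obtain ⟨S₂, hS₂⟩ := Coprime.exists_sylow_map_eq (K := X) (p := p i₀)
        (H := A₀.map (MulAut.conj n).toMonoidHom) (Coprime.conj_map_le_iff.2 fun g hg =>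
          (mem_normalizer_iff.1 hnX g).1 (hA₀X hg))
        (by rw [Coprime.card_conj_map, hA₀, Coprime.card_map_subtype, S.card_eq_multiplicity])
      obtain ⟨x, rfl⟩ := MulAction.exists_smul_eq X S S₂
      rw [Coprime.map_smul_sylow, ← hA₀] at hS₂
      obtain ⟨a, ha, hax⟩ : mk x ∈ A₀.map mk := by rw [hA₀map]; exact x.2.2
      refine ⟨((x : Γ) * a⁻¹)⁻¹ * n, mem_inf.2 ⟨mul_mem (inv_mem (mul_mem (mem_inf.1 x.2).1
        (inv_mem (mem_inf.1 (hA₀X ha)).1))) hn,
        mem_normalizer_iff_map_conj_eq.2 ?_⟩, ?_⟩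
      · have hnA : ∀ g, g ∈ A₀.map (MulAut.conj n).toMonoidHom ↔
            g ∈ A₀.map (MulAut.conj (x : Γ)).toMonoidHom := fun g => by rw [hS₂]
        refine Subgroup.ext fun g => ⟨?_, fun hg => ?_⟩
        · rintro ⟨b, hb, rfl⟩
          obtain ⟨c, hc, hcb⟩ := (hnA (n * b * n⁻¹)).1 ⟨b, hb, rfl⟩
          show (x * a⁻¹ : Γ)⁻¹ * n * b * ((x * a⁻¹ : Γ)⁻¹ * n)⁻¹ ∈ A₀
          have hcb' : (x : Γ) * c * (x : Γ)⁻¹ = n * b * n⁻¹ := hcb
          rw [show (x * a⁻¹ : Γ)⁻¹ * n * b * ((x * a⁻¹ : Γ)⁻¹ * n)⁻¹ =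
            a * (x : Γ)⁻¹ * (n * b * n⁻¹) * x * a⁻¹ by group, ← hcb']
          rw [show a * (x : Γ)⁻¹ * ((x : Γ) * c * (x : Γ)⁻¹) * x * a⁻¹ = a * c * a⁻¹ by group]
          exact mul_mem (mul_mem ha hc) (inv_mem ha)
        · obtain ⟨b, hb, hbg⟩ :=
            (hnA ((x : Γ) * (a⁻¹ * g * a) * (x : Γ)⁻¹)).2
              ⟨a⁻¹ * g * a, mul_mem (mul_mem (inv_mem ha) hg) ha, rfl⟩
          refine ⟨b, hb, ?_⟩
          have hbg' : n * b * n⁻¹ = (x : Γ) * (a⁻¹ * g * a) * (x : Γ)⁻¹ := hbg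
          show (x * a⁻¹ : Γ)⁻¹ * n * b * ((x * a⁻¹ : Γ)⁻¹ * n)⁻¹ = g
          rw [show (x * a⁻¹ : Γ)⁻¹ * n * b * ((x * a⁻¹ : Γ)⁻¹ * n)⁻¹ =
            a * (x : Γ)⁻¹ * (n * b * n⁻¹) * x * a⁻¹ by group, hbg']
          group
      · show mk ((x * a⁻¹ : Γ)⁻¹ * n) = mk n
        rw [map_mul, map_inv, map_mul, map_inv, ← hax, mul_inv_cancel, inv_one, one_mul]
    · by_cases hii : i = i₀
      · subst hii
        rw [Function.update_self]
        refine ⟨hA₀X.trans (inf_le_left.trans hNG), S.isPGroup'.map _, hsA₀, hA₀map, inf_le_right,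
          fun j hij hj => ?_⟩
        by_cases hji : j = i₀
        · subst hji; rw [Function.update_self]; exact le_normalizer
        · rw [Function.update_of_ne hji]
          exact (hA₀X.trans inf_le_left).trans (hA j (by omega) hj).2.2.2.2.1
      · rw [Function.update_of_ne hii]
        obtain ⟨a1, a2, a3, a4, a5, a6⟩ := hA i (by omega) h2
        refine ⟨a1, a2, a3, a4, inf_le_left.trans a5, fun j hij hj => ?_⟩
        rw [Function.update_of_ne (show j ≠ i₀ by omega)]
        exact a6 j hij hj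

/-- Minimal lifts, chosen from the top. -/
theorem exists_minimal_lifts [Finite Γ] {N₀ : Subgroup Γ} [N₀.Normal] {s : Γ} {h : ℕ}
    {A : ℕ → Subgroup Γ} {Q : ℕ → Subgroup (Γ ⧸ N₀)}
    (hsA : ∀ i, 1 ≤ i → i ≤ h → s ∈ normalizer (A i : Set Γ))
    (hAA : ∀ i j, 1 ≤ i → i ≤ j → j ≤ h → A i ≤ normalizer (A j : Set Γ))
    (hAQ : ∀ i, 1 ≤ i → i ≤ h → (A i).map (QuotientGroup.mk' N₀) = Q i) :
    ∀ l ≤ h, ∃ P : ℕ → Subgroup Γ, ∀ i, 1 ≤ i → i ≤ l → P i ≤ A i ∧
      s ∈ normalizer (P i : Set Γ) ∧ (∀ j, 1 ≤ j → j < i → P j ≤ normalizer (P i : Set Γ)) ∧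
      (P i).map (QuotientGroup.mk' N₀) = Q i ∧
      ∀ Z ≤ P i, (∀ j, 1 ≤ j → j < i → P j ≤ normalizer (Z : Set Γ)) →
        s ∈ normalizer (Z : Set Γ) → Z.map (QuotientGroup.mk' N₀) = Q i → Z = P i := by
  classical
  intro l
  induction l with
  | zero => exact fun _ => ⟨fun _ => ⊥, fun i h1 h2 => by omega⟩
  | succ l ih =>
    intro hl
    obtain ⟨P, hP⟩ := ih (by omega)
    obtain ⟨P₀, hle, hmin⟩ := Finite.exists_le_minimal
      (p := fun Z : Subgroup Γ => (∀ j, 1 ≤ j → j ≤ l → P j ≤ normalizer (Z : Set Γ)) ∧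
        s ∈ normalizer (Z : Set Γ) ∧ Z.map (QuotientGroup.mk' N₀) = Q (l + 1))
      (a := A (l + 1))
      ⟨fun j hj hjl => (hP j hj hjl).1.trans (hAA j (l + 1) hj (by omega) hl),
        hsA (l + 1) (by omega) hl, hAQ (l + 1) (by omega) hl⟩
    refine ⟨Function.update P (l + 1) P₀, fun i hi hil => ?_⟩
    by_cases hii : i = l + 1
    · subst hii
      rw [Function.update_self]
      obtain ⟨h1, h2, h3⟩ := hmin.prop
      refine ⟨hle, h2, fun j hj hjl => ?_, h3, fun Z hZ hZn hZs hZQ => ?_⟩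
      · rw [Function.update_of_ne (show j ≠ l + 1 by omega)]; exact h1 j hj (by omega)
      · refine le_antisymm hZ (hmin.le_of_le ⟨fun j hj hjl => ?_, hZs, hZQ⟩ hZ)
        have := hZn j hj (by omega)
        rwa [Function.update_of_ne (show j ≠ l + 1 by omega)] at this
    · rw [Function.update_of_ne hii]
      obtain ⟨h1, h2, h3, h4, h5⟩ := hP i hi (by omega)
      refine ⟨h1, h2, fun j hj hji => ?_, h4, fun Z hZ hZn hZs hZQ => h5 Z hZ (fun j hj hji => ?_)
        hZs hZQ⟩
      · rw [Function.update_of_ne (show j ≠ l + 1 by omega)]; exact h3 j hj hji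
      · have := hZn j hj hji
        rwa [Function.update_of_ne (show j ≠ l + 1 by omega)] at this

/-- Some core of another prime is moved by a `q`-group over the Fitting subgroup. -/
theorem exists_moved_core [Finite Γ] {G : Subgroup Γ} [hGn : G.Normal] (hG : Group.IsSolvable G)
    [(fit G).Normal] {q : ℕ} [Fact q.Prime] {O' : Subgroup (Γ ⧸ fit G)} [hO'n : O'.Normal]
    (hO' : IsPGroup q O') {P : Subgroup Γ} (hPG : P ≤ G)
    (hPO : P.map (QuotientGroup.mk' (fit G)) ≤ O') (hPF : ¬ P ≤ fit G) :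
    ∃ p : ℕ, p.Prime ∧ p ≠ q ∧ ¬ ⁅(Cfsg.pCore p G).map G.subtype, P⁆ ≤ ⊥ := by
  classical
  haveI := hG
  by_contra hno
  push Not at hno
  set mk := QuotientGroup.mk' (fit G) with hmk
  let ι := {p : ℕ // p.Prime ∧ p ≠ q}
  let Z : Subgroup G := ⨆ p : ι, Cfsg.pCore p.1 G
  let T : Subgroup G := (O'.comap mk).subgroupOf G ⊓ centralizer (Z : Set G)
  haveI : ∀ p : ι, (Cfsg.pCore p.1 G).Normal := fun p => Subgroup.sSup_normal _ fun _ h => h.1
  haveI hZn : Z.Normal := Subgroup.iSup_normal _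
  haveI : T.Normal := by
    haveI : ((O'.comap mk).subgroupOf G).Normal := (hO'n.comap mk).subgroupOf G
    exact normal_inf_normal _ _
  have hFeq : Cfsg.fittingSubgroup G ≤ Cfsg.pCore q G ⊔ Z := by
    rw [Solvable.Cores.fittingSubgroup_eq_iSup_pCore]
    refine iSup_le fun p => ?_
    by_cases hpq : (p : ℕ) = q
    · rw [hpq]; exact le_sup_left
    · exact le_sup_of_le_right (le_iSup (fun p : ι => Cfsg.pCore p.1 G) ⟨p, p.2, hpq⟩)
  let f : T →* G ⧸ Z := (QuotientGroup.mk' Z).comp T.subtype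
  have hker : f.rangeRestrict.ker ≤ center T := by
    intro z hz
    rw [MonoidHom.ker_rangeRestrict] at hz
    have hzZ : (z : G) ∈ Z := (QuotientGroup.eq_one_iff _).1 (MonoidHom.mem_ker.1 hz)
    exact mem_center_iff.2 fun y => Subtype.ext ((mem_centralizer_iff.1 y.2.2 _ hzZ).symm)
  have hnil : Group.IsNilpotent f.range := by
    refine IsPGroup.isNilpotent (p := q) ?_
    rintro ⟨_, x, rfl⟩
    obtain ⟨a, ha⟩ := hO' ⟨mk ((x : G) : Γ), x.2.1⟩
    have h1 : ((x : G) : Γ) ^ q ^ a ∈ fit G :=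
      (QuotientGroup.eq_one_iff _).1 ((map_pow mk _ _).trans (congrArg Subtype.val ha))
    obtain ⟨w, hw, hwx⟩ := h1
    have hwx' : (x : G) ^ q ^ a = w := Subtype.ext (by
      rw [SubmonoidClass.coe_pow]; exact hwx.symm)
    have hmem : QuotientGroup.mk' Z w ∈ (Cfsg.pCore q G).map (QuotientGroup.mk' Z) := by
      have := mem_map_of_mem (QuotientGroup.mk' Z) (hFeq hw)
      rwa [Subgroup.map_sup, show Z.map (QuotientGroup.mk' Z) = ⊥ from by
        rw [Subgroup.map_eq_bot_iff, QuotientGroup.ker_mk'], sup_bot_eq] at this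
    obtain ⟨b, hb⟩ := ((Solvable.Cores.isPGroup_pCore q).map (QuotientGroup.mk' Z)) ⟨_, hmem⟩
    refine ⟨a + b, Subtype.ext ?_⟩
    show f x ^ q ^ (a + b) = 1
    rw [pow_add, pow_mul]
    show (QuotientGroup.mk' Z (x : G) ^ q ^ a) ^ q ^ b = 1
    rw [← map_pow, hwx']
    exact congrArg Subtype.val hb
  haveI : Group.IsNilpotent T := Subgroup.isNilpotent_of_ker_le_center f.rangeRestrict hker
  refine hPF fun x hx => ⟨⟨x, hPG hx⟩, Solvable.Cores.le_fittingSubgroup (N := T) inferInstance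
    ⟨hPO (mem_map_of_mem mk hx), mem_centralizer_iff.2 fun z hz => ?_⟩, rfl⟩
  have hle : Z ≤ (centralizer ({x} : Set Γ)).comap G.subtype := iSup_le fun p z hz => by
    refine Subgroup.mem_comap.2 (mem_centralizer_singleton_iff.2 ?_)
    exact commutatorElement_eq_one_iff_mul_comm.1 (mem_bot.1
      ((hno p.1 p.2.1 p.2.2) (commutator_mem_commutator (mem_map_of_mem G.subtype hz) hx)))
  exact Subtype.ext (mem_centralizer_singleton_iff.1 (Subgroup.mem_comap.1 (hle hz)))

/-- Existence of towers. -/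
theorem exists_tower : ∀ (m : ℕ) {Γ : Type u} [Group Γ] [Finite Γ] (G : Subgroup Γ) [G.Normal],
    Group.IsSolvable G → ∀ (s : Γ) (r : ℕ), s ^ r = 1 → (Nat.card G).Coprime r →
    ¬ HasChain G m →
    ∃ (P : ℕ → Subgroup Γ) (p : ℕ → ℕ) (K : ℕ → Subgroup Γ), Tower G s (m + 1) P p K ∧
      ∃ O : Subgroup Γ, O.Normal ∧ O ≤ G ∧ IsPGroup (p (m + 1)) O ∧ P (m + 1) ≤ O := by
  classical
  intro m
  induction m with
  | zero => intro Γ _ _ G _ hG s r _ _ h0; exact exists_tower_one hG s h0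
  | succ m ih =>
    intro Γ _ _ G hGn hG s r hs hcop hno
    haveI := hG
    haveI : (fit G).Normal := by unfold fit; infer_instance
    set mk := QuotientGroup.mk' (fit G) with hmk
    haveI : (G.map mk).Normal := hGn.map mk (QuotientGroup.mk'_surjective _)
    have hker : (mk.subgroupMap G).ker = Cfsg.fittingSubgroup G := by
      ext x
      rw [MonoidHom.mem_ker, Subtype.ext_iff]
      show mk (x : Γ) = 1 ↔ _
      rw [QuotientGroup.mk'_apply, QuotientGroup.eq_one_iff, fit]
      exact mem_map_iff_mem G.subtype_injective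
    have hno' : ¬ HasChain (G.map mk) m := fun hc => hno <| by
      obtain ⟨C, h0, h1, hm, hn, hk⟩ := hc.of_equiv
        ((QuotientGroup.quotientMulEquivOfEq hker.symm).trans
          (QuotientGroup.quotientKerEquivOfSurjective _ (mk.subgroupMap_surjective G))).symm
      exact exists_chain_cons C h0 h1 hm hn hk
    obtain ⟨Q, pQ, KQ, hT, O', hO'n, hO'G, hO'p, hQO'⟩ := ih (G.map mk)
      (Group.isSolvable_of_surjective (f := mk.subgroupMap G) (mk.subgroupMap_surjective G))
      (mk s) r (by rw [← map_pow, hs, map_one]) (hcop.coprime_dvd_left (G.card_map_dvd mk)) hno'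
    obtain ⟨A, N, -, -, -, hA⟩ := exists_lifts hs hcop (fit_le G) hT (m + 1) le_rfl
    obtain ⟨P, hP⟩ := exists_minimal_lifts (h := m + 1) (A := A) (Q := Q)
      (fun i hi hih => (hA i (by omega) hih).2.2.1)
      (fun i j hi hij hjh => (hA i (by omega) (hij.trans hjh)).2.2.2.2.2 j hij hjh)
      (fun i hi hih => (hA i (by omega) hih).2.2.2.1) (m + 1) le_rfl
    have hPle : ∀ i, 1 ≤ i → i ≤ m + 1 → P i ≤ G := fun i hi hih =>
      (hP i hi hih).1.trans (hA i (by omega) hih).1
    have hPp : ∀ i, 1 ≤ i → i ≤ m + 1 → IsPGroup (pQ i) (P i) := fun i hi hih =>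
      (hA i (by omega) hih).2.1.to_le (hP i hi hih).1
    have hPQ : ∀ i, 1 ≤ i → i ≤ m + 1 → (P i).map mk = Q i := fun i hi hih =>
      (hP i hi hih).2.2.2.1
    set q := pQ (m + 1) with hq
    haveI := Fact.mk (hT.prime (m + 1) (by omega) le_rfl)
    haveI := hO'n
    obtain ⟨p₀, hp₀, hp₀q, hmoved⟩ := exists_moved_core hG hO'p (hPle (m + 1) (by omega) le_rfl)
      (by rw [hPQ (m + 1) (by omega) le_rfl]; exact hQO') fun hle => by
        have hb : Q (m + 1) = ⊥ := by
          rw [← hPQ (m + 1) (by omega) le_rfl, Subgroup.map_eq_bot_iff, QuotientGroup.ker_mk']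
          exact hle
        rcases Nat.eq_zero_or_pos m with rfl | hm
        · exact hT.top (by rw [hb]; exact bot_le)
        · exact hT.act m hm (by omega) (by rw [hb, commutator_bot_left]; exact bot_le)
    set O := (Cfsg.pCore p₀ G).map G.subtype with hO
    haveI hOn : O.Normal := by rw [hO]; infer_instance
    have hOp : IsPGroup p₀ O := (Solvable.Cores.isPGroup_pCore p₀).map _
    obtain ⟨P₀, hP₀O, hP₀⟩ := Finite.exists_le_minimal
      (p := fun Z : Subgroup Γ => (∀ j, 1 ≤ j → j ≤ m + 1 → P j ≤ normalizer (Z : Set Γ)) ∧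
        s ∈ normalizer (Z : Set Γ) ∧ ¬ ⁅Z, P (m + 1)⁆ ≤ ⊥) (a := O)
      ⟨fun j _ _ => by rw [normalizer_eq_top]; exact le_top, by rw [normalizer_eq_top]; trivial,
        hmoved⟩
    set P' := Function.update P (m + 2) P₀ with hP'
    set p' := Function.update pQ (m + 2) p₀ with hp'
    have hP'1 : ∀ i, i ≤ m + 1 → P' i = P i := fun i hi =>
      Function.update_of_ne (show i ≠ m + 2 by omega) _ _
    have hp'1 : ∀ i, i ≤ m + 1 → p' i = pQ i := fun i hi =>
      Function.update_of_ne (show i ≠ m + 2 by omega) _ _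
    have hP'2 : P' (m + 2) = P₀ := Function.update_self _ _ _
    have hp'2 : p' (m + 2) = p₀ := Function.update_self _ _ _
    have hnorm : ∀ i j, 1 ≤ i → i ≤ j → j ≤ m + 2 → P' i ≤ normalizer (P' j : Set Γ) := by
      intro i j hi hij hj
      rcases Nat.lt_or_eq_of_le hj with hj' | rfl
      · rw [hP'1 i (by omega), hP'1 j (by omega)]
        rcases Nat.lt_or_eq_of_le hij with hij' | rfl
        · exact (hP j (by omega) (by omega)).2.2.1 i hi hij'
        · exact le_normalizer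
      · rw [hP'2]
        rcases Nat.lt_or_eq_of_le hij with hij' | rfl
        · rw [hP'1 i (by omega)]; exact hP₀.prop.1 i hi (by omega)
        · rw [hP'2]; exact le_normalizer
    have hsn : ∀ i, 1 ≤ i → i ≤ m + 2 → s ∈ normalizer (P' i : Set Γ) := by
      intro i hi hih
      rcases Nat.lt_or_eq_of_le hih with hi' | rfl
      · rw [hP'1 i (by omega)]; exact (hP i hi (by omega)).2.1
      · rw [hP'2]; exact hP₀.prop.2.1
    set K := towerKer P' (m + 2) with hK
    have hKlast : K (m + 2) = ⊥ := towerKer_self _ _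
    have hKer : ∀ i, 1 ≤ i → i < m + 2 → ∀ x,
        x ∈ K i ↔ x ∈ P' i ∧ ∀ y ∈ P' (i + 1), ⁅x, y⁆ ∈ K (i + 1) := fun i hi hih x =>
      mem_towerKer hnorm hi hih
    -- the kernels of the quotient pull back into the kernels
    have hpull : ∀ e i, i + e = m + 1 → 1 ≤ i → ∀ x ∈ P i, mk x ∈ KQ i → x ∈ K i := by
      intro e
      induction e with
      | zero =>
        intro i hie hi x hx hxK
        obtain rfl : i = m + 1 := by omega
        rw [hT.ker_last, mem_bot] at hxK
        refine (hKer _ hi (by omega) x).2 ⟨by rw [hP'1 _ le_rfl]; exact hx, fun y hy => ?_⟩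
        rw [show m + 1 + 1 = m + 2 from rfl, hKlast, mem_bot, commutatorElement_eq_one_iff_mul_comm]
        rw [show m + 1 + 1 = m + 2 from rfl, hP'2] at hy
        have hxF : x ∈ fit G := (QuotientGroup.eq_one_iff _).1 hxK
        obtain ⟨x', hx', rfl⟩ := hxF
        obtain ⟨y', hy', rfl⟩ := hP₀O hy
        haveI := Fact.mk hp₀
        exact congrArg Subtype.val (OddOrder.Basic.commute_of_mem_nilpotent
          (K := Cfsg.fittingSubgroup G) hx' (Solvable.Cores.pCore_le_fittingSubgroup p₀ hy') (by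
            have h1 := coprime_orderOf_card (hPp (m + 1) (by omega) le_rfl) hOp
              (Ne.symm hp₀q) hx
            rw [← orderOf_injective G.subtype G.subtype_injective x',
              ← orderOf_injective G.subtype G.subtype_injective y']
            exact h1.coprime_dvd_right (Subgroup.orderOf_dvd_natCard O (mem_map_of_mem _ hy')))).eq
      | succ e ihe =>
        intro i hie hi x hx hxK
        refine (hKer i hi (by omega) x).2 ⟨by rw [hP'1 i (by omega)]; exact hx, fun y hy => ?_⟩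
        rw [hP'1 (i + 1) (by omega)] at hy
        refine ihe (i + 1) (by omega) (by omega) _ ?_ ?_
        · rw [commutatorElement_def]
          exact mul_mem ((mem_normalizer_iff.1 ((hP (i + 1) (by omega) (by omega)).2.2.1 i hi
            (by omega) hx) y).1 hy) (inv_mem hy)
        · rw [map_commutatorElement]
          exact ((hT.ker i hi (by omega) _).1 hxK).2 _ (hPQ (i + 1) (by omega) (by omega) ▸
            mem_map_of_mem mk hy)
    have hpullc : ∀ i, 1 ≤ i → i + 1 ≤ m + 1 → ∀ Z ≤ P (i + 1),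
        ⁅Z.map mk, Q i⁆ ≤ KQ (i + 1) → ⁅Z, P i⁆ ≤ K (i + 1) := by
      intro i hi hih Z hZ hle
      refine commutator_le.2 fun z hz y hy => hpull (m - i) (i + 1) (by omega) (by omega) _ ?_ ?_
      · rw [commutatorElement_def, mul_assoc, mul_assoc, ← mul_assoc y]
        exact mul_mem (hZ hz) ((mem_normalizer_iff.1
          ((hP (i + 1) (by omega) hih).2.2.1 i hi (by omega) hy) _).1 (inv_mem (hZ hz)))
      · rw [map_commutatorElement]
        exact hle (commutator_mem_commutator (mem_map_of_mem mk hz)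
          (hPQ i hi (by omega) ▸ mem_map_of_mem mk hy))
    have hKs : ∀ i, 1 ≤ i → i ≤ m + 2 → s ∈ normalizer (K i : Set Γ) := fun i hi hih =>
      mem_normalizer_towerKer hih fun j h1 h2 => hsn j (by omega) h2
    have hKn : ∀ i j, 1 ≤ j → j ≤ i → i ≤ m + 2 → P' j ≤ normalizer (K i : Set Γ) :=
      fun i j hj hji hih g hg =>
        mem_normalizer_towerKer hih fun l h1 h2 => hnorm j l hj (hji.trans h1) h2 hg
    -- the members act nontrivially
    have hact : ∀ e i, i + e = m + 1 → 1 ≤ i → ¬ ⁅P' (i + 1), P' i⁆ ≤ K (i + 1) := by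
      intro e
      induction e with
      | zero =>
        intro i hie hi
        obtain rfl : i = m + 1 := by omega
        rw [show m + 1 + 1 = m + 2 from rfl, hP'2, hP'1 _ le_rfl, hKlast]
        exact hP₀.prop.2.2
      | succ e ihe =>
        intro i hie hi hle
        rw [hP'1 (i + 1) (by omega), hP'1 i (by omega)] at hle
        have h1 : ¬ P (i + 1) ≤ K (i + 1) := fun h1 => ihe (i + 1) (by omega) (by omega)
          (commutator_le.2 fun y hy x hx => by
            rw [← commutatorElement_inv]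
            exact inv_mem (((hKer (i + 1) (by omega) (by omega) x).1
              (h1 (by rwa [hP'1 (i + 1) (by omega)] at hx))).2 y hy))
        set Z := P (i + 1) ⊓ K (i + 1) with hZ
        have hZn : ∀ j, 1 ≤ j → j < i + 1 → P j ≤ normalizer (Z : Set Γ) := fun j hj hji g hg =>
          mem_normalizer_fintype fun z hz =>
            ⟨(mem_normalizer_iff.1 ((hP (i + 1) (by omega) (by omega)).2.2.1 j hj hji hg) z).1 hz.1,
              (mem_normalizer_iff.1 (hKn (i + 1) j hj (by omega) (by omega)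
                (by rwa [hP'1 j (by omega)])) z).1 hz.2⟩
        have hZs : s ∈ normalizer (Z : Set Γ) := mem_normalizer_fintype fun z hz =>
          ⟨(mem_normalizer_iff.1 (hP (i + 1) (by omega) (by omega)).2.1 z).1 hz.1,
            (mem_normalizer_iff.1 (hKs (i + 1) (by omega) (by omega)) z).1 hz.2⟩
        have hZne : Z.map mk ≠ Q (i + 1) := fun hc => h1 <| by
          rw [← (hP (i + 1) (by omega) (by omega)).2.2.2.2 Z inf_le_left hZn hZs hc]
          exact inf_le_right
        have hbracket : ⁅Z.map mk, Q i⁆ ≤ KQ (i + 1) := by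
          by_contra hc
          refine hZne (hT.min i hi (by omega) _ ?_ (fun j hj hji => ?_) ?_ hc)
          · rw [← hPQ (i + 1) (by omega) (by omega)]; exact Subgroup.map_mono inf_le_left
          · rw [← hPQ j hj (by omega)]
            exact (Subgroup.map_mono (hZn j hj (by omega))).trans (le_normalizer_map mk)
          · exact le_normalizer_map mk (mem_map_of_mem mk hZs)
        haveI := Fact.mk (hT.prime i hi (by omega))
        haveI := Fact.mk (hT.prime (i + 1) (by omega) (by omega))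
        refine hT.act i hi (by omega) (commutator_le.2 fun z hz y hy => ?_)
        have hzy : ⁅z, y⁆ ∈ Q (i + 1) := by
          rw [commutatorElement_def, mul_assoc, mul_assoc, ← mul_assoc y]
          exact mul_mem hz ((mem_normalizer_iff.1 (hT.norm i (i + 1) hi (by omega) (by omega) hy)
            _).1 (inv_mem hz))
        refine commutator_mem_of_twice (hT.ker_le (by omega) (by omega))
          (hT.le_normalizer_ker (by omega) le_rfl (by omega))
          (hT.norm i (i + 1) hi (by omega) (by omega) hy)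
          (hT.le_normalizer_ker hi (by omega) (by omega) hy)
          (coprime_orderOf_card (hT.pgroup i hi (by omega)) (hT.pgroup (i + 1) (by omega) (by omega))
            (hT.ne i hi (by omega)) hy) hz (hbracket (commutator_mem_commutator ?_ hy))
        have h2 : ⁅Q (i + 1), Q i⁆ ≤ Z.map mk := by
          rw [← hPQ (i + 1) (by omega) (by omega), ← hPQ i hi (by omega), ← Subgroup.map_commutator]
          exact Subgroup.map_mono (le_inf (commutator_le.2 fun a ha b hb => by
            rw [commutatorElement_def, mul_assoc, mul_assoc, ← mul_assoc b]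
            exact mul_mem ha ((mem_normalizer_iff.1
              ((hP (i + 1) (by omega) (by omega)).2.2.1 i hi (by omega) hb) _).1 (inv_mem ha))) hle)
        exact h2 (commutator_mem_commutator hz hy)
    refine ⟨P', p', K, ⟨?_, ?_, ?_, hsn, hnorm, ?_, hKlast, hKer, ?_, ?_,
      fun i hi hih => hact (m + 1 - i) i (by omega) hi, ?_⟩,
      O, inferInstance, map_subtype_le _, by rw [hp'2]; exact hOp, by rw [hP'2]; exact hP₀O⟩
    · intro i hi hih
      rcases Nat.lt_or_eq_of_le hih with hi' | rfl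
      · rw [hP'1 i (by omega)]; exact hPle i hi (by omega)
      · rw [hP'2]; exact hP₀O.trans (map_subtype_le _)
    · intro i hi hih
      rcases Nat.lt_or_eq_of_le hih with hi' | rfl
      · rw [hp'1 i (by omega)]; exact hT.prime i hi (by omega)
      · rw [hp'2]; exact hp₀
    · intro i hi hih
      rcases Nat.lt_or_eq_of_le hih with hi' | rfl
      · rw [hp'1 i (by omega), hP'1 i (by omega)]; exact hPp i hi (by omega)
      · rw [hp'2, hP'2]; exact hOp.to_le hP₀O
    · intro i hi hih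
      rcases Nat.lt_or_eq_of_le (show i ≤ m + 1 by omega) with hi' | rfl
      · rw [hp'1 i (by omega), hp'1 (i + 1) (by omega)]; exact hT.ne i hi (by omega)
      · rw [hp'1 _ le_rfl, show m + 1 + 1 = m + 2 from rfl, hp'2]; exact Ne.symm hp₀q
    · intro hle
      refine hact m 1 (by omega) le_rfl (commutator_le.2 fun y hy x hx => ?_)
      rw [← commutatorElement_inv]
      exact inv_mem (((hKer 1 le_rfl (by omega) x).1 (hle hx)).2 y hy)
    · intro Z hZ hZs hne
      rw [hP'1 1 (by omega)] at hZ ⊢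
      refine (hP 1 le_rfl (by omega)).2.2.2.2 Z hZ (fun j hj hj1 => by omega) hZs ?_
      refine hT.top_min _ (by rw [← hPQ 1 le_rfl (by omega)]; exact Subgroup.map_mono hZ)
        (le_normalizer_map mk (mem_map_of_mem mk hZs)) fun hle => hne fun z hz => ?_
      exact hpull m 1 (by omega) le_rfl z (hZ hz) (hle (mem_map_of_mem mk hz))
    · intro i hi hih Z hZ hZn hZs hne
      rcases Nat.lt_or_eq_of_le (show i ≤ m + 1 by omega) with hi' | rfl
      · rw [hP'1 (i + 1) (by omega)] at hZ ⊢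
        rw [hP'1 i (by omega)] at hne
        have hZn' : ∀ j, 1 ≤ j → j < i + 1 → P j ≤ normalizer (Z : Set Γ) := fun j hj hji => by
          rw [← hP'1 j (by omega)]; exact hZn j hj (by omega)
        refine (hP (i + 1) (by omega) (by omega)).2.2.2.2 Z hZ hZn' hZs ?_
        refine hT.min i hi hi' _ ?_ (fun j hj hji => ?_) ?_ fun hle => hne (hpullc i hi hi' Z hZ hle)
        · rw [← hPQ (i + 1) (by omega) (by omega)]; exact Subgroup.map_mono hZ
        · rw [← hPQ j hj (by omega)]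
          exact (Subgroup.map_mono (hZn' j hj (by omega))).trans (le_normalizer_map mk)
        · exact le_normalizer_map mk (mem_map_of_mem mk hZs)
      · rw [show m + 1 + 1 = m + 2 from rfl, hP'2] at hZ ⊢
        rw [show m + 1 + 1 = m + 2 from rfl, hKlast, hP'1 _ le_rfl] at hne
        exact le_antisymm hZ (hP₀.le_of_le ⟨fun j hj hji => by
          rw [← hP'1 j hji]; exact hZn j hj hji, hZs, hne⟩ hZ)

end CfsgLib.Solvable.TurullHeight
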