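import Cfsg.Agent.Lib.Solvable.TurullHeight.Symp
import Cfsg.Agent.Lib.Solvable.TurullHeight.Extend
import Cfsg.Agent.Lib.Solvable.TurullHeight.Fixed
import Cfsg.Agent.Lib.Solvable.TurullHeight.Tower

/-!
# Actions on the layers

General lemmas on modules of class two groups with an operator, used on the layers of a tower.
-/

set_option autoImplicit false

namespace CfsgLib.Solvable.TurullHeight

open Subgroup CfsgLib CfsgLib.Solvable.FPFOperators
open scoped commutatorElement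

universe u v

section ActGroup

variable (Γ : Type*) (V : Type*) [Group Γ] [AddCommGroup V] [DistribMulAction Γ V]

/-- The operators induced on a module. -/
abbrev actGroup : Subgroup (AddMonoid.End V)ˣ :=
  (DistribMulAction.toAddMonoidEnd Γ V).toHomUnits.range

/-- The homomorphism onto the induced operators. -/
abbrev actHom : Γ →* actGroup Γ V :=
  (DistribMulAction.toAddMonoidEnd Γ V).toHomUnits.rangeRestrict

variable {Γ V}

theorem actHom_smul (g : Γ) (v : V) : actHom Γ V g • v = g • v := rfl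

theorem actHom_eq_one_iff (g : Γ) : actHom Γ V g = 1 ↔ ∀ v : V, g • v = v := by
  constructor
  · intro hg v
    have h1 := actHom_smul g v
    rw [hg, one_smul] at h1
    exact h1.symm
  · exact fun hg => Subtype.ext (Units.ext (AddMonoidHom.ext hg))

theorem actGroup_faithful (g : actGroup Γ V) (hg : ∀ v : V, g • v = v) : g = 1 :=
  Subtype.ext (Units.ext (AddMonoidHom.ext hg))

theorem actHom_surjective : Function.Surjective (actHom Γ V) :=
  MonoidHom.rangeRestrict_surjective _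

theorem finite_actGroup [Finite Γ] : Finite (actGroup Γ V) :=
  Finite.of_surjective _ actHom_surjective

/-- Invariance passes to the induced operators. -/
theorem isInv_map {H : Subgroup Γ} {U : AddSubgroup V} :
    IsInv (H.map (actHom Γ V)) U ↔ IsInv H U := by
  constructor
  · exact fun h g hg u hu => h _ (mem_map_of_mem _ hg) u hu
  · rintro h _ ⟨g, hg, rfl⟩ u hu
    exact h g hg u hu

theorem movedSub_map {H : Subgroup Γ} :
    movedSub V (H.map (actHom Γ V)) = movedSub V H := by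
  refine le_antisymm ((AddSubgroup.closure_le _).2 ?_) ((AddSubgroup.closure_le _).2 ?_)
  · rintro _ ⟨_, ⟨g, hg, rfl⟩, w, rfl⟩
    exact sub_mem_movedSub hg w
  · rintro _ ⟨g, hg, w, rfl⟩
    exact sub_mem_movedSub (V := V) (mem_map_of_mem (actHom Γ V) hg) w

theorem fixedSub_map {H : Subgroup Γ} :
    fixedSub V (H.map (actHom Γ V)) = fixedSub V H := by
  ext v
  simp only [mem_fixedSub]
  exact ⟨fun h g hg => h _ (mem_map_of_mem _ hg), by rintro h _ ⟨g, hg, rfl⟩; exact h g hg⟩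

end ActGroup

section Fixer

variable {Γ V : Type*} [Group Γ] [AddCommGroup V] [DistribMulAction Γ V]

/-- The elements fixing `N` pointwise. -/
def fixer (N : AddSubgroup V) : Subgroup Γ where
  carrier := {g | ∀ w ∈ N, g • w = w}
  one_mem' := fun w _ => one_smul Γ w
  mul_mem' := fun {a b} ha hb w hw => by rw [mul_smul, hb w hw, ha w hw]
  inv_mem' := fun {a} ha w hw => by rw [inv_smul_eq_iff, ha w hw]

theorem mem_fixer {N : AddSubgroup V} {g : Γ} : g ∈ fixer N ↔ ∀ w ∈ N, g • w = w := Iff.rfl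

theorem le_normalizer_fixer {N : AddSubgroup V} {H : Subgroup Γ} (hN : IsInv H N) :
    H ≤ normalizer (fixer (Γ := Γ) N : Set Γ) :=
  le_normalizer_iff.2 fun g hg a ha w hw => by
    rw [mul_smul, mul_smul, ha _ (hN _ (inv_mem hg) w hw), smul_inv_smul]

end Fixer

section Groups

variable {Γ : Type*} [Group Γ]

/-- Commutators with a cyclic group only need its generator. -/
theorem commutator_zpowers_le [Finite Γ] {A M : Subgroup Γ} {s : Γ}
    (hs : s ∈ normalizer (M : Set Γ)) (h : ∀ a ∈ A, ⁅a, s⁆ ∈ M) : ⁅A, zpowers s⁆ ≤ M := by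
  refine commutator_le.2 fun a ha g hg => ?_
  obtain ⟨i, rfl⟩ := (mem_powers_iff_mem_zpowers (x := s)).2 hg
  show ⁅a, s ^ i⁆ ∈ M
  clear hg
  induction i with
  | zero => rw [pow_zero, commutatorElement_one_right]; exact one_mem M
  | succ i ih =>
    rw [show ⁅a, s ^ (i + 1)⁆ = ⁅a, s⁆ * (s * ⁅a, s ^ i⁆ * s⁻¹) by
      rw [pow_succ']; simp only [commutatorElement_def]; group]
    exact mul_mem (h a ha) ((mem_normalizer_iff.1 hs _).1 ih)

theorem mem_normalizer_modCen {Q N : Subgroup Γ} [Finite Γ] {g : Γ}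
    (hQ : g ∈ normalizer (Q : Set Γ)) (hN : g ∈ normalizer (N : Set Γ)) :
    g ∈ normalizer (modCen Q N : Set Γ) := by
  refine mem_normalizer_fintype fun x hx => ?_
  obtain ⟨h1, h2, h3⟩ := hx
  refine ⟨mul_mem (mul_mem hQ h1) (inv_mem hQ), mul_mem (mul_mem hN h2) (inv_mem hN), fun y hy => ?_⟩
  rw [show ⁅g * x * g⁻¹, y⁆ = g * ⁅x, g⁻¹ * y * g⁆ * g⁻¹ by
    simp only [commutatorElement_def]; group]
  exact (mem_normalizer_iff.1 hN _).1 (h3 _ ((mem_normalizer_iff''.1 hQ y).1 hy))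

end Groups

section Module

variable {Γ : Type u} [Group Γ] [Finite Γ] {V : Type v} [AddCommGroup V] [Finite V]
  [DistribMulAction Γ V]

/-- An element trivial on all minimal parts and moved freely is trivial. -/
theorem eq_one_of_trivial_on_minimal (hfaith : ∀ g : Γ, (∀ v : V, g • v = v) → g = 1)
    {H Z : Subgroup Γ} (hcop : (Nat.card Z).Coprime (Nat.card V))
    (hH : H ≤ normalizer (Z : Set Γ))
    {z : Γ} (hz : z ∈ Z) (htriv : ∀ N : AddSubgroup V, N ≠ ⊥ → IsInv H N →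
      (∀ W ≤ N, IsInv H W → W = ⊥ ∨ W = N) → ∀ v ∈ N, z • v = v) : z = 1 := by
  classical
  let K : Subgroup Γ :=
    { carrier := {z | z ∈ Z ∧ ∀ N : AddSubgroup V, N ≠ ⊥ → IsInv H N →
        (∀ W ≤ N, IsInv H W → W = ⊥ ∨ W = N) → ∀ v ∈ N, z • v = v}
      one_mem' := ⟨one_mem _, fun _ _ _ _ v _ => one_smul Γ v⟩
      mul_mem' := fun {g k} hg hk => ⟨mul_mem hg.1 hk.1, fun N h1 h2 h3 v hv => by
        rw [mul_smul, hk.2 N h1 h2 h3 v hv, hg.2 N h1 h2 h3 v hv]⟩
      inv_mem' := fun {g} hg => ⟨inv_mem hg.1, fun N h1 h2 h3 v hv => by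
        rw [inv_smul_eq_iff, hg.2 N h1 h2 h3 v hv]⟩ }
  have hKn : H ≤ normalizer (K : Set Γ) := le_normalizer_iff.2 fun g hg w hw =>
    ⟨(mem_normalizer_iff.1 (hH hg) w).1 hw.1, fun N h1 h2 h3 v hv => by
      rw [mul_smul, mul_smul, hw.2 N h1 h2 h3 _ (h2 _ (inv_mem hg) v hv), smul_inv_smul]⟩
  have hKcop : (Nat.card K).Coprime (Nat.card V) :=
    hcop.coprime_dvd_left (card_dvd_of_le fun w hw => hw.1)
  by_contra hne
  have hmem : z ∈ K := ⟨hz, htriv⟩
  have hU : movedSub V K ≠ ⊥ := fun hb' => hne (hfaith _ fun v => sub_eq_zero.1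
    (AddSubgroup.mem_bot.1 (hb' ▸ sub_mem_movedSub hmem v)))
  obtain ⟨N, hNU, hN0, hN, hmin⟩ := exists_minimal_inv (isInv_movedSub hKn) hU
  obtain ⟨v, hv, hv0⟩ := (AddSubgroup.bot_or_exists_ne_zero N).resolve_left hN0
  exact hv0 (fixedSub_inf_movedSub hKcop
    (mem_fixedSub.2 fun w hw => hw.2 N hN0 hN hmin v hv) (hNU hv))

/-- A regular abelian group inverted freely gives `s` fixed vectors. -/
theorem exists_fixed_of_regular [Nontrivial V] {A : Subgroup Γ} [hAn : A.Normal]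
    (hA : (Nat.card A).Coprime (Nat.card V)) {s : Γ} {r : ℕ} (hr : r.Prime) (hs : s ^ r = 1)
    (hfpf : ∀ a ∈ A, s * a = a * s → a = 1) (h0 : fixedSub V A = ⊥) :
    ∃ v : V, s • v = v ∧ v ≠ 0 := by
  classical
  by_contra hno
  push Not at hno
  haveI : Fintype A := Fintype.ofFinite A
  obtain ⟨v₀, hv₀⟩ := exists_ne (0 : V)
  have hconj : ∀ (i : ℕ) (a : A), (a : Γ) * (s ^ i * (a : Γ)⁻¹ * (s ^ i)⁻¹) ∈ A := fun i a =>
    mul_mem a.2 (hAn.conj_mem _ (inv_mem a.2) _)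
  have hbij : ∀ i, ¬ r ∣ i → Function.Bijective fun a : A => (⟨_, hconj i a⟩ : A) := by
    intro i hi
    refine Finite.injective_iff_bijective.1 fun a b hab => ?_
    have h1 : (a : Γ) * (s ^ i * (a : Γ)⁻¹ * (s ^ i)⁻¹) = b * (s ^ i * (b : Γ)⁻¹ * (s ^ i)⁻¹) :=
      congrArg Subtype.val hab
    have h2 : Commute (s ^ i) ((b : Γ)⁻¹ * a) := by
      show s ^ i * ((b : Γ)⁻¹ * a) = (b : Γ)⁻¹ * a * s ^ i
      calc s ^ i * ((b : Γ)⁻¹ * a)
          = (b : Γ)⁻¹ * (b * (s ^ i * (b : Γ)⁻¹ * (s ^ i)⁻¹)) * s ^ i * a := by group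
        _ = (b : Γ)⁻¹ * a * s ^ i := by rw [← h1]; group
    obtain ⟨j, hj⟩ := exists_pow_eq_self hr hs hi
    have h3 := hfpf _ (mul_mem (inv_mem b.2) a.2) (by
      have h4 := (h2.pow_left j).eq
      rwa [hj] at h4)
    exact Subtype.ext (inv_mul_eq_one.1 h3).symm
  refine hv₀ (eq_zero_of_nsmul hA ?_)
  have hcalc : ∑ a : A, ∑ i ∈ Finset.range r, (a : Γ) • s ^ i • (a : Γ)⁻¹ • v₀ =
      Fintype.card A • v₀ := by
    rw [Finset.sum_comm, Finset.sum_eq_single 0]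
    · simp only [pow_zero, one_smul, smul_inv_smul, Finset.sum_const, Finset.card_univ]
    · intro i hi hi0
      have hnd : ¬ r ∣ i := fun hd => hi0 (Nat.eq_zero_of_dvd_of_lt hd (Finset.mem_range.1 hi))
      rw [← sum_smul_eq_zero h0 (s ^ i • v₀)]
      refine Fintype.sum_equiv (Equiv.ofBijective _ (hbij i hnd)) _ _ fun a => ?_
      show _ = ((a : Γ) * (s ^ i * (a : Γ)⁻¹ * (s ^ i)⁻¹)) • s ^ i • v₀
      simp only [← mul_smul]
      congr 1; group
    · intro hi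
      exact absurd (Finset.mem_range.2 hr.pos) hi
  rw [Nat.card_eq_fintype_card, ← hcalc]
  refine Finset.sum_eq_zero fun a _ => ?_
  rw [← Finset.smul_sum, hno _ (smul_orbit_sum hs _), smul_zero]

/-- Repeated commutators in a killed part. -/
theorem sub_mem_of_twice {U : AddSubgroup V} {x : Γ} (hU : ∀ w ∈ U, x • w ∈ U)
    (hcop : (orderOf x).Coprime (Nat.card V)) {c : V}
    (h : x • (x • c - c) - (x • c - c) ∈ U) : x • c - c ∈ U := by
  classical
  obtain ⟨a, ha⟩ : ∃ a, a = x • c - c := ⟨_, rfl⟩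
  rw [← ha] at h ⊢
  have hk : ∀ i : ℕ, x ^ i • c - c - i • a ∈ U := by
    intro i
    induction i with
    | zero => simp [zero_mem]
    | succ i ih =>
      have h1 := hU _ ih
      have hi : x • (i • a) - i • a ∈ U := by
        rw [show x • (i • a) = i • (x • a) from map_nsmul (DistribSMul.toAddMonoidHom V x) i a,
          ← nsmul_sub]
        exact AddSubgroup.nsmul_mem U h i
      have e : x ^ (i + 1) • c - c - (i + 1) • a =
          x • (x ^ i • c - c - i • a) + (x • (i • a) - i • a) := by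
        have hxc : x • c = a + c := by rw [ha, sub_add_cancel]
        rw [pow_succ', mul_smul, smul_sub, smul_sub, succ_nsmul, hxc]; abel
      rw [e]
      exact add_mem h1 hi
  have h2 := hk (orderOf x)
  rw [pow_orderOf_eq_one, one_smul, sub_self, zero_sub, neg_mem_iff] at h2
  obtain ⟨m, hm⟩ : ∃ m : ℕ, m • (orderOf x • a) = a := by
    by_cases hV : Nat.card V = 1
    · haveI := (Nat.card_eq_one_iff_unique.1 hV).1
      exact ⟨0, Subsingleton.elim _ _⟩
    obtain ⟨m, -, hm⟩ := Nat.exists_mul_mod_eq_one_of_coprime hcop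
      (by have := Nat.card_pos (α := V); omega)
    refine ⟨m, ?_⟩
    rw [← mul_nsmul, ← Nat.div_add_mod (orderOf x * m) (Nat.card V), hm, add_nsmul, mul_nsmul,
      card_nsmul_eq_zero', nsmul_zero, zero_add, one_nsmul]
  rw [← hm]
  exact AddSubgroup.nsmul_mem U h2 m

/-- An element acting trivially on the moved part is central. -/
theorem central_of_trivial_on_moved (hfaith : ∀ g : Γ, (∀ v : V, g • v = v) → g = 1)
    {R : Subgroup Γ} [hRn : R.Normal] (hclass : ∀ a ∈ R, ∀ b ∈ R, ⁅a, b⁆ ∈ cenIn R)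
    {s : Γ} {T Yp Y : Subgroup Γ} (hT : ∀ t ∈ T, ∀ a ∈ R, ∀ b ∈ R, t * ⁅a, b⁆ = ⁅a, b⁆ * t)
    (hTYp : T ≤ normalizer (Yp : Set Γ)) (hsYp : s ∈ normalizer (Yp : Set Γ))
    (hYp : Yp ≤ ⁅T, zpowers s⁆ ⊔ (T ⊓ centralizer (R : Set Γ))) (hPhat : ⁅R, Yp⁆ ≤ ⁅⁅R, Yp⁆, Yp⁆)
    (hY : Y ≤ R) (hRY : R ≤ normalizer (Y : Set Γ)) (hsY : s ∈ normalizer (Y : Set Γ))
    (hgenY : ∀ a ∈ ⁅R, Yp⁆, ⁅a, s⁆ ∈ Y) (hcop : (Nat.card Y).Coprime (Nat.card V))
    {d a z : Γ} (ha : a ∈ ⁅R, Yp⁆) (hz : z ∈ cenIn R) (hd : d = a * z)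
    (htriv : ∀ w ∈ movedSub V Y, d • w = w) : d ∈ cenIn R := by
  classical
  set W := fixedSub V Y with hW
  have hWR : IsInv R W := isInv_fixedSub hRY
  have hWs : IsInv (zpowers s) W := isInv_fixedSub (zpowers_le.2 hsY)
  have hleR : ⁅R, Yp⁆ ≤ R := Subgroup.commutator_le_left R Yp
  let Rad : Subgroup Γ :=
    { carrier := {u | u ∈ R ∧ ∀ v ∈ R, ∀ w ∈ W, ⁅u, v⁆ • w = w}
      one_mem' := ⟨one_mem R, fun v _ w _ => by rw [commutatorElement_one_left, one_smul]⟩
      mul_mem' := fun {g k} hg hk => ⟨mul_mem hg.1 hk.1, fun v hv w hw => by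
        rw [show ⁅g * k, v⁆ = g * ⁅k, v⁆ * g⁻¹ * ⁅g, v⁆ by simp only [commutatorElement_def]; group,
          (mem_cenIn.1 (hclass k hk.1 v hv)).2 g hg.1, mul_inv_cancel_right, mul_smul, hg.2 v hv w hw,
          hk.2 v hv w hw]⟩
      inv_mem' := fun {g} hg => ⟨inv_mem hg.1, fun v hv w hw => by
        rw [show ⁅g⁻¹, v⁆ = g⁻¹ * ⁅g, v⁆⁻¹ * g by simp only [commutatorElement_def]; group,
          mul_assoc, ← (mem_cenIn.1 (inv_mem (hclass g hg.1 v hv))).2 g hg.1, inv_mul_cancel_left,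
          inv_smul_eq_iff, hg.2 v hv w hw]⟩ }
  have hmemRad : ∀ u, u ∈ Rad ↔ u ∈ R ∧ ∀ v ∈ R, ∀ w ∈ W, ⁅u, v⁆ • w = w := fun u => Iff.rfl
  have hYRad : Y ≤ Rad := fun y hy => ⟨hY hy, fun v hv w hw => by
    have h1 : v * y⁻¹ * v⁻¹ ∈ Y := (mem_normalizer_iff.1 (hRY hv) _).1 (inv_mem hy)
    rw [show ⁅y, v⁆ = y * (v * y⁻¹ * v⁻¹) by simp [commutatorElement_def, mul_assoc], mul_smul,
      mem_fixedSub.1 hw _ h1, mem_fixedSub.1 hw _ hy]⟩
  have hTRad : T ≤ normalizer (Rad : Set Γ) := le_normalizer_iff.2 fun t ht u hu => by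
    refine ⟨hRn.conj_mem _ hu.1 t, fun v hv w hw => ?_⟩
    have hv' : t⁻¹ * v * t ∈ R := by simpa using hRn.conj_mem' _ hv t
    rw [show ⁅t * u * t⁻¹, v⁆ = t * ⁅u, t⁻¹ * v * t⁆ * t⁻¹ by
      simp only [commutatorElement_def]; group, hT t ht u hu.1 _ hv', mul_inv_cancel_right]
    exact hu.2 _ hv' w hw
  have hsRad : s ∈ normalizer (Rad : Set Γ) := mem_normalizer_fintype fun u hu => by
    refine ⟨hRn.conj_mem _ hu.1 s, fun v hv w hw => ?_⟩
    have hv' : s⁻¹ * v * s ∈ R := by simpa using hRn.conj_mem' _ hv s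
    rw [show ⁅s * u * s⁻¹, v⁆ = s * ⁅u, s⁻¹ * v * s⁆ * s⁻¹ by
      simp only [commutatorElement_def]; group, mul_smul, mul_smul,
      hu.2 _ hv' _ (hWs _ (inv_mem (mem_zpowers s)) w hw), smul_inv_smul]
  have hTR : T ≤ normalizer ((⁅R, Yp⁆ : Subgroup Γ) : Set Γ) := fun t ht => by
    refine mem_normalizer_iff_map_conj_eq.2 ?_
    rw [Subgroup.map_commutator, mem_normalizer_iff_map_conj_eq.1
      (show t ∈ normalizer (R : Set Γ) by rw [normalizer_eq_top]; trivial),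
      mem_normalizer_iff_map_conj_eq.1 (hTYp ht)]
  have hsR : s ∈ normalizer ((⁅R, Yp⁆ : Subgroup Γ) : Set Γ) := by
    refine mem_normalizer_iff_map_conj_eq.2 ?_
    rw [Subgroup.map_commutator, mem_normalizer_iff_map_conj_eq.1
      (show s ∈ normalizer (R : Set Γ) by rw [normalizer_eq_top]; trivial),
      mem_normalizer_iff_map_conj_eq.1 hsYp]
  set M := modCen ⁅R, Yp⁆ Rad with hM
  have hsM : s ∈ M := ⟨hsR, hsRad, fun y hy => by
    rw [← commutatorElement_inv]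
    exact inv_mem (hYRad (hgenY y hy))⟩
  have hTM : T ≤ normalizer (M : Set Γ) := fun t ht => mem_normalizer_modCen (hTR ht) (hTRad ht)
  have hYpM : Yp ≤ M := hYp.trans (sup_le (commutator_le.2 fun t ht g hg => by
    have hgM : g ∈ M := zpowers_le.2 hsM hg
    rw [commutatorElement_def]
    exact mul_mem ((mem_normalizer_iff.1 (hTM ht) _).1 hgM) (inv_mem hgM)) fun t ht =>
    ⟨hTR (mem_inf.1 ht).1, hTRad (mem_inf.1 ht).1, fun y hy => by
      rw [commutatorElement_eq_one_iff_mul_comm.2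
        (mem_centralizer_iff.1 (mem_inf.1 ht).2 y (hleR hy)).symm]
      exact one_mem Rad⟩)
  have hle : ⁅R, Yp⁆ ≤ Rad := hPhat.trans (commutator_le.2 fun b hb y hy => by
    rw [← commutatorElement_inv]
    exact inv_mem ((hYpM hy).2.2 b hb))
  have hdRad : d ∈ Rad := by
    rw [hd]
    refine mul_mem (hle ha) ((hmemRad z).2 ⟨(mem_cenIn.1 hz).1, fun v hv w _ => ?_⟩)
    rw [commutatorElement_eq_one_iff_mul_comm.2 ((mem_cenIn.1 hz).2 v hv).symm, one_smul]
  refine mem_cenIn.2 ⟨hdRad.1, fun v hv => ?_⟩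
  refine (commutatorElement_eq_one_iff_mul_comm.1 (hfaith _ fun w => ?_)).symm
  obtain ⟨w₁, hw₁, w₂, hw₂, rfl⟩ := AddSubgroup.mem_sup.1 (fixedSub_sup_movedSub hcop w)
  have hM2 : ∀ g ∈ R, ∀ w ∈ movedSub V Y, g • w ∈ movedSub V Y := fun g hg =>
    isInv_movedSub hRY g hg
  have hdi : ∀ w ∈ movedSub V Y, d⁻¹ • w = w := fun w hw => by rw [inv_smul_eq_iff, htriv w hw]
  rw [smul_add, hdRad.2 v hv w₁ hw₁, commutatorElement_def, mul_smul, mul_smul, mul_smul,
    hdi _ (hM2 _ (inv_mem hv) w₂ hw₂), smul_inv_smul, htriv w₂ hw₂]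

end Module

/-- The weights of an abelian normal subgroup on a faithful module. -/
theorem exists_weights {Γ : Type u} [Group Γ] [Finite Γ] {W : Type u} [AddCommGroup W] [Finite W]
    [DistribMulAction Γ W] {R : Subgroup Γ} [hRn : R.Normal]
    (hcomm : ∀ a ∈ R, ∀ b ∈ R, a * b = b * a) {q : ℕ} (hq : q.Prime) (hexp : ∀ w : W, q • w = 0)
    (hcop : (Nat.card R).Coprime (Nat.card W))
    (hfaith : ∀ a ∈ R, (∀ w : W, a • w = w) → a = 1) :
    ∃ (T : Type u) (_ : AddCommGroup T) (Ω : Set (R → T)),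
      (∀ ω ∈ Ω, ∀ a b : R, ω (a * b) = ω a + ω b) ∧
      (∀ g : Γ, ∀ ω ∈ Ω, (fun a => ω ((MulAut.conjNormal g : MulAut R) a)) ∈ Ω) ∧
      (∀ a : R, (∀ ω ∈ Ω, ω a = 0) → a = 1) ∧
      ∀ a y : R, (∀ w : W, (a : Γ) • ((y : Γ) • w - w) = (y : Γ) • w - w) →
        ∀ ω ∈ Ω, ω a = 0 ∨ ω y = 0 := by
  classical
  rcases subsingleton_or_nontrivial W with hW | hW
  · refine ⟨W, inferInstance, ∅, by simp, by simp, fun a _ => Subtype.ext ?_, by simp⟩
    exact hfaith a a.2 fun w => Subsingleton.elim _ _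
  haveI := Fact.mk hq
  let K : Type := AlgebraicClosure (ZMod q)
  obtain ⟨d, Φ, hΦ, hcard, -⟩ := exists_extendEnd (V := W) K hexp
  let ρ : Γ →* Module.End K (Fin d → K) :=
    Φ.toMonoidHom.comp (DistribMulAction.toAddMonoidEnd Γ W)
  have hρ : ∀ g, ρ g = Φ (DistribMulAction.toAddMonoidEnd Γ W g) := fun g => rfl
  haveI : Fintype R := Fintype.ofFinite R
  have hRK : (Fintype.card R : K) ≠ 0 := by
    rw [ne_eq, CharP.cast_eq_zero_iff K q, ← Nat.card_eq_fintype_card]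
    intro hd
    refine hq.ne_one (Nat.eq_one_of_dvd_coprimes hcop hd ?_)
    rw [hcard]
    refine dvd_pow_self q fun h0 => ?_
    have h1 : 1 < Nat.card W := Finite.one_lt_card
    rw [hcard, h0, pow_zero] at h1
    omega
  have hRc : IsMulCommutative R :=
    isMulCommutative_iff.2 fun a b => Subtype.ext (hcomm a a.2 b b.2)
  refine ⟨ULift.{u} (Additive Kˣ), inferInstance,
    {ω | ∃ χ : R →* Kˣ, weightIdem R ρ χ ≠ 0 ∧ ω = fun a => ⟨Additive.ofMul (χ a)⟩}, ?_, ?_, ?_, ?_⟩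
  · rintro _ ⟨χ, -, rfl⟩ a b
    show (⟨Additive.ofMul (χ (a * b))⟩ : ULift (Additive Kˣ)) = _
    rw [map_mul]; rfl
  · rintro g _ ⟨χ, hχ, rfl⟩
    refine ⟨g⁻¹ • χ, fun h => hχ ((weightIdem_smul_eq_zero_iff ρ g⁻¹ χ).1 h), funext fun a => ?_⟩
    show _ = (⟨Additive.ofMul (χ ((MulAut.conjNormal g⁻¹⁻¹ : MulAut R) a))⟩ : ULift (Additive Kˣ))
    rw [inv_inv]
  · intro a ha
    refine Subtype.ext (hfaith a a.2 fun w => ?_)
    have h1 : ρ (a : Γ) = 1 := by
      refine eq_of_forall_mul_weightIdem ρ hRc hRK fun χ hχ => ?_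
      have h2 : χ a = 1 := ofMul_eq_zero.1 (congrArg ULift.down (ha _ ⟨χ, hχ, rfl⟩))
      rw [map_mem_mul_weightIdem, h2, Units.val_one, one_smul, one_mul]
    rw [hρ, ← map_one Φ] at h1
    exact DFunLike.congr_fun (hΦ h1) w
  · rintro a y hay _ ⟨χ, hχ, rfl⟩
    have h1 : (ρ (a : Γ) - 1) * (ρ (y : Γ) - 1) = 0 := by
      rw [hρ, hρ, ← map_one Φ, ← map_sub, ← map_sub, ← map_mul, ← map_zero Φ]
      congr 1
      refine AddMonoidHom.ext fun w => ?_
      show (a : Γ) • ((y : Γ) • w - w) - ((y : Γ) • w - w) = 0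
      rw [hay, sub_self]
    have h2 := congrArg (· * weightIdem R ρ χ) h1
    simp only [zero_mul] at h2
    have hsub : ∀ (c : K) (e : Module.End K (Fin d → K)), c • e - e = (c - 1) • e := fun c e =>
      ((sub_smul c 1 e).trans (congrArg _ (one_smul K e))).symm
    rw [mul_assoc, sub_mul (ρ (y : Γ)) 1, one_mul, map_mem_mul_weightIdem, hsub,
      mul_smul_comm, sub_mul, one_mul, map_mem_mul_weightIdem, hsub, smul_smul] at h2
    rcases mul_eq_zero.1 ((smul_eq_zero.1 h2).resolve_right hχ) with h3 | h3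
    · exact Or.inr (congrArg (fun x : Kˣ => (⟨Additive.ofMul x⟩ : ULift (Additive Kˣ)))
        (Units.ext (sub_eq_zero.1 h3) : χ y = 1))
    · exact Or.inl (congrArg (fun x : Kˣ => (⟨Additive.ofMul x⟩ : ULift (Additive Kˣ)))
        (Units.ext (sub_eq_zero.1 h3) : χ a = 1))

end CfsgLib.Solvable.TurullHeight
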