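import Cfsg.Agent.Lib.Coprime.Action
import Mathlib.Tactic.Abel
import Mathlib.Tactic.Group
import Mathlib.Data.Fintype.Sets
import Mathlib.GroupTheory.OrderOfElement
import Mathlib.GroupTheory.Index
import Mathlib.GroupTheory.Commutator.Basic
import Mathlib.Algebra.Module.BigOperators
import Mathlib.Algebra.BigOperators.GroupWithZero.Action

/-!
# Coprime operators on finite abelian groups

Elementary averaging lemmas for a finite group acting on a finite abelian group of coprime order.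
-/

set_option autoImplicit false

namespace CfsgLib.Solvable.TurullHeight

variable {Γ V : Type*} [Group Γ] [AddCommGroup V] [DistribMulAction Γ V]

theorem eq_zero_of_nsmul [Finite V] {n : ℕ} (hn : n.Coprime (Nat.card V)) {v : V}
    (h : n • v = 0) : v = 0 :=
  (Nat.Coprime.nsmul_right_bijective hn.symm).1 (h.trans (nsmul_zero n).symm)

variable (V) in
/-- The fixed points of an element. -/
def fixedBySub (s : Γ) : AddSubgroup V where
  carrier := {v | s • v = v}
  zero_mem' := smul_zero s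
  add_mem' := fun {a b} ha hb => by
    show s • (a + b) = a + b
    rw [smul_add, show s • a = a from ha, show s • b = b from hb]
  neg_mem' := fun {a} ha => by
    show s • (-a) = -a
    rw [smul_neg, show s • a = a from ha]

@[simp] theorem mem_fixedBySub {s : Γ} {v : V} : v ∈ fixedBySub V s ↔ s • v = v := Iff.rfl

variable (V) in
/-- The common fixed points of a subgroup. -/
def fixedSub (Q : Subgroup Γ) : AddSubgroup V := ⨅ a : Q, fixedBySub V (a : Γ)

theorem mem_fixedSub {Q : Subgroup Γ} {v : V} : v ∈ fixedSub V Q ↔ ∀ a ∈ Q, a • v = v := by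
  simp [fixedSub, AddSubgroup.mem_iInf]

theorem mem_fixedSub_zpowers {s : Γ} {v : V} :
    v ∈ fixedSub V (Subgroup.zpowers s) ↔ s • v = v := by
  rw [mem_fixedSub]
  refine ⟨fun h => h s (Subgroup.mem_zpowers s), fun h a ha => ?_⟩
  have : Subgroup.zpowers s ≤ MulAction.stabilizer Γ v := Subgroup.zpowers_le.2 h
  exact this ha

variable (V) in
/-- `[V, Q]`, spanned by the `q • v - v`. -/
def movedSub (Q : Subgroup Γ) : AddSubgroup V :=
  AddSubgroup.closure {w | ∃ a ∈ Q, ∃ v : V, a • v - v = w}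

theorem sub_mem_movedSub {Q : Subgroup Γ} {a : Γ} (ha : a ∈ Q) (v : V) :
    a • v - v ∈ movedSub V Q :=
  AddSubgroup.subset_closure ⟨a, ha, v, rfl⟩

theorem fixedSub_antitone {Q R : Subgroup Γ} (h : Q ≤ R) : fixedSub V R ≤ fixedSub V Q :=
  fun v hv => mem_fixedSub.2 fun a ha => mem_fixedSub.1 hv a (h ha)

/-- The subgroup is stable under a set of operators. -/
def IsInv (H : Subgroup Γ) (U : AddSubgroup V) : Prop := ∀ g ∈ H, ∀ u ∈ U, g • u ∈ U

theorem isInv_fixedSub {H Q : Subgroup Γ} (hQ : H ≤ Subgroup.normalizer (Q : Set Γ)) :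
    IsInv H (fixedSub V Q) := by
  intro g hg u hu
  refine mem_fixedSub.2 fun a ha => ?_
  have h1 : g⁻¹ * a * g ∈ Q := (Subgroup.mem_normalizer_iff''.1 (hQ hg) a).1 ha
  have h2 : (g⁻¹ * a * g) • u = u := mem_fixedSub.1 hu _ h1
  calc a • g • u = g • (g⁻¹ * a * g) • u := by simp only [← mul_smul]; group
    _ = g • u := by rw [h2]

theorem isInv_movedSub {H Q : Subgroup Γ} (hQ : H ≤ Subgroup.normalizer (Q : Set Γ)) :
    IsInv H (movedSub V Q) := by
  intro g hg u hu
  have hle : movedSub V Q ≤ (movedSub V Q).comap (DistribSMul.toAddMonoidHom V g) := by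
    refine (AddSubgroup.closure_le _).2 ?_
    rintro _ ⟨a, ha, v, rfl⟩
    show g • (a • v - v) ∈ movedSub V Q
    have h1 : g * a * g⁻¹ ∈ Q := (Subgroup.mem_normalizer_iff.1 (hQ hg) a).1 ha
    have e : g • (a • v - v) = (g * a * g⁻¹) • (g • v) - g • v := by
      rw [smul_sub, ← mul_smul, ← mul_smul]; group
    rw [e]
    exact sub_mem_movedSub h1 _
  exact hle hu

theorem IsInv.iInf {ι : Sort*} {H : Subgroup Γ} {U : ι → AddSubgroup V} (h : ∀ i, IsInv H (U i)) :
    IsInv H (⨅ i, U i) := fun g hg u hu =>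
  AddSubgroup.mem_iInf.2 fun i => h i g hg u (AddSubgroup.mem_iInf.1 hu i)

theorem IsInv.mono {H H' : Subgroup Γ} {U : AddSubgroup V} (h : IsInv H U) (hH : H' ≤ H) :
    IsInv H' U := fun g hg => h g (hH hg)

/-- Invariance only has to be checked on two subgroups generating `H`. -/
theorem IsInv.sup [Finite Γ] {H H' : Subgroup Γ} {U : AddSubgroup V} (h : IsInv H U)
    (h' : IsInv H' U) : IsInv (H ⊔ H') U := by
  intro g hg
  rw [Subgroup.sup_eq_closure] at hg
  have hg' : g ∈ Submonoid.closure ((H : Set Γ) ∪ H') := by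
    rw [← Subgroup.closure_toSubmonoid_of_finite]
    exact hg
  refine Submonoid.closure_induction (motive := fun g _ => ∀ u ∈ U, g • u ∈ U) ?_ ?_ ?_ hg'
  · rintro x (hx | hx)
    exacts [h x hx, h' x hx]
  · intro u hu; rwa [one_smul]
  · intro a b _ _ ha hb u hu
    rw [mul_smul]
    exact ha _ (hb _ hu)

section Average

variable [Finite Γ] [Finite V]

/-- Fixed and moved parts of a coprime action meet trivially. -/
theorem fixedSub_inf_movedSub {Q : Subgroup Γ} (hQ : (Nat.card Q).Coprime (Nat.card V)) {v : V}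
    (h1 : v ∈ fixedSub V Q) (h2 : v ∈ movedSub V Q) : v = 0 := by
  classical
  haveI : Fintype Q := Fintype.ofFinite Q
  let N : V →+ V := ∑ a : Q, DistribSMul.toAddMonoidHom V (a : Γ)
  have hN : ∀ w, N w = ∑ a : Q, (a : Γ) • w := fun w => by simp [N]
  have hk : movedSub V Q ≤ N.ker := by
    refine (AddSubgroup.closure_le _).2 ?_
    rintro _ ⟨b, hb, w, rfl⟩
    show N (b • w - w) = 0
    rw [map_sub, hN, hN, sub_eq_zero]
    refine Fintype.sum_equiv (Equiv.mulRight ⟨b, hb⟩) _ _ fun a => ?_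
    rw [← mul_smul]; rfl
  refine eq_zero_of_nsmul hQ ?_
  have h3 : N v = 0 := hk h2
  rw [hN, Finset.sum_congr rfl fun (a : Q) _ => mem_fixedSub.1 h1 (a : Γ) a.2, Finset.sum_const,
    Finset.card_univ, ← Nat.card_eq_fintype_card] at h3
  exact h3

/-- The fixed and moved parts span. -/
theorem fixedSub_sup_movedSub {Q : Subgroup Γ} (hQ : (Nat.card Q).Coprime (Nat.card V)) (v : V) :
    v ∈ fixedSub V Q ⊔ movedSub V Q := by
  classical
  haveI : Fintype Q := Fintype.ofFinite Q
  obtain ⟨w, rfl⟩ := (Nat.Coprime.nsmul_right_bijective (G := V) hQ.symm).2 v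
  show Nat.card Q • w ∈ _
  have e : Nat.card Q • w = (∑ a : Q, (a : Γ) • w) - ∑ a : Q, ((a : Γ) • w - w) := by
    rw [Finset.sum_sub_distrib, Finset.sum_const, Finset.card_univ, ← Nat.card_eq_fintype_card]
    abel
  rw [e]
  refine sub_mem (AddSubgroup.mem_sup_left (mem_fixedSub.2 fun b hb => ?_))
    (AddSubgroup.mem_sup_right (sum_mem fun a _ => sub_mem_movedSub a.2 w))
  rw [Finset.smul_sum]
  refine Fintype.sum_equiv (Equiv.mulLeft ⟨b, hb⟩) _ _ fun a => ?_
  rw [← mul_smul]; rfl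

/-- Two homomorphisms agree if they agree on the fixed and on the moved part. -/
theorem hom_eq_of_fixed_of_moved {T : Type*} [AddCommGroup T] {Q : Subgroup Γ}
    (hQ : (Nat.card Q).Coprime (Nat.card V)) {f : V →+ T}
    (h1 : ∀ v ∈ fixedSub V Q, f v = 0) (h2 : ∀ a ∈ Q, ∀ v, f (a • v - v) = 0) (v : V) : f v = 0 := by
  have h3 : movedSub V Q ≤ f.ker := (AddSubgroup.closure_le _).2 fun w ⟨a, ha, u, hu⟩ => by
    rw [← hu]; exact h2 a ha u
  exact (sup_le (show fixedSub V Q ≤ f.ker from h1) h3) (fixedSub_sup_movedSub hQ v)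

/-- A homomorphism unchanged by `Q` vanishes if `Q` has no fixed point. -/
theorem hom_eq_zero_of_invariant {T : Type*} [AddCommGroup T] {Q : Subgroup Γ}
    (hQ : (Nat.card Q).Coprime (Nat.card V)) (h0 : fixedSub V Q = ⊥) {f : V →+ T}
    (h : ∀ a ∈ Q, ∀ v, f (a • v) = f v) (v : V) : f v = 0 :=
  hom_eq_of_fixed_of_moved hQ (fun w hw => by
    rw [h0, AddSubgroup.mem_bot] at hw; rw [hw, map_zero])
    (fun a ha w => by rw [map_sub, h a ha, sub_self]) v

/-- If no fixed point, the sum over `Q` kills everything. -/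
theorem sum_smul_eq_zero {Q : Subgroup Γ} [Fintype Q] (h0 : fixedSub V Q = ⊥) (v : V) :
    ∑ a : Q, (a : Γ) • v = 0 := by
  rw [← AddSubgroup.mem_bot, ← h0]
  refine mem_fixedSub.2 fun b hb => ?_
  rw [Finset.smul_sum]
  refine Fintype.sum_equiv (Equiv.mulLeft ⟨b, hb⟩) _ _ fun a => ?_
  rw [← mul_smul]; rfl

/-- The orbit sum is fixed. -/
theorem smul_orbit_sum {s : Γ} {r : ℕ} (hs : s ^ r = 1) (v : V) :
    s • ∑ i ∈ Finset.range r, s ^ i • v = ∑ i ∈ Finset.range r, s ^ i • v := by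
  rw [Finset.smul_sum]
  have h1 := Finset.sum_range_succ (fun i => s ^ i • v) r
  rw [Finset.sum_range_succ' (fun i => s ^ i • v) r, hs, pow_zero, one_smul,
    add_right_cancel_iff] at h1
  refine Eq.trans (Finset.sum_congr rfl fun i _ => ?_) h1
  rw [pow_succ', mul_smul]

/-- A minimal nonzero stable subgroup inside a nonzero stable one. -/
theorem exists_minimal_inv {H : Subgroup Γ} {U : AddSubgroup V} (hU : IsInv H U) (h0 : U ≠ ⊥) :
    ∃ N ≤ U, N ≠ ⊥ ∧ IsInv H N ∧ ∀ W ≤ N, IsInv H W → W = ⊥ ∨ W = N := by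
  obtain ⟨N, hNU, hN⟩ := Finite.exists_le_minimal
    (p := fun W : AddSubgroup V => W ≠ ⊥ ∧ IsInv H W) ⟨h0, hU⟩
  exact ⟨N, hNU, hN.prop.1, hN.prop.2, fun W hWN hW => or_iff_not_imp_left.2 fun hW0 =>
    le_antisymm hWN (hN.le_of_le ⟨hW0, hW⟩ hWN)⟩

end Average

end CfsgLib.Solvable.TurullHeight
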