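import Cfsg.Agent.Lib.Solvable.FPFOperators.Twisted
import Mathlib.Dynamics.PeriodicPts.Defs

/-!
# The algebra spanned by a twisted elementary group

`θ` maps `R` to scalars and `Q / R` to a basis of a full matrix algebra.
-/

set_option autoImplicit false

namespace CfsgLib.Solvable.TurullHeight

open Subgroup CfsgLib
open scoped commutatorElement

variable {K : Type*} [Field K] {Γ W : Type*} [Group Γ] [AddCommGroup W] [Module K W]

/-- The subalgebra spanned by the image of `Q`. -/
def twistAlg (θ : Γ →* Module.End K W) (Q : Subgroup Γ) : Subalgebra K (Module.End K W) :=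
  Algebra.adjoin K (θ '' (Q : Set Γ))

theorem map_mem_twistAlg (θ : Γ →* Module.End K W) {Q : Subgroup Γ} {y : Γ} (hy : y ∈ Q) :
    θ y ∈ twistAlg θ Q :=
  Algebra.subset_adjoin ⟨y, hy, rfl⟩

/-- Data of a twisted elementary group. -/
structure TwistData (θ : Γ →* Module.End K W) (Q R : Subgroup Γ) : Prop where
  le : R ≤ Q
  scalar : ∀ x ∈ R, ∃ c : K, θ x = c • 1
  central : ∀ x ∈ Q, (∀ y ∈ Q, θ (x * y) = θ (y * x)) → x ∈ R
  comm : ∀ x ∈ Q, ∀ y ∈ Q, ∃ c : K, θ ⁅x, y⁆ = c • 1

variable [Nontrivial W]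

theorem map_ne_zero' (θ : Γ →* Module.End K W) (g : Γ) : θ g ≠ 0 := fun h => by
  have h1 : θ g * θ g⁻¹ = 1 := by rw [← map_mul, mul_inv_cancel, map_one]
  rw [h, zero_mul] at h1
  exact zero_ne_one h1

/-- A section gives a spanning family. -/
theorem mem_span_section {θ : Γ →* Module.End K W} {Q R : Subgroup Γ} [R.Normal]
    (h : TwistData θ Q R) (a : Q ⧸ R.subgroupOf Q → Q)
    (ha : ∀ m, QuotientGroup.mk (a m) = m) {b : Module.End K W} (hb : b ∈ twistAlg θ Q) :
    b ∈ Submodule.span K (Set.range fun m => θ (a m)) := by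
  have hy : ∀ y ∈ Q, θ y ∈ Submodule.span K (Set.range fun m => θ (a m : Γ)) := by
    intro y hy
    set m : Q ⧸ R.subgroupOf Q := QuotientGroup.mk (⟨y, hy⟩ : Q) with hm
    have h1 : ((a m : Q) : Γ)⁻¹ * y ∈ R :=
      mem_subgroupOf.1 (QuotientGroup.eq.mp (show QuotientGroup.mk (a m) =
        QuotientGroup.mk (⟨y, hy⟩ : Q) by rw [ha]))
    obtain ⟨c, hc⟩ := h.scalar _ h1
    have : θ y = c • θ (a m : Γ) := by
      calc θ y = θ (a m : Γ) * θ (((a m : Q) : Γ)⁻¹ * y) := by rw [← map_mul, mul_inv_cancel_left]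
        _ = c • θ (a m : Γ) := by rw [hc, mul_smul_comm, mul_one]
    rw [this]
    exact Submodule.smul_mem _ _ (Submodule.subset_span ⟨m, rfl⟩)
  have hb' : b ∈ Submodule.span K (θ '' (Q : Set Γ)) := by
    have h1 : (Algebra.adjoin K (θ '' (Q : Set Γ))).toSubmodule =
        Submodule.span K (θ '' (Q : Set Γ)) := by
      have e : θ '' (Q : Set Γ) = (Q.toSubmonoid.map θ : Submonoid (Module.End K W)) := rfl
      rw [Algebra.adjoin_eq_span, e, Submonoid.closure_eq]
    rw [← h1]; exact hb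
  refine (Submodule.span_le.2 ?_) hb'
  rintro _ ⟨y, hyQ, rfl⟩
  exact hy y hyQ

variable [Finite Γ]

/-- A section gives an independent family, and the algebra is a full matrix algebra. -/
theorem twist_structure {θ : Γ →* Module.End K W} {Q R : Subgroup Γ} [Q.Normal] [R.Normal]
    [IsAlgClosed K] (h : TwistData θ Q R) :
    (∀ a : Q ⧸ R.subgroupOf Q → Q, (∀ m, QuotientGroup.mk (a m) = m) →
      LinearIndependent K fun m => θ (a m : Γ)) ∧
    ∃ d : ℕ, R.relIndex Q = d * d ∧
      Nonempty (twistAlg θ Q ≃ₐ[K] Module.End K (Fin d → K)) := by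
  classical
  haveI hR'n : (R.subgroupOf Q).Normal := (inferInstance : R.Normal).subgroupOf Q
  haveI : Fintype (Q ⧸ R.subgroupOf Q) := Fintype.ofFinite _
  have hunit : ∀ g, θ g * θ g⁻¹ = 1 := fun g => by rw [← map_mul, mul_inv_cancel, map_one]
  have hunit' : ∀ g, θ g⁻¹ * θ g = 1 := fun g => by rw [← map_mul, inv_mul_cancel, map_one]
  have hθne := map_ne_zero' θ
  -- any section
  have main : ∀ a : Q ⧸ R.subgroupOf Q → Q, (∀ m, QuotientGroup.mk (a m) = m) →
      (LinearIndependent K fun m => θ (a m : Γ)) ∧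
      ∀ J : Submodule K (Module.End K W), (∀ y ∈ Q, ∀ x ∈ J, θ y * x * θ y⁻¹ ∈ J) →
        ∀ b ∈ twistAlg θ Q, b ∈ J → b ≠ 0 → ∃ y ∈ Q, θ y ∈ J := by
    intro a ha
    let u : Q ⧸ R.subgroupOf Q → Module.End K W := fun m => θ (a m : Γ)
    have hconj : ∀ y ∈ Q, ∀ m, ∃ c : K, θ y * u m * θ y⁻¹ = c • u m := by
      intro y hy m
      obtain ⟨c, hc⟩ := h.comm y hy (a m) (a m).2
      refine ⟨c, ?_⟩
      calc θ y * u m * θ y⁻¹ = θ (⁅y, (a m : Γ)⁆ * a m) := by
            rw [← map_mul, ← map_mul, commutatorElement_def, inv_mul_cancel_right]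
        _ = c • u m := by rw [map_mul, hc, smul_mul_assoc, one_mul]
    choose χ hχ using hconj
    have hsep : ∀ m m', (∀ y (hy : y ∈ Q), χ y hy m = χ y hy m') → m = m' := by
      intro m m' he
      have hw : ((a m : Q) : Γ)⁻¹ * a m' ∈ R := by
        refine h.central _ (Q.mul_mem (Q.inv_mem (a m).2) (a m').2) fun y hy => ?_
        have e1 : θ y * θ (a m : Γ) * θ y⁻¹ = χ y hy m • θ (a m : Γ) := hχ y hy m
        have e2 : θ y * θ (a m' : Γ) * θ y⁻¹ = χ y hy m • θ (a m' : Γ) := by
          rw [he y hy]; exact hχ y hy m'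
        have e3 : θ y * θ (((a m : Q) : Γ)⁻¹ * a m') * θ y⁻¹ = θ (((a m : Q) : Γ)⁻¹ * a m') := by
          have h4 : θ y * θ (a m : Γ) * θ y⁻¹ * (θ y * θ (((a m : Q) : Γ)⁻¹ * a m') * θ y⁻¹) =
              θ y * θ (a m' : Γ) * θ y⁻¹ := by
            simp only [← map_mul]; congr 1; group
          rw [e1, e2, smul_mul_assoc] at h4
          have hc0 : χ y hy m ≠ 0 := fun h0 => by
            rw [h0, zero_smul] at e1
            refine hθne (y * a m * y⁻¹) ?_
            rw [map_mul, map_mul]; exact e1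
          have h5 := smul_right_injective (Module.End K W) hc0 h4
          calc θ y * θ (((a m : Q) : Γ)⁻¹ * a m') * θ y⁻¹
              = θ ((a m : Q) : Γ)⁻¹ * (θ (a m : Γ) *
                  (θ y * θ (((a m : Q) : Γ)⁻¹ * a m') * θ y⁻¹)) := by
                rw [← mul_assoc (θ ((a m : Q) : Γ)⁻¹), hunit', one_mul]
            _ = θ (((a m : Q) : Γ)⁻¹ * a m') := by rw [h5, ← map_mul]
        calc θ (((a m : Q) : Γ)⁻¹ * a m' * y) = θ (((a m : Q) : Γ)⁻¹ * a m') * θ y := map_mul _ _ _
          _ = θ y * θ (((a m : Q) : Γ)⁻¹ * a m') * θ y⁻¹ * θ y := by rw [e3]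
          _ = θ y * θ (((a m : Q) : Γ)⁻¹ * a m') := by rw [mul_assoc, hunit', mul_one]
          _ = θ (y * (((a m : Q) : Γ)⁻¹ * a m')) := (map_mul _ _ _).symm
      have h2 : QuotientGroup.mk (a m) = (QuotientGroup.mk (a m') : Q ⧸ R.subgroupOf Q) :=
        QuotientGroup.eq.mpr (mem_subgroupOf.2 hw)
      rwa [ha, ha] at h2
    have key : ∀ J : Submodule K (Module.End K W),
        (∀ y ∈ Q, ∀ x ∈ J, θ y * x * θ y⁻¹ ∈ J) →
        ∀ (n : ℕ) (s₀ : Finset (Q ⧸ R.subgroupOf Q)), s₀.card = n →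
        ∀ c : Q ⧸ R.subgroupOf Q → K, ∑ m ∈ s₀, c m • u m ∈ J → ∀ m₀ ∈ s₀, c m₀ ≠ 0 →
        ∃ m', u m' ∈ J := by
      intro J hJ n
      induction n using Nat.strong_induction_on with
      | _ n ihn =>
        intro s₀ hn c hx m₀ hm₀ hc₀
        by_cases hone : ∀ m ∈ s₀, m ≠ m₀ → c m = 0
        · rw [Finset.sum_eq_single_of_mem m₀ hm₀ fun m hm hne => by
            rw [hone m hm hne, zero_smul]] at hx
          refine ⟨m₀, ?_⟩
          have := J.smul_mem (c m₀)⁻¹ hx
          rwa [smul_smul, inv_mul_cancel₀ hc₀, one_smul] at this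
        push Not at hone
        obtain ⟨m₁, hm₁, hne, hc₁⟩ := hone
        obtain ⟨y, hy, hy'⟩ : ∃ (y : Γ) (hy : y ∈ Q), χ y hy m₁ ≠ χ y hy m₀ := by
          by_contra hno
          push Not at hno
          exact hne (hsep m₁ m₀ hno)
        have hx' : ∑ m ∈ s₀.erase m₀, (c m * (χ y hy m - χ y hy m₀)) • u m ∈ J := by
          have h1 := J.sub_mem (hJ y hy _ hx) (J.smul_mem (χ y hy m₀) hx)
          have e : θ y * (∑ m ∈ s₀, c m • u m) * θ y⁻¹ - χ y hy m₀ • ∑ m ∈ s₀, c m • u m =
              ∑ m ∈ s₀, (c m * (χ y hy m - χ y hy m₀)) • u m := by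
            rw [Finset.mul_sum, Finset.sum_mul, Finset.smul_sum, ← Finset.sum_sub_distrib]
            refine Finset.sum_congr rfl fun m _ => ?_
            rw [mul_smul_comm, smul_mul_assoc, hχ y hy, smul_smul, smul_smul, ← sub_smul]
            congr 1; ring
          rw [e, ← Finset.add_sum_erase _ _ hm₀, sub_self, mul_zero, zero_smul, zero_add] at h1
          exact h1
        exact ihn _ (hn ▸ Finset.card_erase_lt_of_mem hm₀) _ rfl _ hx' m₁
          (Finset.mem_erase.mpr ⟨hne, hm₁⟩) (mul_ne_zero hc₁ (sub_ne_zero.mpr hy'))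
    have hli : LinearIndependent K u := by
      rw [Fintype.linearIndependent_iff]
      intro c hc m
      by_contra hm
      obtain ⟨m', hm'⟩ := key ⊥
        (fun y _ x hx => by rw [(Submodule.mem_bot K).mp hx]; simp) _ _ rfl c
        (by rw [hc]; exact Submodule.zero_mem _) m (Finset.mem_univ m) hm
      exact hθne _ ((Submodule.mem_bot K).mp hm')
    refine ⟨hli, fun J hJ b hb hbJ hb0 => ?_⟩
    obtain ⟨c, rfl⟩ := (Submodule.mem_span_range_iff_exists_fun K).1 (mem_span_section h a ha hb)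
    obtain ⟨m, hm⟩ : ∃ m, c m ≠ 0 := by
      by_contra hno
      push Not at hno
      exact hb0 (Finset.sum_eq_zero fun m _ => by rw [hno m, zero_smul])
    obtain ⟨m', hm'⟩ := key J hJ _ _ rfl c hbJ m (Finset.mem_univ m) hm
    exact ⟨a m', (a m').2, hm'⟩
  refine ⟨fun a ha => (main a ha).1, ?_⟩
  let a₀ : Q ⧸ R.subgroupOf Q → Q := fun m => m.out
  have ha₀ : ∀ m, QuotientGroup.mk (a₀ m) = m := fun m => QuotientGroup.out_eq' m
  obtain ⟨hli, hinB⟩ := main a₀ ha₀
  set B := twistAlg θ Q with hB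
  haveI : Nontrivial B := ⟨⟨0, 1, fun h => zero_ne_one (congrArg Subtype.val h)⟩⟩
  have hspan : B.toSubmodule = Submodule.span K (Set.range fun m => θ (a₀ m : Γ)) :=
    le_antisymm (fun b hb => mem_span_section h a₀ ha₀ hb)
      (Submodule.span_le.2 (by rintro _ ⟨m, rfl⟩; exact map_mem_twistAlg θ (a₀ m).2))
  haveI : FiniteDimensional K ↥(Submodule.span K (Set.range fun m => θ (a₀ m : Γ))) :=
    FiniteDimensional.span_of_finite K (Set.finite_range _)
  haveI : FiniteDimensional K B :=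
    Module.Finite.equiv (LinearEquiv.ofEq _ _ hspan).symm
  haveI : IsSimpleRing B := by
    refine IsSimpleRing.of_eq_bot_or_eq_top fun I => or_iff_not_imp_left.mpr fun hI => ?_
    let J : Submodule K (Module.End K W) :=
      { carrier := {x | ∃ b ∈ I, (b : Module.End K W) = x}
        zero_mem' := ⟨0, I.zero_mem, rfl⟩
        add_mem' := by
          rintro _ _ ⟨b, hb, rfl⟩ ⟨b', hb', rfl⟩; exact ⟨b + b', I.add_mem hb hb', rfl⟩
        smul_mem' := by
          rintro c _ ⟨b, hb, rfl⟩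
          refine ⟨c • b, ?_, rfl⟩
          rw [Algebra.smul_def]; exact I.mul_mem_left _ _ hb }
    obtain ⟨b, hb, hb0⟩ : ∃ b ∈ I, b ≠ 0 := by
      by_contra hno
      push Not at hno
      exact hI (eq_bot_iff.mpr fun x hx => (TwoSidedIdeal.mem_bot _).mpr (hno x hx))
    obtain ⟨y, hy, b', hb', hbm⟩ := hinB J (fun y hy x hx => by
      obtain ⟨c, hc, rfl⟩ := hx
      exact ⟨⟨θ y, map_mem_twistAlg θ hy⟩ * c * ⟨θ y⁻¹, map_mem_twistAlg θ (Q.inv_mem hy)⟩,
        I.mul_mem_right _ _ (I.mul_mem_left _ _ hc), rfl⟩) b b.2 ⟨b, hb, rfl⟩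
      (fun h => hb0 (Subtype.ext h))
    rw [← TwoSidedIdeal.one_mem_iff]
    have : (⟨θ y⁻¹, map_mem_twistAlg θ (Q.inv_mem hy)⟩ : B) * b' = 1 := Subtype.ext (by
      show θ y⁻¹ * (b' : Module.End K W) = 1
      rw [hbm]; exact hunit' _)
    rw [← this]
    exact I.mul_mem_left _ _ hb'
  have hBdim : Module.finrank K B = Fintype.card (Q ⧸ R.subgroupOf Q) :=
    (LinearEquiv.ofEq _ _ hspan).finrank_eq.trans (finrank_span_eq_card hli)
  obtain ⟨d, hd0, ⟨e₀⟩⟩ := IsSimpleRing.exists_algEquiv_matrix_of_isAlgClosed K B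
  let e : B ≃ₐ[K] Module.End K (Fin d → K) := e₀.trans (Matrix.toLinAlgEquiv' (R := K))
  refine ⟨d, ?_, ⟨e⟩⟩
  have hdd : Fintype.card (Q ⧸ R.subgroupOf Q) = d * d := by
    rw [← hBdim, e.toLinearEquiv.finrank_eq, Module.finrank_linearMap,
      Module.finrank_fintype_fun_eq_card, Fintype.card_fin]
  rw [← hdd, ← Nat.card_eq_fintype_card]; rfl

omit [Nontrivial W] [Finite Γ] in
/-- An operator commuting with a full matrix algebra kills it or none of it. -/
theorem eq_zero_of_mul_eq_zero {B : Subalgebra K (Module.End K W)} {d : ℕ}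
    (e : B ≃ₐ[K] Module.End K (Fin d → K)) {t : Module.End K W} (ht : ∀ b : B, Commute t b)
    {z : B} (hz : z ≠ 0) (h : t * z = 0) : t = 0 := by
  obtain ⟨v, hv⟩ : ∃ v, e z v ≠ 0 := by
    by_contra hno
    push Not at hno
    exact hz (e.map_eq_zero_iff.1 (LinearMap.ext hno))
  obtain ⟨i₀, hi₀⟩ := Function.ne_iff.1 hv
  obtain ⟨φ, hφ⟩ : ∃ φ : (Fin d → K) →ₗ[K] K, φ (e z v) ≠ 0 := ⟨LinearMap.proj i₀, hi₀⟩
  set φ' : (Fin d → K) →ₗ[K] K := (φ (e z v))⁻¹ • φ with hφ'
  have hφ1 : φ' (e z v) = 1 := by rw [hφ', LinearMap.smul_apply, smul_eq_mul, inv_mul_cancel₀ hφ]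
  let b := Pi.basisFun K (Fin d)
  let L : Fin d → Module.End K (Fin d → K) := fun i => φ'.smulRight (b i)
  let R' : Fin d → Module.End K (Fin d → K) := fun i => (b.coord i).smulRight v
  have hone : ∑ i, L i * e z * R' i = 1 := by
    refine LinearMap.ext fun w => ?_
    simp only [LinearMap.sum_apply, Module.End.mul_apply, Module.End.one_apply, L, R',
      LinearMap.smulRight_apply, map_smul, hφ1, one_smul, smul_eq_mul, mul_one,
      Module.Basis.coord_apply]
    exact b.sum_repr w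
  have h1 : (1 : B) = ∑ i, e.symm (L i) * z * e.symm (R' i) := e.injective (by
    simp only [map_one, map_sum, map_mul, AlgEquiv.apply_symm_apply, hone])
  calc t = t * ((1 : B) : Module.End K W) := by rw [Subalgebra.coe_one, mul_one]
    _ = 0 := by
      rw [h1, AddSubmonoidClass.coe_finsetSum, Finset.mul_sum]
      refine Finset.sum_eq_zero fun i _ => ?_
      rw [Subalgebra.coe_mul, Subalgebra.coe_mul, ← mul_assoc, ← mul_assoc, (ht _).eq,
        mul_assoc (e.symm (L i) : Module.End K W) t, h, mul_zero, zero_mul]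

omit [Nontrivial W] [Finite Γ] in
/-- Linear disjointness: `t x = T y ≠ 0` makes `x` proportional to `y`. -/
theorem exists_smul_eq_of_mul_eq {B : Subalgebra K (Module.End K W)} {d : ℕ}
    (e : B ≃ₐ[K] Module.End K (Fin d → K)) {t T : Module.End K W} (ht : ∀ b : B, Commute t b)
    (hT : ∀ b : B, Commute T b) {x y : B} (h : t * x = T * y) (h0 : T * y ≠ 0) :
    ∃ c : K, x = c • y := by
  have ht0 : t ≠ 0 := fun ht' => h0 (by rw [← h, ht', zero_mul])
  have hxy : ∀ a : B, x * a * y = y * a * x := by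
    intro a
    refine sub_eq_zero.1 (not_not.1 fun hne => ht0 (eq_zero_of_mul_eq_zero e ht hne ?_))
    rw [AddSubgroupClass.coe_sub, mul_sub, sub_eq_zero]
    simp only [Subalgebra.coe_mul]
    calc t * (x * a * y) = T * (y * a * y) := by
          rw [← mul_assoc, ← mul_assoc, h, mul_assoc, mul_assoc, mul_assoc]
      _ = y * a * (T * y) := by
          have hc : Commute T ((y * a : B) : Module.End K W) := hT (y * a)
          rw [Subalgebra.coe_mul] at hc
          rw [← mul_assoc, hc.eq, mul_assoc]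
      _ = y * a * (t * x) := by rw [h]
      _ = t * (y * a * x) := by
          have hc : Commute t ((y * a : B) : Module.End K W) := ht (y * a)
          rw [Subalgebra.coe_mul] at hc
          rw [← mul_assoc _ t, ← hc.eq, mul_assoc]
  obtain ⟨v, hv⟩ : ∃ v, e y v ≠ 0 := by
    by_contra hno
    push Not at hno
    refine h0 ?_
    rw [e.map_eq_zero_iff.1 (LinearMap.ext hno)]
    exact mul_zero T
  obtain ⟨i₀, hi₀⟩ := Function.ne_iff.1 hv
  obtain ⟨φ, hφ⟩ : ∃ φ : (Fin d → K) →ₗ[K] K, φ (e y v) ≠ 0 := ⟨LinearMap.proj i₀, hi₀⟩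
  refine ⟨(φ (e y v))⁻¹ * φ (e x v), e.injective (LinearMap.ext fun u => ?_)⟩
  have h1 := LinearMap.congr_fun (congrArg e (hxy (e.symm (φ.smulRight u)))) v
  simp only [map_mul, AlgEquiv.apply_symm_apply, Module.End.mul_apply,
    LinearMap.smulRight_apply, map_smul] at h1
  rw [map_smul, LinearMap.smul_apply, mul_smul, ← h1, smul_smul, inv_mul_cancel₀ hφ, one_smul]

omit [Nontrivial W] [Finite Γ] in
/-- An element of finite order normalising a full matrix algebra is inner on it. -/
theorem exists_implementer [IsAlgClosed K] {θ : Γ →* Module.End K W}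
    {B : Subalgebra K (Module.End K W)} [FiniteDimensional K B] {d : ℕ} (hd : 0 < d)
    (e : B ≃ₐ[K] Module.End K (Fin d → K)) {g : Γ}
    (hg : ∀ b : B, θ g * b * θ g⁻¹ ∈ B) {n : ℕ} (hn : 0 < n)
    (hper : ∀ b : B, θ (g ^ n) * b * θ (g ^ n)⁻¹ = b) :
    ∃ (T : B) (t : Module.End K W), T ^ n = 1 ∧ (∀ b : B, Commute t b) ∧
      θ g = t * T ∧ (∀ b : B, θ g * b * θ g⁻¹ * (T : Module.End K W) = T * b) := by
  haveI : Nontrivial (Fin d → K) := ⟨⟨0, fun _ => 1, fun h =>
    zero_ne_one (congrFun h ⟨0, hd⟩)⟩⟩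
  have hunit : θ g * θ g⁻¹ = 1 := by rw [← map_mul, mul_inv_cancel, map_one]
  have hunit' : θ g⁻¹ * θ g = 1 := by rw [← map_mul, inv_mul_cancel, map_one]
  let φ₀ : B →ₐ[K] B :=
    { toFun := fun b => ⟨θ g * (b : Module.End K W) * θ g⁻¹, hg b⟩
      map_one' := Subtype.ext (by show θ g * 1 * θ g⁻¹ = 1; rw [mul_one, hunit])
      map_mul' := fun x y => Subtype.ext (by
        show θ g * ((x : Module.End K W) * y) * θ g⁻¹ = θ g * x * θ g⁻¹ * (θ g * y * θ g⁻¹)
        simp only [mul_assoc]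
        rw [← mul_assoc (θ g⁻¹) (θ g), hunit', one_mul])
      map_zero' := Subtype.ext (by show θ g * 0 * θ g⁻¹ = 0; simp)
      map_add' := fun x y => Subtype.ext (by
        show θ g * ((x : Module.End K W) + y) * θ g⁻¹ = θ g * x * θ g⁻¹ + θ g * y * θ g⁻¹
        rw [mul_add, add_mul])
      commutes' := fun c => Subtype.ext (by
        show θ g * algebraMap K (Module.End K W) c * θ g⁻¹ = algebraMap K (Module.End K W) c
        rw [← Algebra.commutes, mul_assoc, hunit, mul_one]) }
  have hφ₀ : Function.Injective φ₀ := fun x y h => Subtype.ext (by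
    have h' : θ g * (x : Module.End K W) * θ g⁻¹ = θ g * y * θ g⁻¹ := congrArg Subtype.val h
    have h'' := congrArg (fun z => θ g⁻¹ * z * θ g) h'
    simpa [mul_assoc, hunit', ← mul_assoc (θ g⁻¹) (θ g)] using h'')
  let φ : B ≃ₐ[K] B := AlgEquiv.ofBijective φ₀
    ⟨hφ₀, (LinearMap.injective_iff_surjective (f := φ₀.toLinearMap)).mp hφ₀⟩
  have hφ : ∀ b : B, (φ b : Module.End K W) = θ g * b * θ g⁻¹ := fun b => rfl
  obtain ⟨T₀, hT₀⟩ := ((e.symm.trans φ).trans e).eq_linearEquivConjAlgEquiv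
  let S' : B := e.symm T₀.toLinearMap
  let S'' : B := e.symm T₀.symm.toLinearMap
  have hSS : S' * S'' = 1 := by
    rw [← map_mul, ← map_one e.symm]; congr 1
    exact LinearMap.ext fun v => T₀.apply_symm_apply v
  have hSS' : S'' * S' = 1 := by
    rw [← map_mul, ← map_one e.symm]; congr 1
    exact LinearMap.ext fun v => T₀.symm_apply_apply v
  have hφS : ∀ b : B, φ b * S' = S' * b := by
    intro b
    apply e.injective
    rw [map_mul, map_mul, AlgEquiv.apply_symm_apply]
    have h := AlgEquiv.congr_fun hT₀ (e b)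
    simp only [AlgEquiv.trans_apply, AlgEquiv.symm_apply_apply, LinearEquiv.conjAlgEquiv_apply] at h
    rw [h]
    refine LinearMap.ext fun v => ?_
    simp [Module.End.mul_apply]
  have hiter : ∀ (i : ℕ) (b : B), (φ^[i] b : B) * S' ^ i = S' ^ i * b := by
    intro i
    induction i with
    | zero => intro b; simp
    | succ i ih =>
      intro b
      rw [Function.iterate_succ_apply, pow_succ, ← mul_assoc, ih (φ b), mul_assoc, hφS, ← mul_assoc]
  have hitval : ∀ (i : ℕ) (b : B),
      ((φ^[i] b : B) : Module.End K W) = θ (g ^ i) * b * θ (g ^ i)⁻¹ := by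
    intro i
    induction i with
    | zero => intro b; simp
    | succ i ih =>
      intro b
      rw [Function.iterate_succ_apply', hφ, ih, pow_succ', mul_inv_rev, map_mul, map_mul]
      simp only [mul_assoc]
  obtain ⟨c₀, hc₀⟩ : ∃ c₀ : K, S' ^ n = algebraMap K B c₀ := by
    have hcen : e (S' ^ n) ∈ Subalgebra.center K (Module.End K (Fin d → K)) := by
      rw [Subalgebra.mem_center_iff]
      intro x
      obtain ⟨b, rfl⟩ := e.surjective x
      rw [← map_mul, ← map_mul]
      congr 1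
      have h1 := hiter n b
      rw [show φ^[n] b = b from Subtype.ext ((hitval n b).trans (hper b))] at h1
      exact h1
    rw [Algebra.IsCentral.center_eq_bot, Algebra.mem_bot] at hcen
    obtain ⟨c₀, hc₀⟩ := hcen
    exact ⟨c₀, e.injective (by rw [← hc₀, AlgEquiv.commutes])⟩
  have hc₀0 : c₀ ≠ 0 := by
    rintro rfl
    rw [map_zero] at hc₀
    haveI : Nontrivial B := e.symm.injective.nontrivial
    have hu : IsUnit (S' ^ n) := (IsUnit.pow n ⟨⟨S', S'', hSS, hSS'⟩, rfl⟩)
    exact not_isUnit_zero (hc₀ ▸ hu)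
  obtain ⟨z, hz⟩ := IsAlgClosed.exists_pow_nat_eq c₀⁻¹ hn
  let T : B := z • S'
  have hTn : T ^ n = 1 := by
    rw [smul_pow, hz, hc₀, Algebra.algebraMap_eq_smul_one, smul_smul, inv_mul_cancel₀ hc₀0, one_smul]
  have hφT : ∀ b : B, φ b * T = T * b := fun b => by
    rw [mul_smul_comm, hφS, smul_mul_assoc]
  have hTinv : T ^ (n - 1) * T = 1 := by rw [← pow_succ, Nat.sub_add_cancel hn, hTn]
  have hTinv' : T * T ^ (n - 1) = 1 := by rw [← pow_succ', Nat.sub_add_cancel hn, hTn]
  refine ⟨T, θ g * (T ^ (n - 1) : B), hTn, fun b => ?_, ?_, fun b => ?_⟩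
  · have h1 : φ (T ^ (n - 1) * b * T) = b := by
      have h := hφT (T ^ (n - 1) * b * T)
      rw [← mul_assoc T, ← mul_assoc T, hTinv', one_mul] at h
      have h3 := congrArg (· * T ^ (n - 1)) h
      simpa [mul_assoc, hTinv'] using h3
    have h2 : θ g * ((T ^ (n - 1) * b * T : B) : Module.End K W) * θ g⁻¹ = b := by
      rw [← hφ, h1]
    show θ g * ((T ^ (n - 1) : B) : Module.End K W) * b = b * (θ g * (T ^ (n - 1) : B))
    calc θ g * ((T ^ (n - 1) : B) : Module.End K W) * b
        = θ g * ((T ^ (n - 1) * b * (T * T ^ (n - 1)) : B) : Module.End K W) := by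
          rw [hTinv', mul_one, Subalgebra.coe_mul, mul_assoc]
      _ = θ g * ((T ^ (n - 1) * b * T : B) : Module.End K W) * θ g⁻¹ *
          (θ g * (T ^ (n - 1) : B)) := by
          rw [mul_assoc (θ g * _), ← mul_assoc (θ g⁻¹), hunit', one_mul, mul_assoc (θ g),
            ← Subalgebra.coe_mul, mul_assoc (T ^ (n - 1) * b)]
      _ = b * (θ g * (T ^ (n - 1) : B)) := by rw [h2]
  · show θ g = θ g * ((T ^ (n - 1) : B) : Module.End K W) * (T : Module.End K W)
    rw [mul_assoc, ← Subalgebra.coe_mul, hTinv, Subalgebra.coe_one, mul_one]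
  · exact congrArg Subtype.val (hφT b)

/-- An equivariant section. -/
theorem exists_equivariant_section {Q R : Subgroup Γ} [Q.Normal] [R.Normal] {g : Γ}
    (hcop : (orderOf g).Coprime (Nat.card (R.subgroupOf Q))) :
    ∃ a : Q ⧸ R.subgroupOf Q → Q, (∀ m, QuotientGroup.mk (a m) = m) ∧
      ∀ m, a (QuotientGroup.map _ (R.subgroupOf Q) (MulAut.conjNormal g : MulAut Q).toMonoidHom
        (fun x hx => by
          show ((MulAut.conjNormal g x : Q) : Γ) ∈ R
          rw [MulAut.conjNormal_apply]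
          exact (inferInstance : R.Normal).conj_mem _ hx _) m) =
        (MulAut.conjNormal g : MulAut Q) (a m) := by
  classical
  haveI hR'n : (R.subgroupOf Q).Normal := (inferInstance : R.Normal).subgroupOf Q
  have hmem : ∀ k : Γ, R.subgroupOf Q ≤
      (R.subgroupOf Q).comap (MulAut.conjNormal k : MulAut Q).toMonoidHom := fun k x hx => by
    show ((MulAut.conjNormal k x : Q) : Γ) ∈ R
    rw [MulAut.conjNormal_apply]
    exact (inferInstance : R.Normal).conj_mem _ hx _
  let act : MulAction (zpowers g) (Q ⧸ R.subgroupOf Q) :=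
    { smul := fun k => QuotientGroup.map _ _ (MulAut.conjNormal (k : Γ) : MulAut Q).toMonoidHom
        (hmem k)
      one_smul := fun m => by
        induction m using QuotientGroup.induction_on
        show QuotientGroup.mk _ = QuotientGroup.mk _
        congr 1
        exact Subtype.ext (by simp)
      mul_smul := fun k k' m => by
        induction m using QuotientGroup.induction_on
        show QuotientGroup.mk _ = QuotientGroup.mk _
        congr 1
        exact Subtype.ext (by simp [mul_assoc]) }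
  have hact : ∀ (k : zpowers g) (x : Q), k • (QuotientGroup.mk x : Q ⧸ R.subgroupOf Q) =
      QuotientGroup.mk ((MulAut.conjNormal (k : Γ) : MulAut Q) x) := fun k x => rfl
  -- a fixed lift of each class
  have hlift : ∀ m : Q ⧸ R.subgroupOf Q, ∃ x : Q, QuotientGroup.mk x = m ∧
      ∀ k : zpowers g, k • m = m → (MulAut.conjNormal (k : Γ) : MulAut Q) x = x := by
    intro m
    obtain ⟨y, rfl⟩ := QuotientGroup.mk_surjective m
    set St : Subgroup Γ := (MulAction.stabilizer (zpowers g)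
      (QuotientGroup.mk y : Q ⧸ R.subgroupOf Q)).map (zpowers g).subtype with hSt
    have hSg : St ≤ zpowers g := map_subtype_le _
    obtain ⟨n, hn, hc⟩ := Coprime.exists_mul_mem_centralizer (A := St) (N := R ⊓ Q) (k := (y : Γ))
      (by rw [normalizer_eq_top]; exact le_top)
      (by
        have h1 : Nat.card ↥(R ⊓ Q) = Nat.card (R.subgroupOf Q) := by
          rw [← subgroupOf_map_subtype, card_map_of_injective Q.subtype_injective]
        rw [h1]
        exact hcop.coprime_dvd_left ((card_dvd_of_le hSg).trans (by rw [Nat.card_zpowers])))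
      (Or.inl (Coprime.isSolvable_of_le hSg (Coprime.isSolvable_zpowers g))) (by
        rintro _ ⟨k, hk, rfl⟩
        have h1 : QuotientGroup.mk ((MulAut.conjNormal (k : Γ) : MulAut Q) y) =
            (QuotientGroup.mk y : Q ⧸ R.subgroupOf Q) := by rw [← hact]; exact hk
        have h2 := mem_subgroupOf.1 (QuotientGroup.eq.1 h1.symm)
        rw [Subgroup.coe_mul, Subgroup.coe_inv, MulAut.conjNormal_apply] at h2
        have h3 : ⁅(k : Γ), (y : Γ)⁆ ∈ R := by
          have := (inferInstance : R.Normal).conj_mem _ h2 (y : Γ)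
          simpa [commutatorElement_def, mul_assoc] using this
        refine mem_inf.2 ⟨h3, ?_⟩
        rw [commutatorElement_def]
        exact mul_mem ((inferInstance : Q.Normal).conj_mem _ y.2 _) (inv_mem y.2))
    refine ⟨⟨n * y, mul_mem (mem_inf.1 hn).2 y.2⟩, ?_, fun k hk => Subtype.ext ?_⟩
    · refine (QuotientGroup.eq.2 (mem_subgroupOf.2 ?_))
      show ((⟨n * y, _⟩ : Q) : Γ)⁻¹ * (y : Γ) ∈ R
      have := (inferInstance : R.Normal).conj_mem _ (inv_mem (mem_inf.1 hn).1) (y : Γ)⁻¹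
      simpa [mul_assoc] using this
    · rw [MulAut.conjNormal_apply]
      have h4 := mem_centralizer_iff.1 hc (k : Γ) ⟨k, hk, rfl⟩
      show (k : Γ) * (n * y) * (k : Γ)⁻¹ = n * y
      rw [h4, mul_inv_cancel_right]
  choose lift hlift1 hlift2 using hlift
  let rep : Q ⧸ R.subgroupOf Q → Q ⧸ R.subgroupOf Q := fun m =>
    (Quotient.mk (MulAction.orbitRel (zpowers g) (Q ⧸ R.subgroupOf Q)) m).out
  have hrep : ∀ m, ∃ k : zpowers g, k • rep m = m := fun m => by
    have h := Quotient.mk_out (s := MulAction.orbitRel (zpowers g) (Q ⧸ R.subgroupOf Q)) m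
    exact MulAction.orbitRel_apply.1 ((MulAction.orbitRel (zpowers g) (Q ⧸ R.subgroupOf Q)).iseqv.symm h)
  choose mv hmv using hrep
  let a : Q ⧸ R.subgroupOf Q → Q := fun m =>
    (MulAut.conjNormal (mv m : Γ) : MulAut Q) (lift (rep m))
  have haeq : ∀ (k : zpowers g) (m : Q ⧸ R.subgroupOf Q),
      a (k • m) = (MulAut.conjNormal (k : Γ) : MulAut Q) (a m) := by
    intro k m
    have hr : rep (k • m) = rep m := by
      simp only [rep]
      rw [Quotient.sound (s := MulAction.orbitRel (zpowers g) (Q ⧸ R.subgroupOf Q))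
        (MulAction.orbitRel_apply.2 (MulAction.mem_orbit m k))]
    show (MulAut.conjNormal (mv (k • m) : Γ) : MulAut Q) (lift (rep (k • m))) =
      (MulAut.conjNormal (k : Γ) : MulAut Q)
        ((MulAut.conjNormal (mv m : Γ) : MulAut Q) (lift (rep m)))
    have h1 := hlift2 (rep m) ((k * mv m)⁻¹ * mv (k • m)) (by
      rw [mul_smul, inv_smul_eq_iff, mul_smul, hmv m]
      conv_lhs => rw [← hr, hmv (k • m)])
    rw [hr, ← MulAut.mul_apply, ← map_mul]
    conv_rhs => rw [← h1]
    rw [← MulAut.mul_apply, ← map_mul, ← Subgroup.coe_mul, ← Subgroup.coe_mul,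
      mul_inv_cancel_left]
  refine ⟨a, fun m => ?_, fun m => ?_⟩
  · show QuotientGroup.mk ((MulAut.conjNormal (mv m : Γ) : MulAut Q) (lift (rep m))) = m
    rw [← hact, hlift1, hmv]
  · exact haeq ⟨g, mem_zpowers g⟩ m

end CfsgLib.Solvable.TurullHeight
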