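import Cfsg.Agent.Lib.Solvable.TurullHeight.Eigen
import Cfsg.Agent.Lib.Solvable.TurullHeight.Twist
import Mathlib.Data.ZMod.QuotientGroup
import Mathlib.Tactic.Ring
import Mathlib.Tactic.LinearCombination

/-!
# An operator fixing the fixed vectors over a twisted group algebra
-/

set_option autoImplicit false

namespace CfsgLib.Solvable.TurullHeight

open Subgroup CfsgLib CfsgLib.Solvable.FPFOperators
open scoped commutatorElement

section Count

variable {K : Type*} [Field K] {E : Type*} [AddCommGroup E] [Module K E] {X : Type*} [Fintype X]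

/-- The fixed part of a permuted independent family has one dimension for each orbit. -/
theorem finrank_fixed_span (u : X → E) (hu : LinearIndependent K u) (π : Equiv.Perm X)
    (φ : Module.End K E) (hφ : ∀ x, φ (u x) = u (π x)) :
    Module.finrank K ↥(Submodule.span K (Set.range u) ⊓ LinearMap.ker (φ - 1) : Submodule K E) =
      Nat.card (MulAction.orbitRel.Quotient (zpowers π) X) := by
  classical
  let O := MulAction.orbitRel.Quotient (zpowers π) X
  let cls : X → O := fun x => Quotient.mk'' x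
  haveI : Fintype O := Fintype.ofFinite O
  have hclsπ : ∀ x, cls (π x) = cls x := fun x =>
    Quotient.sound' (MulAction.orbitRel_apply.2
      (MulAction.mem_orbit x (⟨π, mem_zpowers π⟩ : zpowers π)))
  let Λ : (O → K) →ₗ[K] E :=
    { toFun := fun c => ∑ x, c (cls x) • u x
      map_add' := fun c c' => by simp [add_smul, Finset.sum_add_distrib]
      map_smul' := fun a c => by simp [Finset.smul_sum, smul_smul] }
  have hΛ : ∀ c, Λ c = ∑ x, c (cls x) • u x := fun c => rfl
  have hfixed : ∀ c, Λ c ∈ Submodule.span K (Set.range u) ⊓ LinearMap.ker (φ - 1) := by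
    intro c
    refine ⟨?_, ?_⟩
    · rw [hΛ]
      exact Submodule.sum_mem _ fun x _ =>
        Submodule.smul_mem _ _ (Submodule.subset_span ⟨x, rfl⟩)
    · show (φ - 1) (Λ c) = 0
      rw [LinearMap.sub_apply, Module.End.one_apply, sub_eq_zero, hΛ, map_sum]
      refine Fintype.sum_equiv π _ _ fun x => ?_
      rw [map_smul, hφ, hclsπ]
  have hinj : Function.Injective Λ := by
    intro c c' h
    funext o
    obtain ⟨x, rfl⟩ := Quotient.mk''_surjective o
    have h' : ∑ y, (c (cls y) - c' (cls y)) • u y = 0 := by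
      simp only [sub_smul, Finset.sum_sub_distrib]
      rw [sub_eq_zero]; exact h
    exact sub_eq_zero.1 (Fintype.linearIndependent_iff.1 hu _ h' x)
  let e : (O → K) ≃ₗ[K] ↥(Submodule.span K (Set.range u) ⊓ LinearMap.ker (φ - 1) : Submodule K E) :=
    LinearEquiv.ofBijective (LinearMap.codRestrict _ Λ hfixed)
      ⟨fun c c' h => hinj (congrArg Subtype.val h), by
        rintro ⟨b, hb1, hb2⟩
        obtain ⟨c, rfl⟩ := (Submodule.mem_span_range_iff_exists_fun K).1 hb1
        have hb2' : φ (∑ x, c x • u x) = ∑ x, c x • u x := by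
          have : (φ - 1) (∑ x, c x • u x) = 0 := hb2
          rwa [LinearMap.sub_apply, Module.End.one_apply, sub_eq_zero] at this
        have hinv : ∀ x, c (π x) = c x := by
          have h' : ∑ x, (c (π.symm x) - c x) • u x = 0 := by
            simp only [sub_smul, Finset.sum_sub_distrib]
            rw [sub_eq_zero]
            refine Eq.trans ?_ hb2'
            rw [map_sum]
            refine (Fintype.sum_equiv π _ _ fun x => ?_).symm
            rw [map_smul, hφ, Equiv.symm_apply_apply]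
          intro x
          have := sub_eq_zero.1 (Fintype.linearIndependent_iff.1 hu _ h' (π x))
          rw [Equiv.symm_apply_apply] at this
          exact this.symm
        have hH : ∀ k : zpowers π, ∀ x, c (k • x) = c x := by
          rintro ⟨k, hk⟩ x
          obtain ⟨m, rfl⟩ := (mem_powers_iff_mem_zpowers (x := π)).2 hk
          show c ((π ^ m) x) = c x
          clear hk
          induction m with
          | zero => rfl
          | succ m ih => rw [pow_succ', Equiv.Perm.mul_apply, hinv, ih]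
        refine ⟨fun o => Quotient.liftOn' o c fun x y hxy => ?_, Subtype.ext ?_⟩
        · obtain ⟨k, rfl⟩ := MulAction.orbitRel_apply.1 hxy
          exact hH k y
        · rfl⟩
  rw [← e.finrank_eq, Module.finrank_fintype_fun_eq_card, Nat.card_eq_fintype_card]

/-- Counting orbits with weights inverse to their lengths. -/
theorem sum_weight_eq {H : Type*} [Group H] [MulAction H X] (w : X → ℕ) (N : ℕ)
    (hw : ∀ x, w x * Nat.card (MulAction.orbit H x) = N)
    (hconst : ∀ (k : H) (x : X), w (k • x) = w x) :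
    ∑ x, w x = Nat.card (MulAction.orbitRel.Quotient H X) * N := by
  classical
  let O := MulAction.orbitRel.Quotient H X
  haveI : Fintype O := Fintype.ofFinite O
  rw [← Finset.sum_fiberwise Finset.univ (fun x => (Quotient.mk'' x : O)) w]
  rw [Finset.sum_congr rfl (g := fun _ : O => N) fun o _ => ?_]
  · rw [Finset.sum_const, Finset.card_univ, smul_eq_mul, Nat.card_eq_fintype_card]
  obtain ⟨x, rfl⟩ := Quotient.mk''_surjective o
  rw [Finset.sum_congr rfl (g := fun _ => w x) fun y hy => ?_, Finset.sum_const, smul_eq_mul,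
    ← hw x, mul_comm (w x)]
  · congr 1
    rw [Nat.card_eq_fintype_card, ← Set.toFinset_card]
    refine congrArg Finset.card (Finset.ext fun y => ?_)
    rw [Finset.mem_filter, Set.mem_toFinset]
    refine ⟨fun hy => MulAction.orbitRel_apply.1 (Quotient.exact' hy.2), fun hy => ?_⟩
    exact ⟨Finset.mem_univ _, Quotient.sound' (MulAction.orbitRel_apply.2 hy)⟩
  · obtain ⟨k, rfl⟩ := MulAction.orbitRel_apply.1 (Quotient.exact' (Finset.mem_filter.1 hy).2)
    exact hconst k x

end Count

variable {K : Type*} [Field K] [IsAlgClosed K] {Γ W : Type*} [Group Γ] [Finite Γ] [AddCommGroup W]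
  [Module K W] [Nontrivial W] {θ : Γ →* Module.End K W} {Q R : Subgroup Γ}

omit [IsAlgClosed K] [Finite Γ] [Nontrivial W] in
theorem conj_mem_twistAlg [Q.Normal] (g : Γ) {b : Module.End K W} (hb : b ∈ twistAlg θ Q) :
    θ g * b * θ g⁻¹ ∈ twistAlg θ Q := by
  have hu : θ g⁻¹ * θ g = 1 := by rw [← map_mul, inv_mul_cancel, map_one]
  induction hb using Algebra.adjoin_induction with
  | mem x hx =>
    obtain ⟨y, hy, rfl⟩ := hx
    rw [← map_mul, ← map_mul]
    exact map_mem_twistAlg θ ((inferInstance : Q.Normal).conj_mem y hy g)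
  | algebraMap c =>
    rw [← Algebra.commutes, mul_assoc, show θ g * θ g⁻¹ = 1 by
      rw [← map_mul, mul_inv_cancel, map_one], mul_one]
    exact Subalgebra.algebraMap_mem _ c
  | add x y _ _ hx hy => rw [mul_add, add_mul]; exact add_mem hx hy
  | mul x y _ _ hx hy =>
    have e : θ g * (x * y) * θ g⁻¹ = θ g * x * θ g⁻¹ * (θ g * y * θ g⁻¹) := by
      simp only [mul_assoc]; rw [← mul_assoc (θ g⁻¹), hu, one_mul]
    rw [e]; exact mul_mem hx hy

omit [IsAlgClosed K] [Finite Γ] [Nontrivial W] in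
theorem conj_eq_self_twistAlg {k : Γ} (hk : ∀ y ∈ Q, k * y * k⁻¹ = y) {b : Module.End K W}
    (hb : b ∈ twistAlg θ Q) : θ k * b * θ k⁻¹ = b := by
  have hu : θ k⁻¹ * θ k = 1 := by rw [← map_mul, inv_mul_cancel, map_one]
  induction hb using Algebra.adjoin_induction with
  | mem x hx => obtain ⟨y, hy, rfl⟩ := hx; rw [← map_mul, ← map_mul, hk y hy]
  | algebraMap c =>
    rw [← Algebra.commutes, mul_assoc, show θ k * θ k⁻¹ = 1 by
      rw [← map_mul, mul_inv_cancel, map_one], mul_one]
  | add x y _ _ hx hy => rw [mul_add, add_mul, hx, hy]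
  | mul x y _ _ hx hy =>
    calc θ k * (x * y) * θ k⁻¹ = θ k * x * θ k⁻¹ * (θ k * y * θ k⁻¹) := by
          simp only [mul_assoc]; rw [← mul_assoc (θ k⁻¹), hu, one_mul]
      _ = x * y := by rw [hx, hy]

/-- The fixed dimension of an operator on the twisted algebra. -/
theorem finrank_twist_fixed [Q.Normal] [R.Normal] (h : TwistData θ Q R) {d : ℕ}
    (e : twistAlg θ Q ≃ₐ[K] Module.End K (Fin d → K)) (hd : R.relIndex Q = d * d) {g : Γ}
    (hcop : (orderOf g).Coprime (Nat.card (R.subgroupOf Q))) {T : twistAlg θ Q}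
    {N : ℕ} (hTN : T ^ N = 1) (hN : 0 < N)
    (hT : ∀ b : twistAlg θ Q, θ g * b * θ g⁻¹ * (T : Module.End K W) = T * b) :
    ∃ π : Equiv.Perm (Q ⧸ R.subgroupOf Q),
      (∀ (k : ℕ) (x : Q), (π ^ k) (QuotientGroup.mk x) =
        QuotientGroup.mk ((MulAut.conjNormal (g ^ k) : MulAut Q) x)) ∧
      Module.finrank K (commutant (e T)) =
        Nat.card (MulAction.orbitRel.Quotient (zpowers π) (Q ⧸ R.subgroupOf Q)) := by
  classical
  haveI hR'n : (R.subgroupOf Q).Normal := (inferInstance : R.Normal).subgroupOf Q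
  haveI : Fintype (Q ⧸ R.subgroupOf Q) := Fintype.ofFinite _
  obtain ⟨a, ha1, ha2⟩ := exists_equivariant_section (Q := Q) (R := R) hcop
  have hmem : R.subgroupOf Q ≤
      (R.subgroupOf Q).comap (MulAut.conjNormal g : MulAut Q).toMonoidHom := fun x hx => by
    show ((MulAut.conjNormal g x : Q) : Γ) ∈ R
    rw [MulAut.conjNormal_apply]
    exact (inferInstance : R.Normal).conj_mem _ hx _
  let π₀ : Q ⧸ R.subgroupOf Q → Q ⧸ R.subgroupOf Q :=
    QuotientGroup.map _ _ (MulAut.conjNormal g : MulAut Q).toMonoidHom hmem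
  have hπinj : Function.Injective π₀ := by
    intro m m' hm
    obtain ⟨x, rfl⟩ := QuotientGroup.mk_surjective m
    obtain ⟨y, rfl⟩ := QuotientGroup.mk_surjective m'
    have h1 := mem_subgroupOf.1 (QuotientGroup.eq.1 hm)
    refine QuotientGroup.eq.2 (mem_subgroupOf.2 ?_)
    have h2 := (inferInstance : R.Normal).conj_mem _ h1 g⁻¹
    simp only [Subgroup.coe_mul, Subgroup.coe_inv, MulEquiv.coe_toMonoidHom,
      MulAut.conjNormal_apply] at h2 ⊢
    simpa [mul_assoc] using h2
  let π : Equiv.Perm (Q ⧸ R.subgroupOf Q) :=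
    Equiv.ofBijective π₀ ⟨hπinj, Finite.surjective_of_injective hπinj⟩
  have hπ : ∀ x : Q, π (QuotientGroup.mk x) =
      QuotientGroup.mk ((MulAut.conjNormal g : MulAut Q) x) := fun x => rfl
  refine ⟨π, fun k => ?_, ?_⟩
  · induction k with
    | zero => intro x; simp
    | succ k ih =>
      intro x
      rw [pow_succ', Equiv.Perm.mul_apply, ih, hπ, ← MulAut.mul_apply, ← map_mul, ← pow_succ']
  have hli := (twist_structure h).1 a ha1
  let φ : Module.End K (Module.End K W) :=
    LinearMap.mulLeft K (θ g) ∘ₗ LinearMap.mulRight K (θ g⁻¹)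
  have hφ : ∀ b, φ b = θ g * b * θ g⁻¹ := fun b => by
    show θ g * (b * θ g⁻¹) = _
    rw [mul_assoc]
  rw [← finrank_fixed_span (fun m => θ (a m : Γ)) hli π φ fun m => by
    rw [hφ, ← map_mul, ← map_mul, ← MulAut.conjNormal_apply (H := Q)]
    exact congrArg (fun z : Q => θ (z : Γ)) (ha2 m).symm]
  have hspan : Submodule.span K (Set.range fun m => θ (a m : Γ)) = (twistAlg θ Q).toSubmodule :=
    le_antisymm (Submodule.span_le.2 (by rintro _ ⟨m, rfl⟩; exact map_mem_twistAlg θ (a m).2))
      fun b hb => mem_span_section h a ha1 hb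
  rw [hspan]
  let T' : twistAlg θ Q := T ^ (N - 1)
  have hTT : T * T' = 1 := by rw [← pow_succ', Nat.sub_add_cancel hN, hTN]
  have hTT' : (T : Module.End K W) * T' = 1 := congrArg Subtype.val hTT
  let f : commutant (e T) →ₗ[K]
      ↥((twistAlg θ Q).toSubmodule ⊓ LinearMap.ker (φ - 1) : Submodule K (Module.End K W)) :=
    LinearMap.codRestrict _
      ((twistAlg θ Q).val.toLinearMap ∘ₗ e.symm.toLinearMap ∘ₗ (commutant (e T)).subtype) fun X => by
      refine ⟨Subtype.prop _, ?_⟩
      have hc : T * e.symm X = e.symm X * T := e.injective (by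
        rw [map_mul, map_mul, AlgEquiv.apply_symm_apply]
        exact (mem_commutant_iff_commute.1 X.2).eq)
      show (φ - 1) ((e.symm X : twistAlg θ Q) : Module.End K W) = 0
      rw [LinearMap.sub_apply, Module.End.one_apply, sub_eq_zero, hφ]
      calc θ g * (e.symm X : twistAlg θ Q) * θ g⁻¹
          = θ g * (e.symm X : twistAlg θ Q) * θ g⁻¹ * T * T' := by
            rw [mul_assoc _ (T : Module.End K W), hTT', mul_one]
        _ = (e.symm X : twistAlg θ Q) * T * T' := by
            rw [hT, ← Subalgebra.coe_mul, hc, Subalgebra.coe_mul]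
        _ = (e.symm X : twistAlg θ Q) := by rw [mul_assoc, hTT', mul_one]
  have hf : ∀ X, (f X : Module.End K W) = ((e.symm (X : Module.End K (Fin d → K))) : twistAlg θ Q) :=
    fun X => rfl
  refine LinearEquiv.finrank_eq (LinearEquiv.ofBijective f ⟨fun X Y hXY => ?_, fun b => ?_⟩)
  · have h1 := congrArg Subtype.val hXY
    rw [hf, hf] at h1
    exact Subtype.ext (e.symm.injective (Subtype.ext h1))
  · obtain ⟨b, hb1, hb2⟩ := b
    have hb' : θ g * b * θ g⁻¹ = b := by
      have h0 : (φ - 1) b = 0 := hb2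
      rwa [LinearMap.sub_apply, Module.End.one_apply, sub_eq_zero, hφ] at h0
    refine ⟨⟨e ⟨b, hb1⟩, mem_commutant_iff_commute.2 ?_⟩, Subtype.ext ?_⟩
    · show e T * e ⟨b, hb1⟩ = e ⟨b, hb1⟩ * e T
      rw [← map_mul, ← map_mul]
      congr 1
      refine Subtype.ext ?_
      have h1 := hT ⟨b, hb1⟩
      rw [hb'] at h1
      exact h1.symm
    · show ((e.symm (e ⟨b, hb1⟩) : twistAlg θ Q) : Module.End K W) = b
      rw [AlgEquiv.symm_apply_apply]

/-- An operator of prime order on `Q / R` fixing all fixed vectors of `s`: the classes it fixes are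
many. -/
theorem block_bound [Q.Normal] [R.Normal] [FiniteDimensional K W] (h : TwistData θ Q R) {r p : ℕ}
    (hr : r.Prime) (hp : p.Prime) (hrp : r ≠ p) {s l : Γ} (hs : s ^ r = 1) (hsl : s * l = l * s)
    (hrK : (r : K) ≠ 0) (hcops : r.Coprime (Nat.card Q))
    (hcopl : (orderOf l).Coprime (Nat.card Q)) (hlQ : ∀ u ∈ Q, l ^ p * u * (l ^ p)⁻¹ = u)
    (hfree : ∀ u ∈ Q, ⁅s, u⁆ ∈ R → u ∈ R) (hsum : ∑ i ∈ Finset.range r, θ (s ^ i) ≠ 0)
    (hfix : θ l * ∑ i ∈ Finset.range r, θ (s ^ i) = ∑ i ∈ Finset.range r, θ (s ^ i))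
    {P : Subgroup Γ} (hP : ∀ u, u ∈ P ↔ u ∈ Q ∧ ⁅l, u⁆ ∈ R) :
    ∃ d m : ℕ, R.relIndex Q = d * d ∧ 0 < m ∧ d < r * m + r ∧
      r * (m * m) + 1 ≤ r + R.relIndex P := by
  classical
  haveI hR'n : (R.subgroupOf Q).Normal := (inferInstance : R.Normal).subgroupOf Q
  haveI : Fintype (Q ⧸ R.subgroupOf Q) := Fintype.ofFinite _
  obtain ⟨-, d, hdd, ⟨e⟩⟩ := twist_structure h
  set B := twistAlg θ Q with hB
  have hd0 : 0 < d := by
    rcases Nat.eq_zero_or_pos d with h0 | h0
    · subst h0
      exact absurd hdd (show (R.subgroupOf Q).index ≠ 0 * 0 by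
        rw [Nat.zero_mul]; exact Subgroup.index_ne_zero_of_finite)
    · exact h0
  haveI : FiniteDimensional K B := e.toLinearEquiv.symm.finiteDimensional
  have hcardR : Nat.card (R.subgroupOf Q) ∣ Nat.card Q := Subgroup.card_subgroup_dvd_card _
  have hsr : orderOf s ∣ r := orderOf_dvd_of_pow_eq_one hs
  obtain ⟨Ts, ts, hTs, hts, hθs, hTs'⟩ := exists_implementer hd0 e (g := s)
    (fun b => conj_mem_twistAlg s b.2) hr.pos fun b => by
      rw [hs, inv_one, map_one, one_mul, mul_one]
  obtain ⟨Tl, tl, hTl, htl, hθl, hTl'⟩ := exists_implementer hd0 e (g := l)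
    (fun b => conj_mem_twistAlg l b.2) hp.pos fun b => conj_eq_self_twistAlg hlQ b.2
  set S := e Ts
  set L := e Tl
  have hS : S ^ r = 1 := by rw [← map_pow, hTs, map_one]
  have hL : L ^ p = 1 := by rw [← map_pow, hTl, map_one]
  -- the implementers commute
  have hSL : Commute L S := by
    have hcs : ∀ b : B, (⟨θ s * b * θ s⁻¹, conj_mem_twistAlg s b.2⟩ : B) * Ts = Ts * b :=
      fun b => Subtype.ext (hTs' b)
    have hcl : ∀ b : B, (⟨θ l * b * θ l⁻¹, conj_mem_twistAlg l b.2⟩ : B) * Tl = Tl * b :=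
      fun b => Subtype.ext (hTl' b)
    -- `Tl Ts` and `Ts Tl` implement the same automorphism
    have h1 : ∀ b : B, ∃ b' : B, b' * (Tl * Ts) = Tl * Ts * b ∧ b' * (Ts * Tl) = Ts * Tl * b := by
      intro b
      refine ⟨⟨θ (l * s) * b * θ (l * s)⁻¹, conj_mem_twistAlg _ b.2⟩, ?_, ?_⟩
      · have e1 : (⟨θ (l * s) * b * θ (l * s)⁻¹, conj_mem_twistAlg _ b.2⟩ : B) =
            ⟨θ l * (⟨θ s * b * θ s⁻¹, conj_mem_twistAlg s b.2⟩ : B) * θ l⁻¹,
              conj_mem_twistAlg l (Subtype.prop _)⟩ :=
          Subtype.ext (by simp only [map_mul, mul_inv_rev]; simp only [mul_assoc])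
        rw [e1, ← mul_assoc, hcl, mul_assoc, hcs, ← mul_assoc]
      · have e1 : (⟨θ (l * s) * b * θ (l * s)⁻¹, conj_mem_twistAlg _ b.2⟩ : B) =
            ⟨θ s * (⟨θ l * b * θ l⁻¹, conj_mem_twistAlg l b.2⟩ : B) * θ s⁻¹,
              conj_mem_twistAlg s (Subtype.prop _)⟩ :=
          Subtype.ext (by rw [← hsl]; simp only [map_mul, mul_inv_rev]; simp only [mul_assoc])
        rw [e1, ← mul_assoc, hcs, mul_assoc, hcl, ← mul_assoc]
    -- their quotient is central
    have hL' : L * L ^ (p - 1) = 1 := by rw [← pow_succ', Nat.sub_add_cancel hp.pos, hL]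
    have hS' : S * S ^ (r - 1) = 1 := by rw [← pow_succ', Nat.sub_add_cancel hr.pos, hS]
    have hSinv : S ^ (r - 1) * S = 1 := by rw [← pow_succ, Nat.sub_add_cancel hr.pos, hS]
    have hLinv : L ^ (p - 1) * L = 1 := by rw [← pow_succ, Nat.sub_add_cancel hp.pos, hL]
    set z := L ^ (p - 1) * S ^ (r - 1) * (L * S) with hz
    have hzc : z ∈ Subalgebra.center K (Module.End K (Fin d → K)) := by
      rw [Subalgebra.mem_center_iff]
      intro x
      obtain ⟨b, rfl⟩ := e.surjective x
      obtain ⟨b', h2, h3⟩ := h1 b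
      have h2' : e b' * (L * S) = L * S * e b := by
        have := congrArg e h2
        simpa [map_mul, S, L] using this
      have h3' : e b' * (S * L) = S * L * e b := by
        have := congrArg e h3
        simpa [map_mul, S, L] using this
      have hinv : L ^ (p - 1) * S ^ (r - 1) * (S * L) = 1 := by
        rw [mul_assoc, ← mul_assoc (S ^ (r - 1)), hSinv, one_mul, hLinv]
      have hinv' : S * L * (L ^ (p - 1) * S ^ (r - 1)) = 1 := by
        rw [mul_assoc, ← mul_assoc L, hL', one_mul, hS']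
      rw [hz]
      calc e b * (L ^ (p - 1) * S ^ (r - 1) * (L * S))
          = L ^ (p - 1) * S ^ (r - 1) * (S * L * e b) * (L ^ (p - 1) * S ^ (r - 1)) * (L * S) := by
            rw [← mul_assoc (L ^ (p - 1) * S ^ (r - 1)) (S * L), hinv, one_mul]
            simp only [mul_assoc]
        _ = L ^ (p - 1) * S ^ (r - 1) * e b' * (L * S) := by
            rw [← h3']
            simp only [mul_assoc]
            rw [← mul_assoc L (L ^ (p - 1)), hL', one_mul, ← mul_assoc S (S ^ (r - 1)), hS', one_mul]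
        _ = L ^ (p - 1) * S ^ (r - 1) * (L * S) * e b := by
            rw [mul_assoc, h2', ← mul_assoc, ← mul_assoc]
    rw [Algebra.IsCentral.center_eq_bot, Algebra.mem_bot] at hzc
    obtain ⟨c, hc⟩ := hzc
    have hLS : L * S = c • (S * L) := by
      calc L * S = S * L * (L ^ (p - 1) * S ^ (r - 1)) * (L * S) := by
            rw [show S * L * (L ^ (p - 1) * S ^ (r - 1)) = 1 by
              rw [mul_assoc, ← mul_assoc L, hL', one_mul, hS'], one_mul]
        _ = S * L * z := by rw [hz, mul_assoc]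
        _ = c • (S * L) := by rw [← hc, Algebra.algebraMap_eq_smul_one, mul_smul_comm, mul_one]
    haveI : Nontrivial (Fin d → K) := ⟨⟨0, fun _ => 1, fun h =>
      zero_ne_one (congrFun h ⟨0, hd0⟩)⟩⟩
    have hpowL : ∀ j, L ^ j * S = c ^ j • (S * L ^ j) := by
      intro j
      induction j with
      | zero => simp
      | succ j ih => rw [pow_succ, mul_assoc, hLS, mul_smul_comm, ← mul_assoc, ih, smul_mul_assoc,
          smul_smul, pow_succ c, mul_comm (c ^ j), mul_assoc]
    have hpowS : ∀ i, L * S ^ i = c ^ i • (S ^ i * L) := by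
      intro i
      induction i with
      | zero => simp
      | succ i ih => rw [pow_succ, ← mul_assoc, ih, smul_mul_assoc, mul_assoc, hLS, mul_smul_comm,
          smul_smul, ← pow_succ, ← mul_assoc]
    have hc1 : c ^ p = 1 := by
      have h4 := hpowL p
      rw [hL, one_mul, mul_one] at h4
      have h5 := congrArg (· * S ^ (r - 1)) h4
      simp only [smul_mul_assoc, hS'] at h5
      obtain ⟨v, hv⟩ := exists_ne (0 : Fin d → K)
      refine smul_left_injective K hv ?_
      show c ^ p • v = (1 : K) • v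
      rw [one_smul]
      exact (LinearMap.congr_fun h5 v).symm
    have hc2 : c ^ r = 1 := by
      have h4 := hpowS r
      rw [hS, one_mul, mul_one] at h4
      have h5 := congrArg (L ^ (p - 1) * ·) h4
      simp only [mul_smul_comm, hLinv] at h5
      obtain ⟨v, hv⟩ := exists_ne (0 : Fin d → K)
      refine smul_left_injective K hv ?_
      show c ^ r • v = (1 : K) • v
      rw [one_smul]
      exact (LinearMap.congr_fun h5 v).symm
    have hc3 : c = 1 := by
      have := pow_gcd_eq_one.mpr ⟨hc2, hc1⟩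
      rwa [(Nat.coprime_primes hr hp).2 hrp, pow_one] at this
    show L * S = S * L
    rw [hLS, hc3, one_smul]
  -- a scalar eigenspace
  haveI : NeZero (r : K) := ⟨hrK⟩
  obtain ⟨ζ, hζ⟩ := HasEnoughRootsOfUnity.exists_primitiveRoot K r
  let Sw : Module.End K W := (Ts : Module.End K W)
  have hSw : Sw ^ r = 1 := by
    show (Ts : Module.End K W) ^ r = 1
    rw [← SubmonoidClass.coe_pow, hTs, Subalgebra.coe_one]
  have htsS : Commute ts Sw := hts Ts
  have htsr : ts ^ r = 1 := by
    have h1 : θ (s ^ r) = ts ^ r * Sw ^ r := by rw [map_pow, hθs, htsS.mul_pow]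
    rw [hs, map_one, hSw, mul_one] at h1
    exact h1.symm
  let Pa : ℕ → Module.End K W := fun a => cycProj r ζ Sw a
  let Tb : ℕ → Module.End K W := fun b => cycProj r ζ ts b
  obtain ⟨a, ha, b, hb, hab⟩ : ∃ a < r, ∃ b < r,
      (∑ i ∈ Finset.range r, θ (s ^ i)) * (Tb b * Pa a) ≠ 0 := by
    by_contra hno
    push Not at hno
    refine hsum ?_
    have h1 : (∑ i ∈ Finset.range r, θ (s ^ i)) *
        ((∑ b ∈ Finset.range r, Tb b) * ∑ a ∈ Finset.range r, Pa a) = 0 := by
      rw [Finset.sum_mul_sum, Finset.mul_sum]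
      refine Finset.sum_eq_zero fun b hb => ?_
      rw [Finset.mul_sum]
      exact Finset.sum_eq_zero fun a ha => hno a (Finset.mem_range.1 ha) b (Finset.mem_range.1 hb)
    rwa [sum_cycProj hζ hr.pos hrK, sum_cycProj hζ hr.pos hrK, one_mul, mul_one] at h1
  have hpowT : ∀ i, ts ^ i * Tb b = (ζ ^ b) ^ i • Tb b := by
    intro i
    induction i with
    | zero => simp
    | succ i ih => rw [pow_succ', mul_assoc, ih, mul_smul_comm, mul_cycProj hζ hr.pos htsr,
        smul_smul, ← pow_succ]
  have hpowP : ∀ i, Sw ^ i * Pa a = (ζ ^ a) ^ i • Pa a := by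
    intro i
    induction i with
    | zero => simp
    | succ i ih => rw [pow_succ', mul_assoc, ih, mul_smul_comm, mul_cycProj hζ hr.pos hSw,
        smul_smul, ← pow_succ]
  have hterm : ∀ i, θ (s ^ i) * (Tb b * Pa a) = (ζ ^ (a + b)) ^ i • (Tb b * Pa a) := by
    intro i
    have hc : Commute (Sw ^ i) (Tb b) := (cycProj_mul_comm b (htsS.pow_right i)).symm
    rw [map_pow, hθs, htsS.mul_pow, mul_assoc, ← mul_assoc (Sw ^ i), hc.eq, mul_assoc, hpowP,
      mul_smul_comm, mul_smul_comm, ← mul_assoc, hpowT, smul_mul_assoc, smul_smul, ← mul_pow,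
      ← pow_add]
  have hsumterm : (∑ i ∈ Finset.range r, θ (s ^ i)) * (Tb b * Pa a) =
      (∑ i ∈ Finset.range r, (ζ ^ (a + b)) ^ i) • (Tb b * Pa a) := by
    rw [Finset.sum_mul, Finset.sum_smul]; exact Finset.sum_congr rfl fun i _ => hterm i
  have hζab : ζ ^ (a + b) = 1 := by
    by_contra hne
    refine hab ?_
    have hz : ∑ i ∈ Finset.range r, (ζ ^ (a + b)) ^ i = 0 := by
      have h1 := geom_sum_mul (ζ ^ (a + b)) r
      rw [← pow_mul, mul_comm (a + b) r, pow_mul, hζ.pow_eq_one, one_pow, sub_self] at h1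
      exact (mul_eq_zero.1 h1).resolve_right (sub_ne_zero.2 hne)
    rw [hsumterm, hz, zero_smul]
  have hPi : (∑ i ∈ Finset.range r, θ (s ^ i)) * (Tb b * Pa a) = (r : K) • (Tb b * Pa a) := by
    rw [hsumterm, hζab]; simp
  have hPi0 : Tb b * Pa a ≠ 0 := fun h0 => hab (by rw [h0, mul_zero])
  have hlPi : θ l * (Tb b * Pa a) = Tb b * Pa a := by
    have h1 : θ l * ((r : K) • (Tb b * Pa a)) = (r : K) • (Tb b * Pa a) := by
      rw [← hPi, ← mul_assoc, hfix]
    rw [mul_smul_comm] at h1
    exact smul_right_injective _ hrK h1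
  let PaB : B := cycProj r ζ Ts a
  have hPaB : (PaB : Module.End K W) = Pa a := by
    show ((cycProj r ζ Ts a : B) : Module.End K W) = cycProj r ζ (Ts : Module.End K W) a
    simp only [cycProj, Subalgebra.coe_smul, AddSubmonoidClass.coe_finsetSum,
      SubmonoidClass.coe_pow]
  have hTbc : ∀ x : B, Commute (Tb b) x := fun x => cycProj_mul_comm b (hts x)
  obtain ⟨c, hc⟩ := exists_smul_eq_of_mul_eq e (t := tl * Tb b) (T := Tb b)
    (fun x => (htl x).mul_left (hTbc x)) hTbc (x := Tl * PaB) (y := PaB) (by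
      rw [Subalgebra.coe_mul, hPaB]
      conv_rhs => rw [← hlPi, hθl]
      simp only [mul_assoc]
      rw [← mul_assoc (Tb b) (Tl : Module.End K W), (hTbc Tl).eq]
      simp only [mul_assoc]) (by rw [hPaB]; exact hPi0)
  have ePa : e PaB = cycProj r ζ S a := by
    simp only [PaB, cycProj, map_smul, map_sum, map_pow, S]
  obtain ⟨m, hm0, hineq, hvar⟩ := scalar_block hp hζ hr.pos hrK hS hL hSL ha
    (by
      rw [← ePa]
      intro h0
      replace h0 : PaB = 0 := e.injective (h0.trans (map_zero e).symm)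
      refine hPi0 ?_
      rw [← hPaB, h0, ZeroMemClass.coe_zero, mul_zero])
    (c := c) (by rw [← ePa, ← map_mul, hc, map_smul])
  -- orbit counts
  have hcops' : (orderOf s).Coprime (Nat.card (R.subgroupOf Q)) :=
    (hcops.coprime_dvd_left hsr).coprime_dvd_right hcardR
  have hcomm_sl : Commute s l := hsl
  have hcopg : (orderOf (s * l)).Coprime (Nat.card (R.subgroupOf Q)) :=
    (Nat.Coprime.mul_left hcops' (hcopl.coprime_dvd_right hcardR)).coprime_dvd_left
      hcomm_sl.orderOf_mul_dvd_mul_orderOf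
  have hTsl : (Ts * Tl) ^ (r * p) = 1 := by
    have hc' : Commute Ts Tl := e.injective (by rw [map_mul, map_mul]; exact hSL.eq.symm)
    rw [hc'.mul_pow, pow_mul, hTs, one_pow, one_mul, mul_comm r p, pow_mul, hTl, one_pow]
  obtain ⟨π, hπ, hπdim⟩ := finrank_twist_fixed h e hdd hcops' hTs hr.pos hTs'
  obtain ⟨π', hπ', hπ'dim⟩ := finrank_twist_fixed h e hdd hcopg hTsl
    (Nat.mul_pos hr.pos hp.pos) fun b => by
      have h1 : θ (s * l) * b * θ (s * l)⁻¹ =
          θ s * (⟨θ l * b * θ l⁻¹, conj_mem_twistAlg l b.2⟩ : B) * θ s⁻¹ := by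
        simp only [map_mul, mul_inv_rev, mul_assoc]
      rw [h1, Subalgebra.coe_mul, ← mul_assoc, hTs', mul_assoc (Ts : Module.End K W), hTl',
        ← mul_assoc]
  rw [map_mul] at hπ'dim
  have hle : Module.finrank K
      ↥(commutant S ⊓ commutant L : Submodule K (Module.End K (Fin d → K))) ≤
      Module.finrank K (commutant (S * L)) :=
    Submodule.finrank_mono fun X hX => mem_commutant_iff_commute.2
      ((mem_commutant_iff_commute.1 hX.1).mul_left (mem_commutant_iff_commute.1 hX.2))
  rw [hπ'dim] at hle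
  rw [Module.finrank_fintype_fun_eq_card, Fintype.card_fin] at hvar
  -- fixed classes
  have hfixcls : ∀ (k : Γ) (x : Q),
      (QuotientGroup.mk ((MulAut.conjNormal k : MulAut Q) x) = (QuotientGroup.mk x : Q ⧸ R.subgroupOf Q)) ↔
        ⁅k, (x : Γ)⁆ ∈ R := by
    intro k x
    rw [eq_comm, QuotientGroup.eq, mem_subgroupOf]
    simp only [Subgroup.coe_mul, Subgroup.coe_inv, MulAut.conjNormal_apply]
    constructor
    · intro h1
      have := (inferInstance : R.Normal).conj_mem _ h1 (x : Γ)
      simpa [commutatorElement_def, mul_assoc] using this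
    · intro h1
      have := (inferInstance : R.Normal).conj_mem _ h1 (x : Γ)⁻¹
      simpa [commutatorElement_def, mul_assoc] using this
  have hone : ∀ x : Q, (QuotientGroup.mk x : Q ⧸ R.subgroupOf Q) = 1 ↔ (x : Γ) ∈ R := fun x =>
    (QuotientGroup.eq_one_iff x).trans mem_subgroupOf
  -- powers of `s` moving classes
  have hsfree : ∀ (k : ℕ) (x : Q), ⁅s ^ k, (x : Γ)⁆ ∈ R → r ∣ k ∨ (x : Γ) ∈ R := by
    intro k x hk
    by_cases hrk : r ∣ k
    · exact Or.inl hrk
    refine Or.inr (hfree x x.2 ?_)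
    obtain ⟨j, -, hj⟩ :=
      Nat.exists_mul_mod_eq_one_of_coprime ((hr.coprime_iff_not_dvd).2 hrk).symm hr.one_lt
    have hsk : (s ^ k) ^ j = s := by rw [← pow_mul, pow_eq_pow_mod (k * j) hs, hj, pow_one]
    have h2 : ∀ n : ℕ, ⁅(s ^ k) ^ n, (x : Γ)⁆ ∈ R := by
      intro n
      induction n with
      | zero => rw [pow_zero, commutatorElement_one_left]; exact one_mem R
      | succ n ih =>
        rw [pow_succ', show ⁅s ^ k * (s ^ k) ^ n, (x : Γ)⁆ =
          s ^ k * ⁅(s ^ k) ^ n, (x : Γ)⁆ * (s ^ k)⁻¹ * ⁅s ^ k, (x : Γ)⁆ by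
          simp only [commutatorElement_def]; group]
        exact mul_mem ((inferInstance : R.Normal).conj_mem _ ih _) hk
    rw [← hsk]; exact h2 j
  have hlp : ∀ (k : ℕ) (x : Q), p ∣ k → ⁅l ^ k, (x : Γ)⁆ ∈ R := by
    rintro k x ⟨n, rfl⟩
    have h0 : Commute (l ^ p) (x : Γ) := mul_inv_eq_iff_eq_mul.1 (hlQ x x.2)
    rw [pow_mul, commutatorElement_eq_one_iff_mul_comm.2 (h0.pow_left n).eq]
    exact one_mem R
  have horbit : ∀ (τ : Equiv.Perm (Q ⧸ R.subgroupOf Q)) (x : Q ⧸ R.subgroupOf Q) (N : ℕ),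
      (∀ k, (τ ^ k) x = x ↔ N ∣ k) → Nat.card (MulAction.orbit (zpowers τ) x) = N := by
    intro τ x N hN
    have h1 : ∀ k, Function.minimalPeriod (τ • ·) x ∣ k ↔ N ∣ k := fun k => by
      rw [← hN k, ← MulAction.period_eq_minimalPeriod, ← MulAction.pow_smul_eq_iff_period_dvd]
      rfl
    rw [Nat.card_eq_fintype_card, ← MulAction.minimalPeriod_eq_card]
    exact Nat.dvd_antisymm ((h1 _).2 dvd_rfl) ((h1 _).1 dvd_rfl)
  -- orbits of `s`
  have hO : r * Nat.card (MulAction.orbitRel.Quotient (zpowers π) (Q ⧸ R.subgroupOf Q)) + 1 =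
      r + d * d := by
    have hsum' := sum_weight_eq (H := zpowers π)
      (fun x : Q ⧸ R.subgroupOf Q => if x = 1 then r else 1) r (fun x => ?_) fun k x => ?_
    · rw [Finset.sum_ite, Finset.sum_const, Finset.sum_const, Finset.filter_eq',
        if_pos (Finset.mem_univ _), Finset.card_singleton, one_smul, smul_eq_mul, mul_one,
        Finset.filter_ne', Finset.card_erase_of_mem (Finset.mem_univ _), Finset.card_univ] at hsum'
      have hcard : Fintype.card (Q ⧸ R.subgroupOf Q) = d * d := by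
        rw [← Nat.card_eq_fintype_card, ← hdd]; rfl
      rw [hcard] at hsum'
      have : 1 ≤ d * d := Nat.mul_pos hd0 hd0
      rw [mul_comm]
      omega
    · obtain ⟨x, rfl⟩ := QuotientGroup.mk_surjective x
      split_ifs with hx
      · rw [horbit π _ 1 fun k => by
          simp only [one_dvd, iff_true]
          rw [hπ, hfixcls, commutatorElement_def]
          have hxR : (x : Γ) ∈ R := (hone x).1 hx
          exact mul_mem ((inferInstance : R.Normal).conj_mem _ hxR _) (inv_mem hxR), mul_one]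
      · rw [horbit π _ r fun k => by
          rw [hπ, hfixcls]
          refine ⟨fun hk => (hsfree k x hk).resolve_right fun hxR => hx ((hone x).2 hxR), ?_⟩
          rintro ⟨n, rfl⟩
          rw [pow_mul, hs, one_pow, commutatorElement_one_left]
          exact one_mem R, one_mul]
    · obtain ⟨⟨k, hk⟩, rfl⟩ : ∃ k' : zpowers π, k' = k := ⟨k, rfl⟩
      obtain ⟨n, rfl⟩ := (mem_powers_iff_mem_zpowers (x := π)).2 hk
      show (if (π ^ n) x = 1 then r else 1) = if x = 1 then r else 1
      have h1 : (π ^ n) 1 = 1 := by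
        rw [show (1 : Q ⧸ R.subgroupOf Q) = QuotientGroup.mk (1 : Q) from rfl, hπ, map_one]
      by_cases hx : x = 1
      · subst hx
        rw [if_pos h1, if_pos rfl]
      · rw [if_neg fun h => hx ((π ^ n).injective (h.trans h1.symm)), if_neg hx]
  -- orbits of `s l`
  set c₁ := R.relIndex P with hc₁
  let fixedSet : Finset (Q ⧸ R.subgroupOf Q) :=
    Finset.univ.filter fun x => ∃ y : Q, QuotientGroup.mk y = x ∧ (y : Γ) ∈ P
  have hfixedSet : ∀ y : Q, QuotientGroup.mk y ∈ fixedSet ↔ ⁅l, (y : Γ)⁆ ∈ R := by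
    intro y
    refine ⟨fun hy => ?_, fun hy => Finset.mem_filter.2
      ⟨Finset.mem_univ _, y, rfl, (hP y).2 ⟨y.2, hy⟩⟩⟩
    obtain ⟨z, hz, hzP⟩ := (Finset.mem_filter.1 hy).2
    have hz' := (hfixcls l z).2 ((hP z).1 hzP).2
    rw [← hfixcls]
    have h1 := congrArg (QuotientGroup.map _ (R.subgroupOf Q)
      (MulAut.conjNormal l : MulAut Q).toMonoidHom (fun w hw => by
        show ((MulAut.conjNormal l w : Q) : Γ) ∈ R
        rw [MulAut.conjNormal_apply]
        exact (inferInstance : R.Normal).conj_mem _ hw _)) hz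
    exact h1.symm.trans (hz'.trans hz)
  have hPQ : P ≤ Q := fun u hu => ((hP u).1 hu).1
  have hfcard : fixedSet.card = c₁ := by
    let F : P ⧸ R.subgroupOf P → fixedSet := fun x => Quotient.liftOn' x
      (fun y : P => (⟨QuotientGroup.mk (⟨y, hPQ y.2⟩ : Q),
        Finset.mem_filter.2 ⟨Finset.mem_univ _, _, rfl, y.2⟩⟩ : fixedSet))
      fun y y' hyy => Subtype.ext (QuotientGroup.eq.2 (mem_subgroupOf.2
        (mem_subgroupOf.1 (QuotientGroup.leftRel_apply.1 hyy) :)))
    have hbij : Function.Bijective F := by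
      refine ⟨fun x x' hxx => ?_, fun ⟨z, hz⟩ => ?_⟩
      · obtain ⟨y, rfl⟩ := QuotientGroup.mk_surjective x
        obtain ⟨y', rfl⟩ := QuotientGroup.mk_surjective x'
        exact QuotientGroup.eq.2 (mem_subgroupOf.2
          (mem_subgroupOf.1 (QuotientGroup.eq.1 (congrArg Subtype.val hxx)) :))
      · obtain ⟨y, rfl, hy⟩ := (Finset.mem_filter.1 hz).2
        exact ⟨QuotientGroup.mk ⟨y, hy⟩, rfl⟩
    have h1 := Nat.card_congr (Equiv.ofBijective F hbij)
    rw [Nat.card_eq_fintype_card (α := fixedSet), Fintype.card_coe] at h1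
    rw [← h1, hc₁]
    rfl
  have hO' : r * p * Nat.card (MulAction.orbitRel.Quotient (zpowers π') (Q ⧸ R.subgroupOf Q)) +
      (p + c₁) = r * p + p * c₁ + d * d := by
    have hw : ∀ y : Q, ∀ k, ((π' ^ k) (QuotientGroup.mk y) = QuotientGroup.mk y) ↔
        (if (y : Γ) ∈ R then 1 else if ⁅l, (y : Γ)⁆ ∈ R then r else r * p) ∣ k := by
      intro y k
      rw [hπ', hfixcls, hcomm_sl.mul_pow]
      have hmulc : ∀ a b : Γ, ⁅a, (y : Γ)⁆ ∈ R → (⁅a * b, (y : Γ)⁆ ∈ R ↔ ⁅b, (y : Γ)⁆ ∈ R) := by
        intro a b ha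
        rw [show ⁅a * b, (y : Γ)⁆ = a * ⁅b, (y : Γ)⁆ * a⁻¹ * ⁅a, (y : Γ)⁆ by
          simp only [commutatorElement_def]; group, mul_mem_cancel_right ha]
        exact ⟨fun hb => by simpa [mul_assoc] using (inferInstance : R.Normal).conj_mem _ hb a⁻¹,
          fun hb => (inferInstance : R.Normal).conj_mem _ hb a⟩
      split_ifs with hy hyl
      · simp only [one_dvd, iff_true]
        rw [commutatorElement_def]
        exact mul_mem ((inferInstance : R.Normal).conj_mem _ hy _) (inv_mem hy)
      · have hlk : ⁅l ^ k, (y : Γ)⁆ ∈ R := by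
          induction k with
          | zero => rw [pow_zero, commutatorElement_one_left]; exact one_mem R
          | succ k ih => rw [pow_succ]; exact (hmulc _ _ ih).2 hyl
        rw [(hcomm_sl.pow_pow k k).eq, hmulc _ _ hlk]
        refine ⟨fun hk => (hsfree k y hk).resolve_right hy, ?_⟩
        rintro ⟨n, rfl⟩
        rw [pow_mul, hs, one_pow, commutatorElement_one_left]
        exact one_mem R
      · constructor
        · intro hk
          -- take the `p`th power to find `r ∣ k`
          have hkp : ⁅s ^ (k * p) * l ^ (k * p), (y : Γ)⁆ ∈ R := by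
            have h2 : ∀ n : ℕ, ⁅(s ^ k * l ^ k) ^ n, (y : Γ)⁆ ∈ R := by
              intro n
              induction n with
              | zero => rw [pow_zero, commutatorElement_one_left]; exact one_mem R
              | succ n ih => rw [pow_succ]; exact (hmulc _ _ ih).2 hk
            have h3 := h2 p
            rwa [(hcomm_sl.pow_pow k k).mul_pow, ← pow_mul, ← pow_mul] at h3
          rw [(hcomm_sl.pow_pow _ _).eq, hmulc _ _ (hlp _ y (dvd_mul_left p k))] at hkp
          have hrk : r ∣ k := by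
            rcases hsfree _ y hkp with h4 | h4
            · exact ((Nat.coprime_primes hr hp).2 hrp).dvd_of_dvd_mul_right h4
            · exact absurd h4 hy
          have hpk : p ∣ k := by
            by_contra hpk
            refine hyl ?_
            obtain ⟨n, rfl⟩ := hrk
            rw [pow_mul, hs, one_pow, one_mul] at hk
            obtain ⟨j, -, hj⟩ := Nat.exists_mul_mod_eq_one_of_coprime
              ((hp.coprime_iff_not_dvd).2 hpk).symm hp.one_lt
            have h5 : ∀ i : ℕ, ⁅(l ^ (r * n)) ^ i, (y : Γ)⁆ ∈ R := by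
              intro i
              induction i with
              | zero => rw [pow_zero, commutatorElement_one_left]; exact one_mem R
              | succ i ih => rw [pow_succ]; exact (hmulc _ _ ih).2 hk
            have h6 := h5 j
            rw [← pow_mul] at h6
            have e7 : r * n * j = p * (r * n * j / p) + 1 := by
              conv_lhs => rw [← Nat.div_add_mod (r * n * j) p, hj]
            rw [e7, pow_add, pow_one, hmulc _ _ (hlp _ y (dvd_mul_right p _))] at h6
            exact h6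
          exact ((Nat.coprime_primes hr hp).2 hrp).mul_dvd_of_dvd_of_dvd hrk hpk
        · rintro ⟨n, rfl⟩
          rw [show s ^ (r * p * n) = 1 by rw [mul_assoc, pow_mul, hs, one_pow], one_mul]
          exact hlp _ y ⟨r * n, by ring⟩
    have hsum' := sum_weight_eq (H := zpowers π')
      (fun x : Q ⧸ R.subgroupOf Q => if x = 1 then r * p else if x ∈ fixedSet then p else 1) (r * p)
      (fun x => ?_) fun k x => ?_
    · have h1mem : (1 : Q ⧸ R.subgroupOf Q) ∈ fixedSet := (hfixedSet 1).2 (by
        rw [OneMemClass.coe_one, commutatorElement_one_right]; exact one_mem R)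
      have hrest : ∑ x ∈ Finset.univ.erase (1 : Q ⧸ R.subgroupOf Q),
          (if x = 1 then r * p else if x ∈ fixedSet then p else 1) =
          (c₁ - 1) * p + (d * d - c₁) := by
        rw [Finset.sum_congr rfl fun x hx => if_neg (Finset.ne_of_mem_erase hx), Finset.sum_ite,
          Finset.sum_const, Finset.sum_const, smul_eq_mul, smul_eq_mul, mul_one]
        have e1 : (Finset.univ.erase (1 : Q ⧸ R.subgroupOf Q)).filter (· ∈ fixedSet) =
            fixedSet.erase 1 := by ext x; simp
        have e2 : (Finset.univ.erase (1 : Q ⧸ R.subgroupOf Q)).filter (· ∉ fixedSet) =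
            fixedSetᶜ := by
          ext x
          simp only [Finset.mem_filter, Finset.mem_erase, Finset.mem_univ, and_true,
            Finset.mem_compl]
          exact ⟨fun h => h.2, fun h => ⟨fun hx => h (hx ▸ h1mem), h⟩⟩
        rw [e1, e2, Finset.card_erase_of_mem h1mem, Finset.card_compl, hfcard,
          ← Nat.card_eq_fintype_card, show Nat.card (Q ⧸ R.subgroupOf Q) = d * d from hdd]
      rw [← Finset.add_sum_erase _ _ (Finset.mem_univ (1 : Q ⧸ R.subgroupOf Q)), if_pos rfl,
        hrest] at hsum'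
      have hc1d : c₁ ≤ d * d := by
        rw [← hfcard, show d * d = Nat.card (Q ⧸ R.subgroupOf Q) from hdd.symm,
          Nat.card_eq_fintype_card]
        exact Finset.card_le_univ _
      have hc11 : 1 ≤ c₁ := by rw [← hfcard]; exact Finset.card_pos.2 ⟨1, h1mem⟩
      obtain ⟨u, hu⟩ : ∃ u, c₁ = u + 1 := ⟨c₁ - 1, by omega⟩
      obtain ⟨v, hv⟩ : ∃ v, d * d = c₁ + v := ⟨d * d - c₁, by omega⟩
      rw [hv, Nat.add_sub_cancel_left, hu, Nat.add_sub_cancel] at hsum'
      rw [hv, hu, mul_comm (r * p), ← hsum']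
      ring
    · obtain ⟨y, rfl⟩ := QuotientGroup.mk_surjective x
      rw [horbit π' _ _ (hw y)]
      simp only [hone, hfixedSet]
      split_ifs <;> ring
    · obtain ⟨k, hk⟩ := k
      obtain ⟨n, rfl⟩ := (mem_powers_iff_mem_zpowers (x := π')).2 hk
      obtain ⟨y, rfl⟩ := QuotientGroup.mk_surjective x
      show (if (π' ^ n) _ = 1 then r * p else if (π' ^ n) _ ∈ fixedSet then p else 1) = _
      rw [hπ']
      set g := (s * l) ^ n
      have hgl : Commute g l := (hcomm_sl.mul_left (Commute.refl l)).pow_left n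
      have hconjR : ∀ z : Γ, g * z * g⁻¹ ∈ R ↔ z ∈ R := fun z =>
        ⟨fun hz => by simpa [mul_assoc] using (inferInstance : R.Normal).conj_mem _ hz g⁻¹,
          fun hz => (inferInstance : R.Normal).conj_mem _ hz g⟩
      have hcg : ⁅l, g * (y : Γ) * g⁻¹⁆ = g * ⁅l, (y : Γ)⁆ * g⁻¹ := by
        conv_lhs => rw [show l = g * l * g⁻¹ by rw [hgl.eq, mul_inv_cancel_right]]
        simp only [commutatorElement_def]; group
      simp only [hone, hfixedSet, MulAut.conjNormal_apply, hcg, hconjR]
  -- conclusion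
  have hq1 : Module.finrank K (commutant S) =
      Nat.card (MulAction.orbitRel.Quotient (zpowers π) (Q ⧸ R.subgroupOf Q)) := hπdim
  rw [hq1] at hineq hvar
  set O := Nat.card (MulAction.orbitRel.Quotient (zpowers π) (Q ⧸ R.subgroupOf Q))
  set O' := Nat.card (MulAction.orbitRel.Quotient (zpowers π') (Q ⧸ R.subgroupOf Q))
  refine ⟨d, m, hdd, hm0, ?_, ?_⟩
  · have hOz : (r : ℤ) * O = r + d * d - 1 := by
      have : ((r * O + 1 : ℕ) : ℤ) = ((r + d * d : ℕ) : ℤ) := by rw [hO]
      push_cast at this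
      linarith
    have hr0 : (1 : ℤ) ≤ r := by exact_mod_cast hr.pos
    have hlt : ((r * m : ℤ) - d) ^ 2 < (r : ℤ) ^ 2 := by
      have e1 : (r : ℤ) * r * O - r * (d : ℤ) ^ 2 = r * r - r := by
        linear_combination (r : ℤ) * hOz
      nlinarith [hvar, e1]
    have habs := abs_lt_of_sq_lt_sq hlt (by positivity)
    rw [abs_lt] at habs
    have : (d : ℤ) < r * m + r := by linarith [habs.1]
    exact_mod_cast this
  · have h1 : r * (O + (p - 1) * (m * m)) ≤ r * (p * O') :=
      Nat.mul_le_mul_left r (hineq.trans (Nat.mul_le_mul_left p hle))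
    obtain ⟨q, hq⟩ : ∃ q, p = q + 1 := ⟨p - 1, by have := hp.pos; omega⟩
    have hq0 : 1 ≤ q := by have := hp.two_le; omega
    subst hq
    rw [Nat.add_sub_cancel] at h1
    have h2 : q * (r * (m * m) + 1) ≤ q * (r + c₁) := by nlinarith [h1, hO, hO']
    exact Nat.le_of_mul_le_mul_left h2 (by omega)

end CfsgLib.Solvable.TurullHeight
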