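import Cfsg.Agent.Lib.Solvable.TurullHeight.Symp
import Cfsg.Agent.Lib.Solvable.TurullHeight.Form
import Cfsg.Agent.Lib.Solvable.TurullHeight.Fixed
import Cfsg.Agent.Lib.Solvable.TurullHeight.Extend
import Cfsg.Agent.Lib.Solvable.TurullHeight.Twist
import Cfsg.Agent.Lib.Solvable.FPFOperators.S3Linear
import Cfsg.Agent.Lib.Solvable.FPFOperators.Twisted
import Mathlib.FieldTheory.Finite.Basic
import Mathlib.Algebra.Module.ZMod

/-!
# Forms in characteristic two with a small moved part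

An isometry `s` of prime order `r = 2 ^ a + 1` moving at most `2 ^ (2 * a)` vectors.
-/

set_option autoImplicit false

namespace CfsgLib.Solvable.TurullHeight

open Subgroup CfsgLib CfsgLib.Solvable.FPFOperators
open scoped commutatorElement

universe u w

/-- A subgroup of exponent two has order a power of two. -/
theorem exists_card_eq_two_pow {M : Type*} [AddCommGroup M] [Finite M] (h2 : ∀ v : M, 2 • v = 0)
    (U : AddSubgroup M) : ∃ n, Nat.card U = 2 ^ n := by
  obtain ⟨mod⟩ : Nonempty (Module (ZMod 2) U) :=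
    ⟨AddCommGroup.zmodModule fun v => Subtype.ext (by
      rw [AddSubmonoidClass.coe_nsmul, h2]; rfl)⟩
  haveI := Fact.mk Nat.prime_two
  haveI : Module.Finite (ZMod 2) U := Module.Finite.of_finite
  exact ⟨Module.finrank (ZMod 2) U, by
    rw [Module.natCard_eq_pow_finrank (K := ZMod 2), Nat.card_zmod]⟩

/-- The order of `2` modulo `2 ^ a + 1` is at least `2 * a`. -/
theorem two_mul_le_of_modEq {a j : ℕ} (ha : 1 ≤ a) (hj : 1 ≤ j)
    (h : 2 ^ j ≡ 1 [MOD 2 ^ a + 1]) : 2 * a ≤ j := by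
  have hd : 2 ^ a + 1 ∣ 2 ^ j - 1 := (Nat.modEq_iff_dvd' (Nat.one_le_two_pow)).1 h.symm
  have h2a : 2 ≤ 2 ^ a := by
    calc 2 = 2 ^ 1 := rfl
      _ ≤ 2 ^ a := Nat.pow_le_pow_right two_pos ha
  by_contra hlt
  rcases le_or_gt j a with hja | hja
  · have h1 : 2 ^ j ≤ 2 ^ a := Nat.pow_le_pow_right two_pos hja
    have h2 : 2 ≤ 2 ^ j := by
      calc 2 = 2 ^ 1 := rfl
        _ ≤ 2 ^ j := Nat.pow_le_pow_right two_pos hj
    have := Nat.le_of_dvd (by omega) hd
    omega
  · obtain ⟨i, rfl⟩ : ∃ i, j = a + i := ⟨j - a, by omega⟩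
    have hi : i < a := by omega
    have h1 : 2 ^ i + 2 ^ i ≤ 2 ^ a := by
      calc 2 ^ i + 2 ^ i = 2 ^ (i + 1) := by rw [pow_succ]; omega
        _ ≤ 2 ^ a := Nat.pow_le_pow_right two_pos (by omega)
    have h3 : 1 ≤ 2 ^ i := Nat.one_le_two_pow
    have e : 2 ^ (a + i) - 1 + (2 ^ i + 1) = (2 ^ a + 1) * 2 ^ i := by
      rw [add_mul, one_mul, ← pow_add]
      have : 1 ≤ 2 ^ (a + i) := Nat.one_le_two_pow
      omega
    have h4 : 2 ^ a + 1 ∣ 2 ^ i + 1 := (Nat.dvd_add_right hd).1 (e ▸ Dvd.intro _ rfl)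
    have := Nat.le_of_dvd (by omega) h4
    omega

section Moved

variable {Γ M T : Type*} [Group Γ] [Finite Γ] [AddCommGroup M] [Finite M] [DistribMulAction Γ M]
  [AddCommGroup T]

/-- An operator of odd order acts coprimely on a module of exponent two. -/
theorem coprime_card_of_two {H : Subgroup Γ} (hH : ¬ 2 ∣ Nat.card H) (h2 : ∀ v : M, 2 • v = 0) :
    (Nat.card H).Coprime (Nat.card M) := by
  obtain ⟨n, hn⟩ := exists_card_eq_two_pow h2 ⊤
  rw [AddSubgroup.card_top] at hn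
  rw [hn]
  exact ((Nat.prime_two.coprime_iff_not_dvd.2 hH).symm).pow_right n

/-- The data of a small moved part in characteristic two. -/
structure SmallMoved (s : Γ) (r a : ℕ) (B : M →+ M →+ T) : Prop where
  prime : r.Prime
  one_le : 1 ≤ a
  eq : r = 2 ^ a + 1
  pow : s ^ r = 1
  two : ∀ v : M, 2 • v = 0
  refl : ∀ u v, B u v = 0 → B v u = 0
  iso : ∀ u v, B (s • u) (s • v) = B u v
  nondeg : ∀ u, (∀ v, B u v = 0) → u = 0
  le : Nat.card (movedSub M (zpowers s)) ≤ 2 ^ (2 * a)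

namespace SmallMoved

variable {s : Γ} {r a : ℕ} {B : M →+ M →+ T}

theorem coprime (h : SmallMoved s r a B) : (Nat.card (zpowers s)).Coprime (Nat.card M) := by
  refine coprime_card_of_two (fun h0 => ?_) h.two
  rw [Nat.card_zpowers] at h0
  have h1 : 2 ∣ r := h0.trans (orderOf_dvd_of_pow_eq_one h.pow)
  rw [h.eq] at h1
  have h2 : 2 ∣ 2 ^ a := dvd_pow_self 2 (by have := h.one_le; omega)
  have := (Nat.dvd_add_right h2).1 h1
  omega

/-- An invariant part of the moved vectors is trivial or of full size. -/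
theorem card_ge (h : SmallMoved s r a B) {U : AddSubgroup M} (hU : IsInv (zpowers s) U)
    (hle : U ≤ movedSub M (zpowers s)) (h0 : U ≠ ⊥) : 2 ^ (2 * a) ≤ Nat.card U := by
  obtain ⟨j, hj⟩ := exists_card_eq_two_pow h.two U
  have hj1 : 1 ≤ j := by
    by_contra hj1
    refine h0 (AddSubgroup.eq_bot_of_card_eq U ?_)
    rw [hj, show j = 0 by omega, pow_zero]
  have h1 := card_modEq_one h.prime h.pow hU fun v hv hsv =>
    fixedSub_inf_movedSub h.coprime (mem_fixedSub_zpowers.2 hsv) (hle hv)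
  rw [hj, h.eq] at h1
  rw [hj]
  exact Nat.pow_le_pow_right two_pos (two_mul_le_of_modEq h.one_le hj1 h1)

/-- The moved vectors form an irreducible part. -/
theorem eq_moved (h : SmallMoved s r a B) {U : AddSubgroup M} (hU : IsInv (zpowers s) U)
    (hle : U ≤ movedSub M (zpowers s)) (h0 : U ≠ ⊥) : U = movedSub M (zpowers s) :=
  AddSubgroup.eq_of_le_of_card_ge hle (h.le.trans (h.card_ge hU hle h0))

/-- The moved vectors form a nondegenerate part. -/
theorem nondeg_moved (h : SmallMoved s r a B) {v : M} (hv : v ∈ movedSub M (zpowers s))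
    (hB : ∀ w ∈ movedSub M (zpowers s), B v w = 0) : v = 0 := by
  refine h.nondeg v (hom_eq_of_fixed_of_moved h.coprime (fun f hf => h.refl _ _ ?_)
    fun g hg w => hB _ (sub_mem_movedSub hg w))
  have hle : movedSub M (zpowers s) ≤ (B f).ker := (AddSubgroup.closure_le _).2 (by
    rintro _ ⟨g, hg, w, rfl⟩
    show B f (g • w - w) = 0
    rw [map_sub, sub_eq_zero]
    obtain ⟨i, rfl⟩ := (mem_powers_iff_mem_zpowers (x := s)).2 hg
    show B f (s ^ i • w) = B f w
    clear hg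
    induction i generalizing w with
    | zero => rw [pow_zero, one_smul]
    | succ i ih =>
      rw [pow_succ, mul_smul, ih]
      conv_lhs => rw [← mem_fixedSub_zpowers.1 hf]
      exact h.iso f w)
  exact hle hv

/-- An isometry commuting with `s` has order dividing `r` on the moved vectors. -/
theorem pow_smul_moved (h : SmallMoved s r a B) {x : Γ} (hx : x * s = s * x)
    (hxB : ∀ u v, B (x • u) (x • v) = B u v) {v : M} (hv : v ∈ movedSub M (zpowers s)) :
    x ^ r • v = v := by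
  by_cases hbot : movedSub M (zpowers s) = ⊥
  · rw [hbot, AddSubgroup.mem_bot] at hv
    rw [hv, smul_zero]
  set U := movedSub M (zpowers s) with hU
  have hnorm : ∀ g : Γ, g * s = s * g → g ∈ normalizer (zpowers s : Set Γ) := fun g hg =>
    centralizer_le_normalizer _ (mem_centralizer_iff.2 fun y hy => by
      obtain ⟨i, rfl⟩ := (mem_powers_iff_mem_zpowers (x := s)).2 hy
      exact ((show Commute g s from hg).pow_right i).symm.eq)
  have hinv : ∀ g : Γ, g * s = s * g → ∀ w ∈ U, g • w ∈ U := fun g hg w hw =>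
    isInv_movedSub (V := M) (Q := zpowers s) (zpowers_le.2 (hnorm g hg)) g (mem_zpowers g) w hw
  let gE : AddMonoid.End U := AddMonoidHom.codRestrict
    ((DistribSMul.toAddMonoidHom M s).comp U.subtype) U fun u => hinv s rfl _ u.2
  let xE : AddMonoid.End U := AddMonoidHom.codRestrict
    ((DistribSMul.toAddMonoidHom M x).comp U.subtype) U fun u => hinv x hx _ u.2
  have hgE : ∀ (k : ℕ) (u : U), (((gE ^ k) u : U) : M) = s ^ k • (u : M) := by
    intro k
    induction k with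
    | zero => intro u; rw [pow_zero, pow_zero, one_smul]; rfl
    | succ k ih => intro u; rw [pow_succ, pow_succ, mul_smul]; exact ih (gE u)
  have hxE : ∀ (k : ℕ) (u : U), (((xE ^ k) u : U) : M) = x ^ k • (u : M) := by
    intro k
    induction k with
    | zero => intro u; rw [pow_zero, pow_zero, one_smul]; rfl
    | succ k ih => intro u; rw [pow_succ, pow_succ, mul_smul]; exact ih (xE u)
  let B₀ : U →+ U →+ T := AddMonoidHom.mk' (fun u => (B (u : M)).comp U.subtype) fun u u' =>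
    AddMonoidHom.ext fun w => DFunLike.congr_fun (map_add B (u : M) u') (w : M)
  have hN : gE ^ (2 ^ a + 1) = 1 := AddMonoidHom.ext fun u => Subtype.ext ((hgE _ u).trans (by
    rw [← h.eq, h.pow, one_smul]; rfl))
  have hirr : ∀ W : AddSubgroup U, (∀ u ∈ W, gE u ∈ W) → W = ⊥ ∨ W = ⊤ := by
    intro W hW
    refine or_iff_not_imp_left.2 fun h0 => AddSubgroup.map_injective U.subtype_injective ?_
    rw [← AddMonoidHom.range_eq_map, U.range_subtype]
    refine h.eq_moved (fun g hg w hw => ?_) (by rintro _ ⟨w, -, rfl⟩; exact w.2)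
      fun hb => h0 ((AddSubgroup.map_eq_bot_iff_of_injective _ U.subtype_injective).1 hb)
    obtain ⟨i, rfl⟩ := (mem_powers_iff_mem_zpowers (x := s)).2 hg
    obtain ⟨w, hw, rfl⟩ := hw
    refine ⟨(gE ^ i) w, ?_, hgE i w⟩
    clear hg
    induction i generalizing w with
    | zero => exact hw
    | succ i ih => rw [pow_succ]; exact ih (gE w) (hW w hw)
  have hpow := pow_eq_one_of_isometry (g := gE) B₀
    (fun u hu => Subtype.ext (h.nondeg_moved u.2 fun w hw => h.refl _ _ (hu ⟨w, hw⟩)))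
    (fun u => Subtype.ext (by rw [AddSubmonoidClass.coe_nsmul, h.two]; rfl)) hN
    (fun u w => h.iso _ _) hirr (x := xE)
    (AddMonoidHom.ext fun u => Subtype.ext (show s • x • (u : M) = x • s • (u : M) by
      rw [← mul_smul, ← mul_smul, hx]))
    fun u w => hxB _ _
  have h1 := congrArg Subtype.val (DFunLike.congr_fun hpow ⟨v, hv⟩)
  rw [h.eq]
  exact (hxE _ _).symm.trans h1

end SmallMoved

end Moved

/-- A module carrying the form induced by an invariant alternating pairing. -/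
structure FormModule {Γ : Type u} [Group Γ] (R : Subgroup Γ) {T : Type w} [AddCommGroup T]
    (β : R → R → T) (M : Type u) [AddCommGroup M] [DistribMulAction Γ M] (cl : R → M)
    (B : M →+ M →+ T) : Prop where
  finite : Finite M
  surj : Function.Surjective cl
  map_mul : ∀ a b : R, cl (a * b) = cl a + cl b
  eq_zero : ∀ a : R, cl a = 0 ↔ ∀ b, β a b = 0
  map_conj : ∀ (g : Γ) (a : R) (h : g * a * g⁻¹ ∈ R), cl ⟨g * a * g⁻¹, h⟩ = g • cl a
  form : ∀ a b : R, B (cl a) (cl b) = β a b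
  nondeg : ∀ m, (∀ m', B m m' = 0) → m = 0
  refl : ∀ m m', B m m' = 0 → B m' m = 0
  alt : ∀ m, B m m = 0
  isometry : ∀ (g : Γ) (m m' : M), B (g • m) (g • m') = B m m'

/-- An invariant alternating pairing of a normal subgroup gives a module with form. -/
theorem exists_formModule {Γ : Type u} [Group Γ] [Finite Γ] {R : Subgroup Γ} [hRn : R.Normal]
    {T : Type w} [AddCommGroup T] (β : R → R → T)
    (hl : ∀ a b c : R, β (a * b) c = β a c + β b c)
    (hr : ∀ a b c : R, β a (b * c) = β a b + β a c) (ha : ∀ a, β a a = 0)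
    (hinv : ∀ (g : Γ) (a b : R),
      β ((MulAut.conjNormal g : MulAut R) a) ((MulAut.conjNormal g : MulAut R) b) = β a b) :
    ∃ (M : Type u) (_ : AddCommGroup M) (_ : DistribMulAction Γ M) (cl : R → M)
      (B : M →+ M →+ T), FormModule R β M cl B := by
  classical
  have hskew : ∀ a b, β a b + β b a = 0 := fun a b => by
    have h1 := ha (a * b)
    rw [hl, hr, hr, ha, ha, zero_add, add_zero] at h1
    exact h1
  let f : R → (Additive R →+ T) := fun a =>
    AddMonoidHom.mk' (fun b => β a b.toMul) fun b c => hr a b.toMul c.toMul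
  let F : Additive R →+ (Additive R →+ T) :=
    AddMonoidHom.mk' (fun a => f a.toMul) fun a b =>
      AddMonoidHom.ext fun c => hl a.toMul b.toMul c.toMul
  let N : Subgroup R := AddSubgroup.toSubgroup' F.ker
  have hmemN : ∀ a : R, a ∈ N ↔ ∀ b, β a b = 0 := fun a =>
    ⟨fun h b => DFunLike.congr_fun (show F (Additive.ofMul a) = 0 from h) (Additive.ofMul b),
      fun h => show F (Additive.ofMul a) = 0 from AddMonoidHom.ext fun b => h b.toMul⟩
  haveI : N.Normal := ⟨fun n hn g => (hmemN _).2 fun b => by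
    rw [hl, hl, (hmemN n).1 hn, add_zero, ← hl, mul_inv_cancel]
    have h1 := hl 1 1 b
    rw [one_mul] at h1
    exact left_eq_add.1 h1⟩
  have hab : ∀ x y : R ⧸ N, x * y = y * x := by
    intro x y
    obtain ⟨a, rfl⟩ := QuotientGroup.mk_surjective x
    obtain ⟨b, rfl⟩ := QuotientGroup.mk_surjective y
    refine QuotientGroup.eq.2 ((hmemN _).2 fun c => ?_)
    show F (Additive.ofMul ((a * b)⁻¹ * (b * a))) (Additive.ofMul c) = 0
    rw [ofMul_mul, ofMul_inv, ofMul_mul, ofMul_mul]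
    rw [map_add, map_neg, map_add, map_add, add_comm (F (Additive.ofMul b)), neg_add_cancel]
    rfl
  letI : CommGroup (R ⧸ N) := { (inferInstance : Group (R ⧸ N)) with mul_comm := hab }
  have hmem : ∀ g : Γ, N ≤ N.comap (MulAut.conjNormal g : MulAut R).toMonoidHom := fun g x hx => by
    refine (hmemN _).2 fun b => ?_
    rw [← (MulAut.conjNormal g : MulAut R).apply_symm_apply b]
    exact (hinv g x _).trans ((hmemN x).1 hx _)
  let φ : Γ → (R ⧸ N →* R ⧸ N) := fun g =>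
    QuotientGroup.map N N (MulAut.conjNormal g : MulAut R).toMonoidHom (hmem g)
  have hφ : ∀ (g : Γ) (a : R), φ g (QuotientGroup.mk a) =
      QuotientGroup.mk ((MulAut.conjNormal g : MulAut R) a) := fun g a => rfl
  have hφ1 : ∀ x, φ 1 x = x := fun x => by
    obtain ⟨a, rfl⟩ := QuotientGroup.mk_surjective x
    rw [hφ, map_one, MulAut.one_apply]
  have hφm : ∀ g k x, φ (g * k) x = φ g (φ k x) := fun g k x => by
    obtain ⟨a, rfl⟩ := QuotientGroup.mk_surjective x
    rw [hφ, hφ, hφ, map_mul, MulAut.mul_apply]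
  let act : DistribMulAction Γ (Additive (R ⧸ N)) :=
    { smul := fun g m => Additive.ofMul (φ g m.toMul)
      one_smul := fun m => congrArg Additive.ofMul (hφ1 m.toMul)
      mul_smul := fun g k m => congrArg Additive.ofMul (hφm g k m.toMul)
      smul_zero := fun g => congrArg Additive.ofMul (map_one (φ g))
      smul_add := fun g a b => congrArg Additive.ofMul (map_mul (φ g) a.toMul b.toMul) }
  let f₁ : R →* (R ⧸ N →* Multiplicative T) :=
    { toFun := fun a => QuotientGroup.lift N (AddMonoidHom.toMultiplicativeRight (f a)) fun z hz => by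
        refine MonoidHom.mem_ker.2 (congrArg Multiplicative.ofAdd ?_)
        show β a z = 0
        have h1 := hskew a z
        rwa [(hmemN z).1 hz, add_zero] at h1
      map_one' := by
        refine MonoidHom.ext fun x => ?_
        obtain ⟨b, rfl⟩ := QuotientGroup.mk_surjective x
        refine congrArg Multiplicative.ofAdd ?_
        show β 1 b = 0
        have h1 := hl 1 1 b
        rw [one_mul] at h1
        exact left_eq_add.1 h1
      map_mul' := fun a b => by
        refine MonoidHom.ext fun x => ?_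
        obtain ⟨c, rfl⟩ := QuotientGroup.mk_surjective x
        exact congrArg Multiplicative.ofAdd (hl a b c) }
  let f₂ : R ⧸ N →* (R ⧸ N →* Multiplicative T) := QuotientGroup.lift N f₁ fun z hz => by
    refine MonoidHom.mem_ker.2 (MonoidHom.ext fun x => ?_)
    obtain ⟨c, rfl⟩ := QuotientGroup.mk_surjective x
    exact congrArg Multiplicative.ofAdd ((hmemN z).1 hz c)
  let B : Additive (R ⧸ N) →+ Additive (R ⧸ N) →+ T :=
    AddMonoidHom.mk' (fun m => MonoidHom.toAdditiveLeft (f₂ m.toMul)) fun a b => AddMonoidHom.ext fun x =>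
      congrArg Multiplicative.toAdd (DFunLike.congr_fun (map_mul f₂ a.toMul b.toMul) x.toMul)
  let cl : R → Additive (R ⧸ N) := fun a => Additive.ofMul (QuotientGroup.mk a)
  have hform : ∀ a b : R, B (cl a) (cl b) = β a b := fun a b => rfl
  have hsurj : Function.Surjective cl := fun m =>
    (QuotientGroup.mk_surjective m.toMul).imp fun a ha => congrArg Additive.ofMul ha
  have hzero : ∀ a : R, cl a = 0 ↔ ∀ b, β a b = 0 := fun a =>
    ofMul_eq_zero.trans ((QuotientGroup.eq_one_iff a).trans (hmemN a))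
  refine ⟨Additive (R ⧸ N), inferInstance, act, cl, B,
    ⟨inferInstanceAs (Finite (R ⧸ N)), hsurj, fun a b => rfl, hzero, fun g a h => ?_, hform,
      fun m hm => ?_, fun m m' h => ?_, fun m => ?_, fun g m m' => ?_⟩⟩
  · show Additive.ofMul _ = Additive.ofMul _
    congr 1
  · obtain ⟨a, rfl⟩ := hsurj m
    exact (hzero a).2 fun b => (hform a b).symm.trans (hm (cl b))
  · obtain ⟨a, rfl⟩ := hsurj m
    obtain ⟨b, rfl⟩ := hsurj m'
    rw [hform] at h ⊢
    have h1 := hskew a b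
    rwa [h, zero_add] at h1
  · obtain ⟨a, rfl⟩ := hsurj m
    exact (hform a a).trans (ha a)
  · obtain ⟨a, rfl⟩ := hsurj m
    obtain ⟨b, rfl⟩ := hsurj m'
    exact hinv g a b

/-- An operator without fixed vectors forces the shape of a binary extraspecial action. -/
theorem exceptional_core {Γ : Type u} [Group Γ] [Finite Γ] {N : Type w} [AddCommGroup N] [Finite N]
    [DistribMulAction Γ N] [Nontrivial N] {S : Subgroup Γ} [hSn : S.Normal] {s : Γ} {r : ℕ}
    (h : Setup S s r N) {q : ℕ} (hq : q.Prime) (hexp : ∀ v : N, q • v = 0) {p : ℕ} [Fact p.Prime]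
    (hp : IsPGroup p S) (hmove : ∃ x ∈ S, x * s ≠ s * x) (h0 : ∀ v : N, s • v = v → v = 0) :
    p = 2 ∧ ∃ a, 1 ≤ a ∧ r = 2 ^ a + 1 ∧ (∀ z ∈ cenIn S, z * s = s * z) ∧
      ∃ (K : Type) (_ : Field K) (χ : cenIn S →* Kˣ) (M : Type u) (_ : AddCommGroup M)
        (_ : DistribMulAction Γ M) (cl : S → M) (B : M →+ M →+ Additive Kˣ),
        SympModule S χ M cl B ∧ Function.Injective χ ∧
          Nat.card (movedSub M (zpowers s)) ≤ 2 ^ (2 * a) := by
  classical
  haveI := Fact.mk hq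
  have hr := h.prime
  have horb : ∀ v : N, ∑ i ∈ Finset.range r, s ^ i • v = 0 := fun v =>
    h0 _ (smul_orbit_sum h.pow v)
  obtain ⟨v₀, hv₀⟩ := exists_ne (0 : N)
  -- `s` centralises the centre
  have hZs : ∀ z ∈ cenIn S, z * s = s * z := by
    refine h.centre_cases.resolve_right ?_
    rintro ⟨A, hAn, hAle, hfpf, hA0⟩
    haveI : Fintype A := Fintype.ofFinite A
    have hconj : ∀ (i : ℕ) (a : A), (a : Γ) * (s ^ i * (a : Γ)⁻¹ * (s ^ i)⁻¹) ∈ A := fun i a =>
      mul_mem a.2 (hAn.conj_mem _ (inv_mem a.2) _)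
    have hbij : ∀ i, ¬ r ∣ i → Function.Bijective fun a : A => (⟨_, hconj i a⟩ : A) := by
      intro i hi
      refine Finite.injective_iff_bijective.1 fun a b hab => ?_
      have h1 : (a : Γ) * (s ^ i * (a : Γ)⁻¹ * (s ^ i)⁻¹) = b * (s ^ i * (b : Γ)⁻¹ * (s ^ i)⁻¹) :=
        congrArg Subtype.val hab
      have h2 : Commute (s ^ i) ((b : Γ)⁻¹ * a) := by
        show s ^ i * ((b : Γ)⁻¹ * a) = (b : Γ)⁻¹ * a * s ^ i
        calc s ^ i * ((b : Γ)⁻¹ * a)
            = (b : Γ)⁻¹ * (b * (s ^ i * (b : Γ)⁻¹ * (s ^ i)⁻¹)) * s ^ i * a := by group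
          _ = (b : Γ)⁻¹ * a * s ^ i := by rw [← h1]; group
      obtain ⟨j, hj⟩ := exists_pow_eq_self hr h.pow hi
      have h3 := hfpf _ (mul_mem (inv_mem b.2) a.2) (by
        have h4 := (h2.pow_left j).eq
        rwa [hj] at h4)
      exact Subtype.ext (inv_mul_eq_one.1 h3).symm
    have hcalc : ∑ a : A, ∑ i ∈ Finset.range r, (a : Γ) • s ^ i • (a : Γ)⁻¹ • v₀ =
        Fintype.card A • v₀ := by
      rw [Finset.sum_comm, Finset.sum_eq_single 0]
      · simp only [pow_zero, one_smul, smul_inv_smul, Finset.sum_const, Finset.card_univ]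
      · intro i hi hi0
        have hnd : ¬ r ∣ i := fun hd => hi0 (Nat.eq_zero_of_dvd_of_lt hd (Finset.mem_range.1 hi))
        rw [← sum_smul_eq_zero hA0 (s ^ i • v₀)]
        refine Fintype.sum_equiv (Equiv.ofBijective _ (hbij i hnd)) _ _ fun a => ?_
        show _ = ((a : Γ) * (s ^ i * (a : Γ)⁻¹ * (s ^ i)⁻¹)) • s ^ i • v₀
        simp only [← mul_smul]
        congr 1; group
      · intro hi
        exact absurd (Finset.mem_range.2 hr.pos) hi
    refine hv₀ (eq_zero_of_nsmul (h.copA hAle) ?_)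
    rw [Nat.card_eq_fintype_card, ← hcalc]
    refine Finset.sum_eq_zero fun a _ => ?_
    rw [← Finset.smul_sum, horb, smul_zero]
  set K := AlgebraicClosure (ZMod q)
  obtain ⟨d, Φ, hΦ, hcardV, -⟩ := exists_extendEnd (V := N) K hexp
  have hd0 : d ≠ 0 := fun h1 => by
    have h2 : 1 < Nat.card N := Finite.one_lt_card
    rw [hcardV, h1, pow_zero] at h2
    omega
  have hqV : q ∣ Nat.card N := hcardV ▸ dvd_pow_self q hd0
  have hcastK : ∀ n : ℕ, n.Coprime (Nat.card N) → (n : K) ≠ 0 := fun n hn h1 =>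
    hq.ne_one (Nat.eq_one_of_dvd_coprimes hn ((CharP.cast_eq_zero_iff K q n).1 h1) hqV)
  have hrK : (r : K) ≠ 0 := hcastK r h.coprV
  let ρ : Γ →* Module.End K (Fin d → K) :=
    Φ.toMonoidHom.comp (DistribMulAction.toAddMonoidEnd Γ N)
  have hρ : ∀ g, ρ g = Φ (DistribMulAction.toAddMonoidEnd Γ N g) := fun g => rfl
  have hρinj : ∀ g g', ρ g = ρ g' → g = g' := fun g g' hgg => by
    refine inv_mul_eq_one.1 (h.faithful (g'⁻¹ * g) fun v => ?_) |>.symm
    rw [mul_smul, show g • v = g' • v from DFunLike.congr_fun (hΦ hgg) v, inv_smul_smul]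
  have hsum : ∑ i ∈ Finset.range r, ρ (s ^ i) = 0 := by
    simp only [hρ, ← map_sum]
    rw [show (∑ i ∈ Finset.range r, DistribMulAction.toAddMonoidEnd Γ N (s ^ i)) = 0 from
      AddMonoidHom.ext fun v => (AddMonoidHom.finsetSum_apply _ _ v).trans (horb v), map_zero]
  obtain ⟨x₀, hx₀, hx₀s⟩ := hmove
  have hSne : Nontrivial S := ⟨⟨x₀, hx₀⟩, 1, fun h1 => hx₀s (by
    rw [show x₀ = 1 from congrArg Subtype.val h1, one_mul, mul_one])⟩
  obtain ⟨kS, hkS⟩ := hp.exists_card_eq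
  have hkS0 : kS ≠ 0 := fun h1 => by
    have h2 : 1 < Nat.card S := Finite.one_lt_card
    rw [hkS, h1, pow_zero] at h2
    omega
  have hpS : p ∣ Nat.card S := hkS ▸ dvd_pow_self p hkS0
  have hpr : p ≠ r := fun h1 =>
    hr.ne_one (Nat.eq_one_of_dvd_coprimes h.copS (h1 ▸ hpS) dvd_rfl)
  obtain ⟨m, hm1, hm⟩ : ∃ m, 1 ≤ m ∧ r - 1 = p ^ m := by
    by_contra hno
    push Not at hno
    exact hx₀s (hρinj _ _ (prime_fpf_commute S ρ hr hpr hno hp
      (hcastK p (h.copV.coprime_dvd_left hpS)) hrK h.pow hsum hx₀)).symm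
  have hp2 : p = 2 := by
    rcases hr.eq_two_or_odd with h1 | h1
    · rw [h1] at hm
      have := Nat.one_lt_pow (by omega : m ≠ 0) (Fact.out : p.Prime).one_lt
      omega
    · exact ((Nat.prime_dvd_prime_iff_eq Nat.prime_two Fact.out).1
        (Nat.prime_two.dvd_of_dvd_pow (n := m) (by rw [← hm]; omega))).symm
  subst hp2
  have hra : r = 2 ^ m + 1 := by have := hr.two_le; omega
  refine ⟨rfl, m, hm1, hra, hZs, K, inferInstance, ?_⟩
  set Z := cenIn S with hZ
  haveI : Fintype Z := Fintype.ofFinite Z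
  have hgenZ : ∀ g : Γ, ∀ z ∈ Z, g * z = z * g := fun g z hz =>
    h.central_commute hz (hZs z hz) g
  have hZV : (Nat.card Z).Coprime (Nat.card N) := h.copA le_rfl
  have hZK : (Fintype.card Z : K) ≠ 0 := by
    rw [← Nat.card_eq_fintype_card]; exact hcastK _ hZV
  have hZc : IsMulCommutative Z := isMulCommutative_iff.2 fun a b => Subtype.ext (hgenZ a b b.2)
  haveI := (card_dual (K := K) hZc hZK).1
  haveI : Fintype (Z →* Kˣ) := Fintype.ofFinite _
  obtain ⟨χ, hχ⟩ : ∃ χ : Z →* Kˣ, weightIdem Z ρ χ ≠ 0 := by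
    by_contra hno
    push Not at hno
    haveI : Nonempty (Fin d) := ⟨⟨0, Nat.pos_of_ne_zero hd0⟩⟩
    have h1 := sum_weightIdem (K := K) ρ hZc hZK
    rw [Finset.sum_eq_zero fun χ _ => hno χ] at h1
    exact zero_ne_one h1
  set e := weightIdem Z ρ χ with he
  have hcommute : ∀ g, Commute (ρ g) e := fun g => by
    show ρ g * e = e * ρ g
    rw [he, map_mul_weightIdem_smul,
      dual_smul_eq_self_of_commute χ fun z hz => hgenZ g z hz]
  have hinj : Function.Injective χ := by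
    rw [injective_iff_map_eq_one]
    intro z hz
    by_contra hz1
    haveI : (zpowers (z : Γ)).Normal := by
      refine ⟨fun y hy g => ?_⟩
      rwa [hgenZ g y ((zpowers_le.2 z.2) hy), mul_inv_cancel_right]
    haveI : Fintype (zpowers (z : Γ)) := Fintype.ofFinite _
    have hz0 := h.fixedSub_eq_bot (Q := zpowers (z : Γ)) fun hb => hz1 (Subtype.ext (by
      have h1 := mem_zpowers (z : Γ)
      rwa [hb, mem_bot] at h1))
    have hsumz : ∑ a : zpowers (z : Γ), ρ (a : Γ) = 0 := by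
      simp only [hρ, ← map_sum]
      rw [show (∑ a : zpowers (z : Γ), DistribMulAction.toAddMonoidEnd Γ N (a : Γ)) = 0 from
        AddMonoidHom.ext fun v =>
          (AddMonoidHom.finsetSum_apply _ _ v).trans (sum_smul_eq_zero hz0 v), map_zero]
    have hze : ρ (z : Γ) * e = e := by
      rw [he, map_mem_mul_weightIdem, hz, Units.val_one, one_smul]
    have hz' : ∀ k : ℕ, ρ ((z : Γ) ^ k) * e = e := by
      intro k
      induction k with
      | zero => rw [pow_zero, map_one, one_mul]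
      | succ k ih => rw [pow_succ, map_mul, mul_assoc, hze, ih]
    have h1 := congrArg (· * e) hsumz
    simp only [Finset.sum_mul, zero_mul] at h1
    rw [Finset.sum_congr rfl fun a _ => ?_, Finset.sum_const, Finset.card_univ,
      ← Nat.card_eq_fintype_card, Nat.card_zpowers, ← Nat.cast_smul_eq_nsmul K] at h1
    · refine hχ ((smul_eq_zero.1 h1).resolve_left (hcastK _ ?_))
      exact hZV.coprime_dvd_left (Subgroup.orderOf_dvd_natCard _ z.2)
    · obtain ⟨k, hk⟩ := (mem_powers_iff_mem_zpowers (x := (z : Γ))).2 a.2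
      rw [← hk]; exact hz' k
  obtain ⟨M, instM, actM, cl, B, hM⟩ := exists_sympModule h.class2 χ fun a ha b hb hh h1 =>
    congrArg Subtype.val (hinj (h1.trans (map_one χ).symm))
  refine ⟨χ, M, instM, actM, cl, B, hM, hinj, ?_⟩
  haveI := hM.finite
  have hsM : (Nat.card (zpowers s)).Coprime (Nat.card M) := by
    rw [Nat.card_zpowers]
    refine (h.copS.symm.coprime_dvd_left (orderOf_dvd_of_pow_eq_one h.pow)).coprime_dvd_right ?_
    rw [hM.card_eq]
    exact Subgroup.relIndex_dvd_card _ _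
  set U := movedSub M (zpowers s) with hU
  have hUs : IsInv (zpowers s) U := isInv_movedSub le_normalizer
  -- conjugation by `S` is trivial on the classes
  have hinn : ∀ g ∈ S, ∀ b : S, ∀ hb : g * b * g⁻¹ ∈ S, cl ⟨g * b * g⁻¹, hb⟩ = cl b := by
    intro g hg b hb
    have h1 : cl ⟨g, hg⟩ + cl (⟨g, hg⟩⁻¹ : S) = 0 := by
      rw [← hM.map_mul, mul_inv_cancel, hM.map_one]
    rw [show (⟨g * b * g⁻¹, hb⟩ : S) = ⟨g, hg⟩ * b * ⟨g, hg⟩⁻¹ from rfl, hM.map_mul, hM.map_mul,
      add_comm (cl ⟨g, hg⟩), add_assoc, h1, add_zero]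
  let Q : Subgroup Γ :=
    { carrier := {u | ∃ hu : u ∈ S, cl ⟨u, hu⟩ ∈ U}
      one_mem' := ⟨one_mem S, by
        rw [show (⟨1, one_mem S⟩ : S) = 1 from rfl, hM.map_one]
        exact zero_mem U⟩
      mul_mem' := fun {a b} ⟨ha, ha'⟩ ⟨hb, hb'⟩ => ⟨mul_mem ha hb, by
        rw [show (⟨a * b, mul_mem ha hb⟩ : S) = ⟨a, ha⟩ * ⟨b, hb⟩ from rfl, hM.map_mul]
        exact add_mem ha' hb'⟩
      inv_mem' := fun {a} ⟨ha, ha'⟩ => ⟨inv_mem ha, by
        have h1 : cl ⟨a, ha⟩ + cl (⟨a⁻¹, inv_mem ha⟩ : S) = 0 := by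
          rw [← hM.map_mul, show (⟨a, ha⟩ : S) * ⟨a⁻¹, inv_mem ha⟩ = 1 from mul_inv_cancel _,
            hM.map_one]
        rw [eq_neg_of_add_eq_zero_right h1]
        exact neg_mem ha'⟩ }
  have hQS : Q ≤ S := fun u hu => Exists.fst (show ∃ hu : u ∈ S, cl ⟨u, hu⟩ ∈ U from hu)
  haveI : Q.Normal := by
    refine h.normal_of (fun g hg => mem_normalizer_fintype ?_) (mem_normalizer_fintype ?_)
    · rintro u ⟨hu, hu'⟩
      exact ⟨hSn.conj_mem _ hu g, by rw [hinn g hg ⟨u, hu⟩]; exact hu'⟩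
    · rintro u ⟨hu, hu'⟩
      exact ⟨hSn.conj_mem _ hu s, by
        rw [hM.map_conj s ⟨u, hu⟩]; exact hUs s (mem_zpowers s) _ hu'⟩
  have hZQ : Z ≤ Q := fun z hz => ⟨(mem_cenIn.1 hz).1, by
    rw [(hM.eq_zero _).2 hz]; exact zero_mem U⟩
  let π : Q →* Multiplicative U :=
    { toFun := fun u => Multiplicative.ofAdd ⟨cl ⟨u, hQS u.2⟩, u.2.2⟩
      map_one' := congrArg Multiplicative.ofAdd (Subtype.ext hM.map_one)
      map_mul' := fun a b => congrArg Multiplicative.ofAdd
        (Subtype.ext (hM.map_mul ⟨a, hQS a.2⟩ ⟨b, hQS b.2⟩)) }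
  have hπsurj : Function.Surjective π := by
    intro m
    obtain ⟨u, hu⟩ := hM.surj (m.toAdd : M)
    exact ⟨⟨u, u.2, by rw [hu]; exact m.toAdd.2⟩, congrArg Multiplicative.ofAdd (Subtype.ext hu)⟩
  have hπker : π.ker = Z.subgroupOf Q := by
    ext u
    rw [MonoidHom.mem_ker, mem_subgroupOf, ← hM.eq_zero ⟨u, hQS u.2⟩]
    exact ⟨fun h1 => congrArg Subtype.val (Multiplicative.ofAdd.injective h1),
      fun h1 => congrArg Multiplicative.ofAdd (Subtype.ext h1)⟩
  have hcard : Z.relIndex Q = Nat.card U := by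
    rw [Subgroup.relIndex, ← hπker, Subgroup.index_ker, MonoidHom.range_eq_top.2 hπsurj,
      Subgroup.card_top]
    rfl
  -- the weight space
  set W := LinearMap.range e with hW
  have hWinv : ∀ g, ∀ w ∈ W, ρ g w ∈ W := by
    rintro g _ ⟨w, rfl⟩
    exact ⟨ρ g w, (LinearMap.congr_fun (hcommute g).eq w).symm⟩
  let θ : Γ →* Module.End K W :=
    { toFun := fun g => (ρ g).restrict (hWinv g)
      map_one' := LinearMap.ext fun w => Subtype.ext (by
        show ρ 1 (w : Fin d → K) = w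
        rw [map_one]; rfl)
      map_mul' := fun a b => LinearMap.ext fun w => Subtype.ext (by
        show ρ (a * b) (w : Fin d → K) = ρ a (ρ b w)
        rw [map_mul]; rfl) }
  haveI hWn : Nontrivial W := by
    rw [Submodule.nontrivial_iff_ne_bot, hW, ne_eq, LinearMap.range_eq_bot]; exact hχ
  have hscal : ∀ z (hz : z ∈ Z), θ z = (χ ⟨z, hz⟩ : K) • 1 := fun z hz => by
    refine LinearMap.ext fun w => Subtype.ext ?_
    obtain ⟨w, v, rfl⟩ := w
    show ρ z (e v) = (χ ⟨z, hz⟩ : K) • e v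
    exact LinearMap.congr_fun (map_mem_mul_weightIdem ρ χ ⟨z, hz⟩) v
  have hiso : ∀ a ∈ S, ∀ b ∈ S, s * ⁅a, b⁆ = ⁅a, b⁆ * s := fun a ha b hb =>
    hgenZ s _ (h.class2 a ha b hb)
  obtain ⟨dd, hdd, hle, -⟩ := exists_twisted_bound θ Q Z hZQ hr.pos h.pow hrK
    (fun z hz => ⟨_, hscal z hz⟩)
    (fun x hx hxy => by
      refine (hM.eq_zero ⟨x, hQS hx⟩).1
        (hM.nondeg _ (hom_eq_of_fixed_of_moved hsM (fun f hf => hM.refl _ _ ?_) fun g hg w => ?_))
      · have hle : U ≤ (B f).ker := (AddSubgroup.closure_le _).2 (by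
          rintro _ ⟨g, hg, w, rfl⟩
          show B f (g • w - w) = 0
          rw [_root_.map_sub, sub_eq_zero]
          obtain ⟨i, rfl⟩ := (mem_powers_iff_mem_zpowers (x := s)).2 hg
          show B f (s ^ i • w) = B f w
          clear hg
          induction i generalizing w with
          | zero => rw [pow_zero, one_smul]
          | succ i ih =>
            rw [pow_succ, mul_smul, ih]
            conv_lhs => rw [← mem_fixedSub_zpowers.1 hf]
            exact hM.isometry s hiso f w)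
        exact hle hx.2
      · obtain ⟨y, hy⟩ := hM.surj (g • w - w)
        have hyQ : (y : Γ) ∈ Q := ⟨y.2, by rw [hy]; exact sub_mem_movedSub hg w⟩
        rw [← hy, hM.form ⟨x, hQS hx⟩ y (h.class2 _ (hQS hx) _ y.2), ofMul_eq_zero]
        have h1 := hxy _ hyQ
        rw [show x * (y : Γ) = ⁅x, (y : Γ)⁆ * (y * x) by simp only [commutatorElement_def]; group,
          map_mul, hscal _ (h.class2 x (hQS hx) y y.2), smul_mul_assoc, one_mul] at h1
        refine Units.ext ?_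
        by_contra hne'
        refine map_ne_zero' θ ((y : Γ) * x) (LinearMap.ext fun v => ?_)
        have h3 : (χ ⟨⁅x, (y : Γ)⁆, h.class2 x (hQS hx) y y.2⟩ : K) • θ ((y : Γ) * x) v =
            θ ((y : Γ) * x) v := LinearMap.congr_fun h1 v
        rw [← sub_eq_zero] at h3
        have h4 : ((χ ⟨⁅x, (y : Γ)⁆, h.class2 x (hQS hx) y y.2⟩ : K) - 1) •
            θ ((y : Γ) * x) v = 0 :=
          (sub_smul (χ ⟨⁅x, (y : Γ)⁆, h.class2 x (hQS hx) y y.2⟩ : K) 1 _).trans
            ((congrArg _ (one_smul K _)).trans h3)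
        exact (smul_eq_zero.1 h4).resolve_left (sub_ne_zero.2 hne'))
    (fun x hx y hy => ⟨_, hscal _ (h.class2 x (hQS hx) y (hQS hy))⟩)
    (fun i hi0 hi x hx hxi => by
      refine (hM.eq_zero ⟨x, hQS hx⟩).1 (fixedSub_inf_movedSub hsM (mem_fixedSub_zpowers.2 ?_) hx.2)
      have hmem : s ^ i * x * (s ^ i)⁻¹ ∈ S := hSn.conj_mem _ (hQS hx) _
      have h1 : s ^ i • cl ⟨x, hQS hx⟩ = cl ⟨x, hQS hx⟩ := by
        rw [← hM.map_conj (s ^ i) ⟨x, hQS hx⟩ hmem, ← sub_eq_zero, ← hM.map_sub, hM.eq_zero]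
        simpa [commutatorElement_def] using hxi
      obtain ⟨j, hj⟩ := exists_pow_eq_self hr h.pow
        (fun hd => (Nat.eq_zero_of_dvd_of_lt hd hi ▸ hi0).false)
      conv_lhs => rw [← hj]
      clear hj
      induction j with
      | zero => rw [pow_zero, one_smul]
      | succ j ih => rw [pow_succ, mul_smul, h1, ih])
    (LinearMap.ext fun w => Subtype.ext (by
      rw [LinearMap.sum_apply, AddSubmonoidClass.coe_finsetSum]
      have h1 := LinearMap.congr_fun hsum (w : Fin d → K)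
      rw [LinearMap.sum_apply] at h1
      exact h1))
  rw [← hcard, hdd, two_mul, pow_add]
  exact Nat.mul_le_mul (by omega) (by omega)

/-- The form on `R` seen by an invariant subgroup without fixed vectors of `s`. -/
theorem exceptional {Γ : Type u} [Group Γ] [Finite Γ] {V : Type w} [AddCommGroup V] [Finite V]
    [DistribMulAction Γ V] {R : Subgroup Γ} [hRn : R.Normal] {s : Γ} {r : ℕ} (hr : r.Prime)
    (hs : s ^ r = 1) {p : ℕ} [Fact p.Prime] (hp : IsPGroup p R)
    (hclass : ∀ a ∈ R, ∀ b ∈ R, ⁅a, b⁆ ∈ cenIn R) (hpow : ∀ a ∈ R, a ^ p ∈ cenIn R)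
    (hcopr : (Nat.card R).Coprime r) (hcopV : (Nat.card R).Coprime (Nat.card V))
    (hcoprV : r.Coprime (Nat.card V)) {q : ℕ} (hq : q.Prime) (hexp : ∀ v : V, q • v = 0)
    {T : Subgroup Γ} (hgen : R ⊔ zpowers s ⊔ T = ⊤)
    (hT : ∀ t ∈ T, ∀ a ∈ R, ∀ b ∈ R, t * ⁅a, b⁆ = ⁅a, b⁆ * t)
    {N : AddSubgroup V} (hN : IsInv (R ⊔ zpowers s) N) (hN0 : N ≠ ⊥)
    (hmin : ∀ U ≤ N, IsInv (R ⊔ zpowers s) U → U = ⊥ ∨ U = N)
    (hmove : ∃ x ∈ R, ∃ v ∈ N, ⁅x, s⁆ • v ≠ v) (h0 : ∀ v ∈ N, s • v = v → v = 0) :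
    p = 2 ∧ ∃ (a : ℕ) (T' : Type) (_ : AddCommGroup T') (β : R → R → T') (M : Type u)
      (_ : AddCommGroup M) (_ : DistribMulAction Γ M) (cl : R → M) (B : M →+ M →+ T'),
        FormModule R β M cl B ∧ SmallMoved s r a B ∧
          (∀ x : R, cl x = 0 ↔ ∀ b ∈ R, ∀ v ∈ N, ⁅(x : Γ), b⁆ • v = v) ∧
          ∀ x : R, s • cl x = cl x → ∀ v ∈ N, ⁅(x : Γ), s⁆ • v = v := by
  classical
  set H := R ⊔ zpowers s with hH
  have hRH : R ≤ H := le_sup_left
  let s' : H := ⟨s, mem_sup_right (mem_zpowers s)⟩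
  have hinv : IsInv (⊤ : Subgroup H) N := fun g _ v hv => hN g g.2 v hv
  haveI := finite_resGroup hinv
  set π := resHom N hinv with hπ
  set R' := R.subgroupOf H with hR'
  haveI : R'.Normal := hRn.subgroupOf H
  set S := R'.map π with hS
  haveI : S.Normal := (inferInstance : R'.Normal).map π (resHom_surjective hinv)
  have hcardS : Nat.card S ∣ Nat.card R := (R'.card_map_dvd π).trans
    (Nat.card_congr (subgroupOfEquivOfLe hRH).toEquiv).dvd
  let ι : R →* S :=
    { toFun := fun a => ⟨π ⟨a, hRH a.2⟩, mem_map_of_mem π a.2⟩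
      map_one' := Subtype.ext (map_one π)
      map_mul' := fun a b => Subtype.ext (map_mul π ⟨a, hRH a.2⟩ ⟨b, hRH b.2⟩) }
  have hιsurj : Function.Surjective ι := by
    rintro ⟨_, a, ha, rfl⟩
    exact ⟨⟨a, ha⟩, rfl⟩
  have hcen : ∀ a : R, (a : Γ) ∈ cenIn R → (ι a : resGroup N hinv) ∈ cenIn S := by
    intro a ha
    refine mem_cenIn.2 ⟨(ι a).2, fun y hy => ?_⟩
    obtain ⟨b, hb⟩ := hιsurj ⟨y, hy⟩
    have h1 : b * a = a * b := Subtype.ext ((mem_cenIn.1 ha).2 b b.2)
    have h2 := congrArg Subtype.val (congrArg ι h1)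
    rw [map_mul, map_mul, hb] at h2
    exact h2
  have hclassS : ∀ x ∈ S, ∀ y ∈ S, ⁅x, y⁆ ∈ cenIn S := by
    intro x hx y hy
    obtain ⟨a, ha⟩ := hιsurj ⟨x, hx⟩
    obtain ⟨b, hb⟩ := hιsurj ⟨y, hy⟩
    have h1 := hcen ⁅a, b⁆ (hclass a a.2 b b.2)
    rwa [map_commutatorElement, ha, hb] at h1
  haveI : Nontrivial N := by
    obtain ⟨v, hv, hv0⟩ := (AddSubgroup.bot_or_exists_ne_zero N).resolve_left hN0
    exact ⟨⟨⟨v, hv⟩, 0, fun h1 => hv0 (congrArg Subtype.val h1)⟩⟩
  have hcardN : Nat.card N ∣ Nat.card V := AddSubgroup.card_addSubgroup_dvd_card N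
  have hsetup : Setup S (π s') r N :=
    { prime := hr
      pow := by rw [← map_pow, show s' ^ r = 1 from Subtype.ext hs, map_one]
      gen := by
        rw [hS, ← MonoidHom.map_zpowers, ← Subgroup.map_sup, show R' ⊔ zpowers s' = ⊤ from ?_,
          map_top_of_surjective π (resHom_surjective hinv)]
        refine map_injective H.subtype_injective ?_
        rw [Subgroup.map_sup, ← MonoidHom.range_eq_map, H.range_subtype, MonoidHom.map_zpowers, hR',
          map_subgroupOf_eq_of_le hRH]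
        rfl
      class2 := hclassS
      copS := hcopr.coprime_dvd_left hcardS
      copV := (hcopV.coprime_dvd_left hcardS).coprime_dvd_right hcardN
      coprV := hcoprV.coprime_dvd_right hcardN
      irr := by
        intro U hU
        rcases hmin (U.map N.subtype) (by rintro _ ⟨w, -, rfl⟩; exact w.2) (by
          rintro g hg _ ⟨w, hw, rfl⟩
          exact ⟨π ⟨g, hg⟩ • w, hU _ trivial w hw, rfl⟩) with hb | ht
        · exact Or.inl ((AddSubgroup.map_eq_bot_iff_of_injective _ N.subtype_injective).1 hb)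
        · refine Or.inr (AddSubgroup.map_injective N.subtype_injective ?_)
          rw [← AddMonoidHom.range_eq_map, N.range_subtype, ht]
      faithful := resGroup_faithful hinv }
  obtain ⟨x₀, hx₀, v₀, hv₀, hmove₀⟩ := hmove
  obtain ⟨rfl, a, ha1, hra, hZs, K, instK, χ, MN, instMN, actMN, clN, BN, hMN, hinj, hcardMN⟩ :=
    exceptional_core hsetup hq (fun v => Subtype.ext (by rw [AddSubmonoidClass.coe_nsmul, hexp]; rfl))
      ((hp.of_equiv (subgroupOfEquivOfLe hRH).symm).map π)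
      ⟨π ⟨x₀, hRH hx₀⟩, mem_map_of_mem π hx₀, fun h1 => hmove₀ (by
        have h2 : π ⁅(⟨x₀, hRH hx₀⟩ : H), s'⁆ = 1 := by
          rw [map_commutatorElement, commutatorElement_eq_one_iff_mul_comm]; exact h1
        exact (resHom_eq_one_iff hinv _).1 h2 v₀ hv₀)⟩
      fun v hv => Subtype.ext (h0 v v.2 (congrArg Subtype.val hv))
  haveI := hMN.finite
  let φ : R → MN := fun x => clN (ι x)
  have hφmul : ∀ x y, φ (x * y) = φ x + φ y := fun x y => by
    show clN (ι (x * y)) = _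
    rw [map_mul, hMN.map_mul]
  have hφsurj : Function.Surjective φ := fun m => by
    obtain ⟨y, rfl⟩ := hMN.surj m
    obtain ⟨x, rfl⟩ := hιsurj y
    exact ⟨x, rfl⟩
  have hφform : ∀ x y : R, BN (φ x) (φ y) = Additive.ofMul
      (χ ⟨(ι ⁅x, y⁆ : resGroup N hinv), hcen _ (hclass x x.2 y y.2)⟩) := fun x y => by
    rw [hMN.form (ι x) (ι y) (hclassS _ (ι x).2 _ (ι y).2)]
    refine congrArg (fun z => Additive.ofMul (χ z)) (Subtype.ext ?_)
    exact (congrArg Subtype.val (map_commutatorElement ι x y)).symm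
  have halt : ∀ x, BN (φ x) (φ x) = 0 := fun x => by
    rw [hφform, ofMul_eq_zero, ← map_one χ]
    refine congrArg χ (Subtype.ext ?_)
    show ((ι ⁅x, x⁆ : S) : resGroup N hinv) = 1
    rw [show ⁅x, x⁆ = 1 from commutatorElement_self x, map_one]; rfl
  have hφeq : ∀ x, φ x = 0 ↔ ∀ b ∈ R, ∀ v ∈ N, ⁅(x : Γ), b⁆ • v = v := by
    intro x
    refine (hMN.eq_zero _).trans ⟨fun h1 b hb => ?_, fun h1 => mem_cenIn.2 ⟨(ι x).2, fun y hy => ?_⟩⟩
    · refine (resHom_eq_one_iff hinv ⁅(⟨x, hRH x.2⟩ : H), ⟨b, hRH hb⟩⁆).1 ?_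
      rw [map_commutatorElement, commutatorElement_eq_one_iff_mul_comm]
      exact ((mem_cenIn.1 h1).2 _ (ι ⟨b, hb⟩).2).symm
    · obtain ⟨b, hb⟩ := hιsurj ⟨y, hy⟩
      have h2 := (resHom_eq_one_iff hinv ⁅(⟨x, hRH x.2⟩ : H), ⟨b, hRH b.2⟩⁆).2 (h1 b b.2)
      rw [← hπ, map_commutatorElement, commutatorElement_eq_one_iff_mul_comm] at h2
      rw [show y = ((ι b : S) : resGroup N hinv) from (congrArg Subtype.val hb).symm]
      exact h2.symm
  have hφconjR : ∀ g ∈ R, ∀ x : R, φ ((MulAut.conjNormal g : MulAut R) x) = φ x := by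
    intro g hg x
    have h1 : φ ⟨g, hg⟩ + φ (⟨g, hg⟩⁻¹ : R) = 0 := by
      rw [← hφmul, mul_inv_cancel]
      show clN (ι 1) = 0
      rw [map_one, hMN.map_one]
    rw [show (MulAut.conjNormal g : MulAut R) x = ⟨g, hg⟩ * x * ⟨g, hg⟩⁻¹ from
      Subtype.ext (MulAut.conjNormal_apply g x), hφmul, hφmul, add_comm (φ ⟨g, hg⟩), add_assoc, h1,
      add_zero]
  have hφs : ∀ x : R, φ ((MulAut.conjNormal s : MulAut R) x) = π s' • φ x := by
    intro x
    show clN (ι _) = _
    have hmem : π s' * (ι x : resGroup N hinv) * (π s')⁻¹ ∈ S :=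
      (inferInstance : S.Normal).conj_mem _ (ι x).2 _
    rw [← hMN.map_conj (π s') (ι x) hmem]
    congr 1
    refine Subtype.ext ?_
    show π _ = π s' * π _ * (π s')⁻¹
    rw [← map_inv, ← map_mul, ← map_mul]
    exact congrArg π (Subtype.ext (MulAut.conjNormal_apply s x))
  have hisoN : ∀ u ∈ S, ∀ w ∈ S, π s' * ⁅u, w⁆ = ⁅u, w⁆ * π s' := fun u hu w hw =>
    (hZs _ (hclassS u hu w hw)).symm
  let G₀ : Subgroup Γ :=
    { carrier := {g | ∀ x y : R,
        BN (φ ((MulAut.conjNormal g : MulAut R) x)) (φ ((MulAut.conjNormal g : MulAut R) y)) =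
          BN (φ x) (φ y)}
      one_mem' := fun x y => by simp only [map_one, MulAut.one_apply]
      mul_mem' := fun {g k} hg hk x y => by
        rw [map_mul, MulAut.mul_apply, MulAut.mul_apply, hg, hk]
      inv_mem' := fun {g} hg x y => by
        rw [← hg ((MulAut.conjNormal g⁻¹ : MulAut R) x) ((MulAut.conjNormal g⁻¹ : MulAut R) y),
          map_inv]
        simp }
  have hG₀ : (⊤ : Subgroup Γ) ≤ G₀ := by
    rw [← hgen]
    refine sup_le (sup_le (fun g hg x y => ?_) (zpowers_le.2 fun x y => ?_)) fun t ht x y => ?_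
    · rw [hφconjR g hg, hφconjR g hg]
    · rw [hφs, hφs]; exact hMN.isometry (π s') hisoN _ _
    · rw [hφform, hφform]
      refine congrArg (fun z => Additive.ofMul (χ z)) (Subtype.ext ?_)
      show ((ι _ : S) : resGroup N hinv) = ι _
      congr 2
      refine Subtype.ext ?_
      show ⁅(((MulAut.conjNormal t : MulAut R) x : R) : Γ),
        (((MulAut.conjNormal t : MulAut R) y : R) : Γ)⁆ = ⁅(x : Γ), (y : Γ)⁆
      rw [MulAut.conjNormal_apply, MulAut.conjNormal_apply]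
      calc ⁅t * (x : Γ) * t⁻¹, t * (y : Γ) * t⁻¹⁆ = t * ⁅(x : Γ), (y : Γ)⁆ * t⁻¹ := by
            simp only [commutatorElement_def]; group
        _ = ⁅(x : Γ), (y : Γ)⁆ := by rw [hT t ht _ x.2 _ y.2, mul_inv_cancel_right]
  obtain ⟨M, instM, actM, cl, B, hM⟩ := exists_formModule (fun x y : R => BN (φ x) (φ y))
    (fun x y z => by simp only [hφmul, map_add, AddMonoidHom.add_apply])
    (fun x y z => by simp only [hφmul, map_add]) halt fun g => hG₀ (mem_top g)
  haveI := hM.finite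
  have hzero : ∀ x, cl x = 0 ↔ φ x = 0 := fun x => (hM.eq_zero x).trans
    ⟨fun h1 => hMN.nondeg _ fun m => by obtain ⟨y, rfl⟩ := hφsurj m; exact h1 y,
      fun h1 y => by show BN (φ x) (φ y) = 0; rw [h1, map_zero, AddMonoidHom.zero_apply]⟩
  refine ⟨rfl, a, Additive Kˣ, inferInstance, _, M, instM, actM, cl, B, hM, ?_,
    fun x => (hzero x).trans (hφeq x), fun x hx => ?_⟩
  · have hcl : ∀ x y, cl x = cl y → φ x = φ y := by
      intro x y hxy
      have h1 : cl (x * y⁻¹) + cl y = cl x := by rw [← hM.map_mul, inv_mul_cancel_right]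
      have h2 : φ (x * y⁻¹) + φ y = φ x := by rw [← hφmul, inv_mul_cancel_right]
      rw [← h2, (hzero _).1 (by rw [hxy] at h1; exact add_eq_right.1 h1), zero_add]
    let f : M →+ MN := AddMonoidHom.mk' (fun m => φ (Function.surjInv hM.surj m)) fun m m' => by
      rw [← hφmul]
      refine hcl _ _ ?_
      simp only [hM.map_mul, Function.surjInv_eq hM.surj]
    have hf : ∀ x, f (cl x) = φ x := fun x => hcl _ _ (Function.surjInv_eq hM.surj _)
    have hfinj : Function.Injective f := by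
      rw [injective_iff_map_eq_zero]
      intro m hm
      obtain ⟨x, rfl⟩ := hM.surj m
      exact (hzero x).2 (by rw [← hf, hm])
    have hfs : ∀ m, f (s • m) = π s' • f m := fun m => by
      obtain ⟨x, rfl⟩ := hM.surj m
      rw [hf, ← hφs, ← hM.map_conj s x (hRn.conj_mem _ x.2 s), hf]
      exact congrArg φ (Subtype.ext (MulAut.conjNormal_apply s x).symm)
    refine ⟨hr, ha1, hra, hs, fun m => ?_, hM.refl, hM.isometry s, hM.nondeg, ?_⟩
    · obtain ⟨x, rfl⟩ := hM.surj m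
      rw [two_nsmul, ← hM.map_mul, hzero, hφeq]
      intro b hb v _
      have h1 := (mem_cenIn.1 (hpow _ x.2)).2 b hb
      rw [show ((x * x : R) : Γ) = (x : Γ) ^ 2 by rw [Subgroup.coe_mul, sq],
        commutatorElement_eq_one_iff_mul_comm.2 h1.symm, one_smul]
    · refine le_trans (Nat.card_le_card_of_injective
        (fun m : movedSub M (zpowers s) => (⟨f m, ?_⟩ : movedSub MN (zpowers (π s'))))
        fun m m' h1 => Subtype.ext (hfinj (congrArg Subtype.val h1))) hcardMN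
      have hle : movedSub M (zpowers s) ≤ (movedSub MN (zpowers (π s'))).comap f := by
        refine (AddSubgroup.closure_le _).2 ?_
        rintro _ ⟨g, hg, w, rfl⟩
        show f (g • w - w) ∈ movedSub MN (zpowers (π s'))
        obtain ⟨i, rfl⟩ := (mem_powers_iff_mem_zpowers (x := s)).2 hg
        rw [map_sub, show f (s ^ i • w) = π s' ^ i • f w from ?_]
        · exact sub_mem_movedSub (pow_mem (mem_zpowers _) i) _
        clear hg
        induction i with
        | zero => rw [pow_zero, pow_zero, one_smul, one_smul]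
        | succ i ih => rw [pow_succ', pow_succ', mul_smul, mul_smul, hfs, ih]
      exact hle m.2
  · have hmem : ⁅(x : Γ), s⁆ ∈ R := by
      rw [commutatorElement_def, mul_assoc, mul_assoc, ← mul_assoc s]
      exact mul_mem x.2 (hRn.conj_mem _ (inv_mem x.2) s)
    have h1 : cl ⟨⁅(x : Γ), s⁆, hmem⟩ = 0 := by
      have e : (⟨⁅(x : Γ), s⁆, hmem⟩ : R) * ⟨s * x * s⁻¹, hRn.conj_mem _ x.2 s⟩ = x :=
        Subtype.ext (by simp [commutatorElement_def, mul_assoc])
      have h2 := hM.map_mul ⟨⁅(x : Γ), s⁆, hmem⟩ ⟨s * x * s⁻¹, hRn.conj_mem _ x.2 s⟩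
      rw [e, hM.map_conj s x, hx] at h2
      exact right_eq_add.1 h2
    rw [hzero] at h1
    have hzc : π ⁅(⟨x, hRH x.2⟩ : H), s'⁆ ∈ cenIn S := (hMN.eq_zero _).1 h1
    refine (resHom_eq_one_iff hinv ⁅(⟨x, hRH x.2⟩ : H), s'⁆).1 ?_
    set z := π ⁅(⟨x, hRH x.2⟩ : H), s'⁆ with hz
    set y := π (⟨x, hRH x.2⟩ : H) with hy
    have hzy : z = ⁅y, π s'⁆ := by rw [hz, map_commutatorElement]
    have hzs : Commute (π s') z := (hZs z hzc).symm
    have e1 : π s' * y * (π s')⁻¹ = z⁻¹ * y := by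
      rw [hzy]; simp only [commutatorElement_def]; group
    have hpw : ∀ i, π s' ^ i * y * (π s' ^ i)⁻¹ = z⁻¹ ^ i * y := by
      intro i
      induction i with
      | zero => simp
      | succ i ih =>
        have hc' : Commute (π s') (z⁻¹ ^ i) := hzs.inv_right.pow_right i
        rw [pow_succ' (π s'), mul_inv_rev]
        calc π s' * π s' ^ i * y * ((π s' ^ i)⁻¹ * (π s')⁻¹)
            = π s' * (π s' ^ i * y * (π s' ^ i)⁻¹) * (π s')⁻¹ := by group
          _ = z⁻¹ ^ i * (π s' * y * (π s')⁻¹) := by rw [ih, ← mul_assoc (π s'), hc'.eq]; group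
          _ = z⁻¹ ^ (i + 1) * y := by rw [e1, pow_succ, mul_assoc]
    have hzr : z ^ r = 1 := by
      have h3 := hpw r
      rw [hsetup.pow, one_mul, inv_one, mul_one] at h3
      have h4 : z⁻¹ ^ r = 1 := mul_eq_right.mp h3.symm
      rwa [inv_pow, inv_eq_one] at h4
    rw [← orderOf_eq_one_iff]
    exact Nat.eq_one_of_dvd_coprimes hsetup.copS (Subgroup.orderOf_dvd_natCard S hzc.1)
      (orderOf_dvd_of_pow_eq_one hzr)

/-- Below an irreducible part the operator `s` has fixed vectors. -/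
theorem exists_fixed_bottom {Γ : Type u} [Group Γ] [Finite Γ] {V : Type w} [AddCommGroup V]
    [Finite V] [DistribMulAction Γ V] {R : Subgroup Γ} [hRn : R.Normal] {s : Γ} {r : ℕ}
    (hr : r.Prime) (hs : s ^ r = 1) {p : ℕ} [Fact p.Prime] (hp : IsPGroup p R)
    (hclass : ∀ a ∈ R, ∀ b ∈ R, ⁅a, b⁆ ∈ cenIn R) (hpow : ∀ a ∈ R, a ^ p ∈ cenIn R)
    (hcopr : (Nat.card R).Coprime r) (hcopV : (Nat.card R).Coprime (Nat.card V))
    (hcoprV : r.Coprime (Nat.card V)) {q : ℕ} (hq : q.Prime) (hexp : ∀ v : V, q • v = 0)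
    {T Y : Subgroup Γ} {p' : ℕ} [hp'F : Fact p'.Prime] (hT' : IsPGroup p' T) (hpp : p' ≠ p)
    (hpr : p' ≠ r) (hgen : R ⊔ zpowers s ⊔ T = ⊤)
    (hT : ∀ t ∈ T, ∀ a ∈ R, ∀ b ∈ R, t * ⁅a, b⁆ = ⁅a, b⁆ * t)
    (hsT : s ∈ normalizer (T : Set Γ)) (hYT : Y ≤ T) (hTY : T ≤ normalizer (Y : Set Γ))
    (hsY : s ∈ normalizer (Y : Set Γ))
    {N : AddSubgroup V} (hN : IsInv (R ⊔ zpowers s) N) (hN0 : N ≠ ⊥)
    (hmin : ∀ U ≤ N, IsInv (R ⊔ zpowers s) U → U = ⊥ ∨ U = N)
    (hmove : ∃ x ∈ ⁅R, Y⁆, ∃ v ∈ N, ⁅x, s⁆ • v ≠ v) :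
    ∃ v ∈ N, s • v = v ∧ v ≠ 0 := by
  classical
  by_contra hno
  push Not at hno
  have hle : ⁅R, Y⁆ ≤ R := Subgroup.commutator_le_left R Y
  obtain ⟨x₀, hx₀, v₀, hv₀, hx₀v⟩ := hmove
  obtain ⟨rfl, a, T', instT', β, M, instM, actM, cl, B, hM, hSM, -, hfix⟩ :=
    exceptional hr hs hp hclass hpow hcopr hcopV hcoprV hq hexp hgen hT hN hN0 hmin
      ⟨x₀, hle hx₀, v₀, hv₀, hx₀v⟩ hno
  haveI := hM.finite
  have hw₀ : s • cl ⟨x₀, hle hx₀⟩ ≠ cl ⟨x₀, hle hx₀⟩ := fun h1 => hx₀v (hfix _ h1 v₀ hv₀)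
  have hcl1 : cl 1 = 0 := by
    have h1 := hM.map_mul 1 1
    rw [mul_one] at h1
    exact left_eq_add.1 h1
  -- the part moved by `Y`
  set W := movedSub M Y with hWdef
  let G₁ : Subgroup Γ :=
    { carrier := {g | ∃ hg : g ∈ R, cl ⟨g, hg⟩ ∈ W}
      one_mem' := ⟨one_mem R, by
        rw [show (⟨1, one_mem R⟩ : R) = 1 from rfl, hcl1]
        exact zero_mem W⟩
      mul_mem' := fun {g k} ⟨hg, hg'⟩ ⟨hk, hk'⟩ => ⟨mul_mem hg hk, by
        rw [show (⟨g * k, mul_mem hg hk⟩ : R) = ⟨g, hg⟩ * ⟨k, hk⟩ from rfl, hM.map_mul]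
        exact add_mem hg' hk'⟩
      inv_mem' := fun {g} ⟨hg, hg'⟩ => ⟨inv_mem hg, by
        have h1 : cl ⟨g, hg⟩ + cl (⟨g⁻¹, inv_mem hg⟩ : R) = 0 := by
          rw [← hM.map_mul, show (⟨g, hg⟩ : R) * ⟨g⁻¹, inv_mem hg⟩ = 1 from mul_inv_cancel _, hcl1]
        rw [eq_neg_of_add_eq_zero_right h1]
        exact neg_mem hg'⟩ }
  have hw₀W : cl ⟨x₀, hle hx₀⟩ ∈ W := by
    have hG₁ : ⁅R, Y⁆ ≤ G₁ := commutator_le.2 fun b hb y hy => by
      have hmem : y * b⁻¹ * y⁻¹ ∈ R := hRn.conj_mem _ (inv_mem hb) y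
      have hbR : ⁅b, y⁆ ∈ R := hle (commutator_mem_commutator hb hy)
      refine ⟨hbR, ?_⟩
      rw [show (⟨⁅b, y⁆, hbR⟩ : R) = ⟨b, hb⟩ * ⟨y * b⁻¹ * y⁻¹, hmem⟩ from
        Subtype.ext (by simp [commutatorElement_def, mul_assoc]), hM.map_mul,
        hM.map_conj y ⟨b⁻¹, inv_mem hb⟩]
      have h1 : cl ⟨b, hb⟩ + cl (⟨b⁻¹, inv_mem hb⟩ : R) = 0 := by
        rw [← hM.map_mul, show (⟨b, hb⟩ : R) * ⟨b⁻¹, inv_mem hb⟩ = 1 from mul_inv_cancel _, hcl1]
      rw [eq_neg_of_add_eq_zero_left h1, neg_add_eq_sub]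
      exact sub_mem_movedSub hy _
    obtain ⟨h1, h2⟩ := hG₁ hx₀
    exact h2
  have hp2 : ¬ 2 ∣ Nat.card T := fun h2 => by
    obtain ⟨n, hn⟩ := hT'.exists_card_eq
    rw [hn] at h2
    exact hpp ((Nat.prime_dvd_prime_iff_eq Nat.prime_two hp'F.out).1
      (Nat.prime_two.dvd_of_dvd_pow h2)).symm
  have hYcop : (Nat.card Y).Coprime (Nat.card M) :=
    coprime_card_of_two (fun h => hp2 (h.trans (card_dvd_of_le hYT))) hSM.two
  have hsodd : ¬ 2 ∣ Nat.card (zpowers s) := fun h2 => by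
    rw [Nat.card_zpowers] at h2
    have h3 := (Nat.prime_dvd_prime_iff_eq Nat.prime_two hr).1
      (h2.trans (orderOf_dvd_of_pow_eq_one hs))
    have := hSM.one_le
    have h4 : 2 ≤ 2 ^ a := Nat.le_self_pow (by omega) 2
    have := hSM.eq
    omega
  -- the normal closure of `s` in `T⟨s⟩`
  set H' := T ⊔ zpowers s with hH'
  have hTH : T ≤ H' := le_sup_left
  have hsH : s ∈ H' := mem_sup_right (mem_zpowers s)
  set Qs := ⁅T, zpowers s⁆ ⊔ zpowers s with hQs
  have hQsH : Qs ≤ H' := sup_le ((le_normalizer_iff_commutator_le_left.1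
    (zpowers_le.2 hsT)).trans hTH) le_sup_right
  have hQsn : H' ≤ normalizer (Qs : Set Γ) := by
    have hsQ : zpowers s ≤ normalizer (Qs : Set Γ) :=
      (zpowers_le.2 (mem_sup_right (mem_zpowers s) : s ∈ Qs)).trans le_normalizer
    refine sup_le (le_normalizer_iff.2 fun t ht g hg => ?_) hsQ
    have hconj : ∀ g ∈ (zpowers s : Subgroup Γ), t * g * t⁻¹ ∈ Qs := fun g hg => by
      rw [show t * g * t⁻¹ = ⁅t, g⁆ * g by simp [commutatorElement_def]]
      exact mul_mem (mem_sup_left (commutator_mem_commutator ht hg)) (mem_sup_right hg)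
    have hle1 : Qs ≤ Qs.comap (MulAut.conj t).toMonoidHom := by
      refine sup_le (commutator_le.2 fun t' ht' g hg => ?_) fun g hg => hconj g hg
      show t * ⁅t', g⁆ * t⁻¹ ∈ Qs
      rw [show t * ⁅t', g⁆ * t⁻¹ = ⁅t * t', g⁆ * ⁅t, g⁆⁻¹ by
        simp only [commutatorElement_def]; group]
      exact mul_mem (mem_sup_left (commutator_mem_commutator (mul_mem ht ht') hg))
        (inv_mem (mem_sup_left (commutator_mem_commutator ht hg)))
    exact hle1 hg
  have hQscop : (Nat.card Qs).Coprime (Nat.card M) := by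
    refine coprime_card_of_two (fun h2 => ?_) hSM.two
    have h3 := h2.trans (card_dvd_of_le hQsH)
    rw [hH', Coprime.card_sup_of_le_normalizer (zpowers_le.2 hsT) ?_] at h3
    · exact (Nat.prime_two.dvd_mul.1 h3).elim hp2 hsodd
    · refine disjoint_of_coprime_natCard ?_
      obtain ⟨n, hn⟩ := hT'.exists_card_eq
      rw [hn, Nat.card_zpowers]
      exact (((Nat.coprime_primes hp'F.out hr).2 hpr).pow_left n).coprime_dvd_right
        (orderOf_dvd_of_pow_eq_one hs)
  -- a minimal part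
  set U₀ := W ⊓ movedSub M Qs with hU₀
  have hWinv : IsInv H' W := isInv_movedSub (sup_le hTY (zpowers_le.2 hsY))
  have hU₀inv : IsInv H' U₀ := fun g hg u hu =>
    ⟨hWinv g hg u hu.1, isInv_movedSub hQsn g hg u hu.2⟩
  have hU₀0 : U₀ ≠ ⊥ := fun hb => hw₀ (sub_eq_zero.1 (AddSubgroup.mem_bot.1 (hb ▸
    (AddSubgroup.mem_inf.2 ⟨sub_mem (hWinv s hsH _ hw₀W) hw₀W, sub_mem_movedSub (mem_sup_right (mem_zpowers s)) _⟩ :
      s • cl ⟨x₀, hle hx₀⟩ - cl ⟨x₀, hle hx₀⟩ ∈ U₀))))
  obtain ⟨N', hN'U, hN'0, hN'inv, hN'min⟩ := exists_minimal_inv hU₀inv hU₀0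
  have hnz : ∀ v ∈ N', v ∈ fixedSub M Y → v = 0 := fun v hv hf =>
    fixedSub_inf_movedSub hYcop hf (hN'U hv).1
  -- `s` moves the part
  obtain ⟨vs, hvs, hsvs⟩ : ∃ v ∈ N', s • v ≠ v := by
    by_contra hall
    push Not at hall
    obtain ⟨v, hv, hv0⟩ := (AddSubgroup.bot_or_exists_ne_zero N').resolve_left hN'0
    refine hv0 (fixedSub_inf_movedSub hQscop (mem_fixedSub.2 ?_) (hN'U hv).2)
    let G₂ : Subgroup Γ :=
      { carrier := {g | g ∈ H' ∧ ∀ w ∈ N', g • w = w}
        one_mem' := ⟨one_mem _, fun w _ => one_smul Γ w⟩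
        mul_mem' := fun {g k} hg hk => ⟨mul_mem hg.1 hk.1, fun w hw => by
          rw [mul_smul, hk.2 w hw, hg.2 w hw]⟩
        inv_mem' := fun {g} hg => ⟨inv_mem hg.1, fun w hw => by
          rw [inv_smul_eq_iff, hg.2 w hw]⟩ }
    have hz : zpowers s ≤ G₂ := zpowers_le.2 ⟨hsH, hall⟩
    have hQG : Qs ≤ G₂ := sup_le (commutator_le.2 fun t ht g hg => ⟨hQsH
      (mem_sup_left (commutator_mem_commutator ht hg)), fun w hw => by
      have h1 : t⁻¹ • w ∈ N' := hN'inv _ (inv_mem (hTH ht)) w hw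
      rw [commutatorElement_def, mul_smul, mul_smul, mul_smul, (inv_mem (hz hg) : g⁻¹ ∈ G₂).2 w hw,
        (hz hg).2 _ h1, smul_inv_smul]⟩) hz
    exact fun g hg => (hQG hg).2 v hv
  -- the induced group on the part
  let s'' : H' := ⟨s, hsH⟩
  have hinv' : IsInv (⊤ : Subgroup H') N' := fun g _ v hv => hN'inv g g.2 v hv
  haveI := finite_resGroup hinv'
  set π := resHom N' hinv' with hπ
  haveI : (T.subgroupOf H').Normal :=
    (normal_subgroupOf_iff_le_normalizer hTH).2 (sup_le le_normalizer (zpowers_le.2 hsT))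
  set T₂ := (T.subgroupOf H').map π with hT₂
  haveI : T₂.Normal := Subgroup.Normal.map inferInstance π (resHom_surjective hinv')
  have hpT₂ : IsPGroup p' T₂ := ((hT'.of_equiv (subgroupOfEquivOfLe hTH).symm)).map π
  have hfaith := resGroup_faithful hinv'
  have hirr : ∀ U : AddSubgroup N', IsInv (⊤ : Subgroup (resGroup N' hinv')) U → U = ⊥ ∨ U = ⊤ := by
    intro U hU
    rcases hN'min (U.map N'.subtype) (by rintro _ ⟨w, -, rfl⟩; exact w.2) (by
      rintro g hg _ ⟨w, hw, rfl⟩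
      exact ⟨π ⟨g, hg⟩ • w, hU _ trivial w hw, rfl⟩) with hb | ht
    · exact Or.inl ((AddSubgroup.map_eq_bot_iff_of_injective _ N'.subtype_injective).1 hb)
    · refine Or.inr (AddSubgroup.map_injective N'.subtype_injective ?_)
      rw [← AddMonoidHom.range_eq_map, N'.range_subtype, ht]
  have hT₂ne : Nontrivial T₂ := by
    rw [Subgroup.nontrivial_iff_ne_bot]
    intro hb
    refine hN'0 ((AddSubgroup.eq_bot_iff_forall _).2 fun v hv => hnz v hv
      (mem_fixedSub.2 fun y hy => ?_))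
    have h1 : π ⟨y, hTH (hYT hy)⟩ ∈ T₂ := mem_map_of_mem π (show (⟨y, hTH (hYT hy)⟩ : H') ∈
      T.subgroupOf H' from hYT hy)
    rw [hb, mem_bot] at h1
    exact (resHom_eq_one_iff hinv' _).1 h1 v hv
  set A := cenIn T₂ with hA
  have hAne : A ≠ ⊥ := fun hb => by
    haveI := hpT₂.center_nontrivial
    obtain ⟨z, hz, hz1⟩ := (nontrivial_iff_exists_ne_one (center T₂)).1 inferInstance
    refine hz1 (Subtype.ext ?_)
    rw [Subgroup.coe_one, ← mem_bot, ← hb]
    exact mem_cenIn.2 ⟨z.2, fun y hy => congrArg Subtype.val (mem_center_iff.1 hz ⟨y, hy⟩)⟩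
  have hfixn : ∀ Q : Subgroup (resGroup N' hinv'), Q.Normal → Q ≠ ⊥ → fixedSub N' Q = ⊥ := by
    intro Q hQ hne
    refine (hirr _ (isInv_fixedSub (by rw [normalizer_eq_top]))).resolve_right fun ht => hne ?_
    exact eq_bot_iff.2 fun g hg => mem_bot.2 (hfaith g fun v =>
      mem_fixedSub.1 (ht ▸ AddSubgroup.mem_top v) g hg)
  -- the part is nondegenerate
  have hisoH : ∀ (g : resGroup N' hinv') (u w : N'),
      B ((g • u : N') : M) ((g • w : N') : M) = B (u : M) (w : M) := by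
    intro g u w
    obtain ⟨k, rfl⟩ := resHom_surjective hinv' g
    exact hM.isometry (k : Γ) _ _
  let Bp : N' →+ N' →+ T' := AddMonoidHom.mk' (fun u => (B (u : M)).comp N'.subtype) fun u u' =>
    AddMonoidHom.ext fun w => DFunLike.congr_fun (map_add B (u : M) u') (w : M)
  have hBp : ∀ u w : N', Bp u w = B (u : M) (w : M) := fun u w => rfl
  let Rad : AddSubgroup N' := Bp.ker
  have hRad : ∀ u, u ∈ Rad ↔ ∀ w, Bp u w = 0 := fun u =>
    ⟨fun h w => DFunLike.congr_fun (AddMonoidHom.mem_ker.1 h) w,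
      fun h => AddMonoidHom.mem_ker.2 (AddMonoidHom.ext h)⟩
  have hnd : ∀ u, (∀ w, Bp u w = 0) → u = 0 := by
    rcases hirr Rad (fun g _ u hu => (hRad _).2 fun w => by
        rw [← smul_inv_smul g w, hBp, hisoH, ← hBp, (hRad u).1 hu]) with hb | ht
    · exact fun u hu => AddSubgroup.mem_bot.1 (hb ▸ (hRad u).2 hu)
    exfalso
    set Um := N' ⊓ movedSub M (zpowers s) with hUm
    have hUm0 : Um ≠ ⊥ := fun hb => hsvs (sub_eq_zero.1 (AddSubgroup.mem_bot.1 (hb ▸
      (AddSubgroup.mem_inf.2 ⟨sub_mem (hN'inv s hsH _ hvs) hvs, sub_mem_movedSub (mem_zpowers s) _⟩ :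
        s • vs - vs ∈ Um))))
    have heq := hSM.eq_moved (U := Um) (fun g hg u hu =>
      ⟨hN'inv g (zpowers_le.2 hsH hg) u hu.1, isInv_movedSub le_normalizer g hg u hu.2⟩)
      inf_le_right hUm0
    refine hUm0 ((AddSubgroup.eq_bot_iff_forall _).2 fun u hu =>
      hSM.nondeg_moved hu.2 fun w hw => ?_)
    rw [← heq] at hw
    exact (hRad ⟨u, hu.1⟩).1 (ht ▸ AddSubgroup.mem_top _) ⟨w, hw.1⟩
  have hmovedle : ∀ w ∈ movedSub N' (zpowers (π s'')), (w : M) ∈ movedSub M (zpowers s) := by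
    intro w hw
    have hle' : movedSub N' (zpowers (π s'')) ≤
        (movedSub M (zpowers s)).comap N'.subtype := by
      refine (AddSubgroup.closure_le _).2 ?_
      rintro _ ⟨g, hg, v, rfl⟩
      obtain ⟨i, rfl⟩ := (mem_powers_iff_mem_zpowers (x := π s'')).2 hg
      show ((π s'' ^ i • v - v : N') : M) ∈ movedSub M (zpowers s)
      rw [← map_pow, AddSubgroup.coe_sub, hπ, resHom_smul]
      exact sub_mem_movedSub (pow_mem (mem_zpowers s) i) _
    exact hle' hw
  have hcardle : Nat.card (movedSub N' (zpowers (π s''))) ≤ 2 ^ (2 * a) :=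
    le_trans (Nat.card_le_card_of_injective
      (fun w : movedSub N' (zpowers (π s'')) =>
        (⟨((w : N') : M), hmovedle _ w.2⟩ : movedSub M (zpowers s)))
      fun w w' h1 => Subtype.ext (Subtype.ext (congrArg (fun z : movedSub M (zpowers s) => (z : M)) h1)))
      hSM.le
  have hSM' : SmallMoved (π s'') r a Bp :=
    ⟨hr, hSM.one_le, hSM.eq, by rw [← map_pow, show s'' ^ r = 1 from Subtype.ext hs, map_one],
      fun v => Subtype.ext (by rw [AddSubmonoidClass.coe_nsmul, hSM.two]; rfl),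
      fun u w => hSM.refl _ _, hisoH _, hnd, hcardle⟩
  have hU2 : movedSub N' (zpowers (π s'')) ≠ ⊥ := fun hb => by
    have h1 : π s'' • (⟨vs, hvs⟩ : N') - ⟨vs, hvs⟩ ∈ movedSub N' (zpowers (π s'')) :=
      sub_mem_movedSub (mem_zpowers _) _
    rw [hb, AddSubgroup.mem_bot, sub_eq_zero] at h1
    exact hsvs (congrArg Subtype.val h1)
  have hgenG : (T₂ ⊔ zpowers (π s'')) = ⊤ := by
    rw [hT₂, ← MonoidHom.map_zpowers, ← Subgroup.map_sup,
      show T.subgroupOf H' ⊔ zpowers s'' = ⊤ from ?_,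
      map_top_of_surjective π (resHom_surjective hinv')]
    refine map_injective H'.subtype_injective ?_
    rw [Subgroup.map_sup, ← MonoidHom.range_eq_map, H'.range_subtype, MonoidHom.map_zpowers,
      map_subgroupOf_eq_of_le hTH]
    rfl
  -- `s` is fixed point free on the centre
  have hfpf : ∀ z ∈ A, π s'' * z = z * π s'' → z = 1 := by
    intro z hz hzs
    by_contra hz1
    have hzn : (zpowers z).Normal := by
      refine ⟨fun y hy g => ?_⟩
      have hle' : T₂ ⊔ zpowers (π s'') ≤ centralizer (zpowers z : Set _) := by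
        rw [le_centralizer_iff, zpowers_le]
        refine mem_centralizer_iff.2 fun g hg => ?_
        have : T₂ ⊔ zpowers (π s'') ≤ centralizer ({z} : Set _) :=
          sup_le (fun y hy => mem_centralizer_singleton_iff.2 ((mem_cenIn.1 hz).2 y hy))
            (zpowers_le.2 (mem_centralizer_singleton_iff.2 hzs))
        exact mem_centralizer_singleton_iff.1 (this hg)
      rw [← (mem_centralizer_iff.1 (hle' (hgenG ▸ mem_top g)) y hy), mul_inv_cancel_right]
      exact hy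
    have hzbot := hfixn _ hzn fun hb => hz1 (mem_bot.1 (hb ▸ mem_zpowers z))
    refine hU2 ((AddSubgroup.eq_bot_iff_forall _).2 fun v hv => ?_)
    have h1 : z ^ r • v = v := hSM'.pow_smul_moved hzs.symm (hisoH z) hv
    have hco : (orderOf z).Coprime r := by
      obtain ⟨n, hn⟩ := hpT₂.exists_card_eq
      refine (((Nat.coprime_primes hp'F.out hr).2 hpr).pow_left n).coprime_dvd_left ?_
      rw [← hn]
      exact Subgroup.orderOf_dvd_natCard _ hz.1
    obtain ⟨j, hj⟩ := exists_pow_eq_self_of_coprime hco.symm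
    rw [← AddSubgroup.mem_bot, ← hzbot, mem_fixedSub_zpowers]
    conv_lhs => rw [← hj]
    clear hj
    induction j with
    | zero => rw [pow_zero, one_smul]
    | succ j ih => rw [pow_succ, mul_smul, h1, ih]
  have hA2 : ¬ 2 ∣ Nat.card A := fun h2 => by
    obtain ⟨n, hn⟩ := (hpT₂.to_le (show A ≤ T₂ from inf_le_left)).exists_card_eq
    rw [hn] at h2
    exact hpp ((Nat.prime_dvd_prime_iff_eq Nat.prime_two hp'F.out).1
      (Nat.prime_two.dvd_of_dvd_pow h2)).symm
  obtain ⟨d, k, hcard, hdk, hk⟩ := le_of_regular Nat.prime_two hSM'.two (A := A)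
    (fun x hx y hy => ((mem_cenIn.1 hx).2 y (mem_cenIn.1 hy).1).symm) hA2
    (hfixn A inferInstance hAne) hr hSM'.pow hfpf hcardle
  have h2a : ∀ n, 3 ≤ n → 2 * n < 2 ^ n := fun n hn => by
    induction n, hn using Nat.le_induction with
    | base => norm_num
    | succ n hn ih => rw [pow_succ]; omega
  have hra := hSM.eq
  have ha1 := hSM.one_le
  have hr1 : r - 1 = 2 ^ a := by rw [hra, Nat.add_sub_cancel]
  rw [hr1] at hk
  rcases k with _ | _ | k
  · rw [hdk, mul_zero, pow_zero] at hcard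
    exact hN'0 (AddSubgroup.eq_bot_of_card_eq N' hcard)
  swap
  · have h3 : 2 ^ a * 2 ≤ 2 ^ a * (k + 1 + 1) := Nat.mul_le_mul_left _ (by omega)
    rcases Nat.lt_or_ge a 3 with h4 | h4
    · interval_cases a <;> omega
    · have := h2a a h4; omega
  -- one fixed vector is left over
  simp only [zero_add, mul_one] at hk hdk
  have ha2 : a ≤ 2 := by
    by_contra h4
    have := h2a a (by omega); omega
  have hd : d = 2 * a + 1 := by interval_cases a <;> omega
  set C := fixedSub N' (zpowers (π s'')) with hC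
  set U2 := movedSub N' (zpowers (π s'')) with hU2def
  have hU2card : Nat.card U2 = 2 ^ (2 * a) :=
    le_antisymm hcardle (hSM'.card_ge (isInv_movedSub le_normalizer) le_rfl hU2)
  have hprod : Nat.card C * Nat.card U2 = Nat.card N' := by
    rw [← Nat.card_prod]
    refine Nat.card_congr (Equiv.ofBijective (fun x : C × U2 => (x.1 : N') + x.2) ⟨?_, ?_⟩)
    · rintro ⟨c, u⟩ ⟨c', u'⟩ h1
      have h2 : (c : N') - c' = u' - u := by
        rw [sub_eq_sub_iff_add_eq_add, add_comm (u' : N')]; exact h1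
      have h3 : (c : N') - c' = 0 :=
        fixedSub_inf_movedSub hSM'.coprime (sub_mem c.2 c'.2) (h2 ▸ sub_mem u'.2 u.2)
      rw [h3, eq_comm, sub_eq_zero] at h2
      exact Prod.ext (Subtype.ext (sub_eq_zero.1 h3)) (Subtype.ext h2.symm)
    · intro v
      obtain ⟨c, hc, u, hu, rfl⟩ := AddSubgroup.mem_sup.1 (fixedSub_sup_movedSub hSM'.coprime v)
      exact ⟨(⟨c, hc⟩, ⟨u, hu⟩), rfl⟩
  rw [hU2card, hcard, hd, pow_succ, mul_comm (2 ^ (2 * a))] at hprod
  have hC2 : Nat.card C = 2 := Nat.eq_of_mul_eq_mul_right (Nat.two_pow_pos _) hprod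
  obtain ⟨c, hc, hc0⟩ := (AddSubgroup.bot_or_exists_ne_zero C).resolve_left fun hb => by
    rw [hb, AddSubgroup.card_bot] at hC2
    omega
  refine hc0 (hnd c fun w => ?_)
  obtain ⟨c', hc', u, hu, rfl⟩ :=
    AddSubgroup.mem_sup.1 (fixedSub_sup_movedSub hSM'.coprime w)
  have h1 : Bp c c' = 0 := by
    obtain ⟨x, y, -, hxy⟩ := Nat.card_eq_two_iff.1 hC2
    have hC' : ∀ z : C, z = 0 ∨ z = ⟨c, hc⟩ := by
      intro z
      have hne : (0 : C) ≠ ⟨c, hc⟩ := fun h => hc0 (congrArg Subtype.val h).symm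
      have hu : ∀ w : C, w = x ∨ w = y := fun w => by
        simpa using (hxy ▸ Set.mem_univ w : w ∈ ({x, y} : Set C))
      rcases hu z with h | h <;> rcases hu 0 with h' | h' <;> rcases hu ⟨c, hc⟩ with h'' | h'' <;>
        subst h <;> first
          | exact Or.inl h'.symm
          | exact Or.inr h''.symm
          | exact absurd (h'.trans h''.symm) hne
    rcases hC' ⟨c', hc'⟩ with h | h
    · rw [show c' = 0 from congrArg Subtype.val h, map_zero]
    · rw [show c' = c from congrArg Subtype.val h]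
      exact hM.alt _
  have h2 : U2 ≤ (Bp c).ker := (AddSubgroup.closure_le _).2 (by
    rintro _ ⟨g, hg, z, rfl⟩
    show Bp c (g • z - z) = 0
    rw [map_sub, sub_eq_zero]
    conv_lhs => rw [← mem_fixedSub.1 hc g hg]
    exact hisoH g c z)
  rw [map_add, h1, zero_add]
  exact h2 hu

/-- If `R` has no fixed vectors of `s`, commuting operators are trivial on `R / Z(R)`. -/
theorem commutator_mem_of_fixed_eq_bot {Γ : Type u} [Group Γ] [Finite Γ] {V : Type w}
    [AddCommGroup V] [Finite V] [DistribMulAction Γ V] {R : Subgroup Γ} [hRn : R.Normal] {s : Γ}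
    {r : ℕ} (hr : r.Prime) (hs : s ^ r = 1) {p : ℕ} [Fact p.Prime] (hp : IsPGroup p R)
    (hclass : ∀ a ∈ R, ∀ b ∈ R, ⁅a, b⁆ ∈ cenIn R) (hpow : ∀ a ∈ R, a ^ p ∈ cenIn R)
    (hcopr : (Nat.card R).Coprime r) (hcopV : (Nat.card R).Coprime (Nat.card V))
    (hcoprV : r.Coprime (Nat.card V)) {q : ℕ} (hq : q.Prime) (hexp : ∀ v : V, q • v = 0)
    (hfaith : ∀ g : Γ, (∀ v : V, g • v = v) → g = 1)
    (hC : ∀ v : V, s • v = v → v = 0) (hR0 : fixedSub V R = ⊥)
    (hRs : ⁅R, zpowers s⁆ = R) {x : Γ} (hgen : R ⊔ zpowers s ⊔ zpowers x = ⊤)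
    (hxs : x * s = s * x) (hxr : (orderOf x).Coprime r)
    (hx : ∀ a ∈ R, ∀ b ∈ R, x * ⁅a, b⁆ = ⁅a, b⁆ * x) {u : Γ} (hu : u ∈ R) :
    ⁅x, u⁆ ∈ cenIn R := by
  classical
  have hxu : ⁅x, u⁆ ∈ R := by
    rw [commutatorElement_def]
    exact mul_mem (hRn.conj_mem _ hu x) (inv_mem hu)
  refine mem_cenIn.2 ⟨hxu, fun b hb => ?_⟩
  refine (commutatorElement_eq_one_iff_mul_comm.1 (?_ : ⁅⁅x, u⁆, b⁆ = 1)).symm
  set H := R ⊔ zpowers s with hH
  let IsMin : AddSubgroup V → Prop := fun N =>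
    N ≠ ⊥ ∧ IsInv H N ∧ ∀ W ≤ N, IsInv H W → W = ⊥ ∨ W = N
  -- the classes are moved trivially
  have hmain : ∀ N, IsMin N → ∀ v ∈ N, ⁅⁅x, u⁆, b⁆ • v = v := by
    rintro N ⟨hN0, hN, hmin⟩
    have hT : ∀ t ∈ zpowers x, ∀ c ∈ R, ∀ d ∈ R, t * ⁅c, d⁆ = ⁅c, d⁆ * t := by
      intro t ht c hc d hd
      obtain ⟨i, rfl⟩ := (mem_powers_iff_mem_zpowers (x := x)).2 ht
      exact ((show Commute x ⁅c, d⁆ from hx c hc d hd).pow_left i).eq
    have hmove : ∃ y ∈ R, ∃ v ∈ N, ⁅y, s⁆ • v ≠ v := by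
      by_contra hno
      push Not at hno
      obtain ⟨v, hv, hv0⟩ := (AddSubgroup.bot_or_exists_ne_zero N).resolve_left hN0
      refine hv0 (AddSubgroup.mem_bot.1 (hR0 ▸ mem_fixedSub.2 fun y hy => ?_))
      let G₁ : Subgroup Γ :=
        { carrier := {g | g ∈ R ∧ ∀ w ∈ N, g • w = w}
          one_mem' := ⟨one_mem _, fun w _ => one_smul Γ w⟩
          mul_mem' := fun {g k} hg hk => ⟨mul_mem hg.1 hk.1, fun w hw => by
            rw [mul_smul, hk.2 w hw, hg.2 w hw]⟩
          inv_mem' := fun {g} hg => ⟨inv_mem hg.1, fun w hw => by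
            rw [inv_smul_eq_iff, hg.2 w hw]⟩ }
      have hle : ⁅R, zpowers s⁆ ≤ G₁ := commutator_le.2 fun c hc g hg => by
        obtain ⟨i, rfl⟩ := (mem_powers_iff_mem_zpowers (x := s)).2 hg
        refine ⟨by rw [← hRs]; exact commutator_mem_commutator hc hg, ?_⟩
        clear hg
        induction i with
        | zero => intro w _; simp
        | succ i ih =>
          intro w hw
          show ⁅c, s ^ (i + 1)⁆ • w = w
          have hsw : s⁻¹ • w ∈ N := hN _ (inv_mem (mem_sup_right (mem_zpowers s))) w hw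
          rw [show ⁅c, s ^ (i + 1)⁆ = ⁅c, s⁆ * (s * ⁅c, s ^ i⁆ * s⁻¹) by
              rw [pow_succ']; simp only [commutatorElement_def]; group,
            mul_smul, mul_smul, mul_smul, show ⁅c, s ^ i⁆ • s⁻¹ • w = s⁻¹ • w from ih _ hsw,
            smul_inv_smul, hno c hc w hw]
      exact (hle (hRs.symm ▸ hy)).2 v hv
    obtain ⟨rfl, a, T', instT', β, M, instM, actM, cl, B, hM, hSM, hzero, -⟩ :=
      exceptional hr hs hp hclass hpow hcopr hcopV hcoprV hq hexp hgen hT hN hN0 hmin hmove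
        fun v _ => hC v
    haveI := hM.finite
    -- everything is moved
    let G₂ : Subgroup Γ :=
      { carrier := {g | ∃ hg : g ∈ R, cl ⟨g, hg⟩ ∈ movedSub M (zpowers s)}
        one_mem' := ⟨one_mem R, by
          have h1 := hM.map_mul 1 1
          rw [mul_one] at h1
          rw [show (⟨1, one_mem R⟩ : R) = 1 from rfl, left_eq_add.1 h1]
          exact zero_mem _⟩
        mul_mem' := fun {g k} ⟨hg, hg'⟩ ⟨hk, hk'⟩ => ⟨mul_mem hg hk, by
          rw [show (⟨g * k, mul_mem hg hk⟩ : R) = ⟨g, hg⟩ * ⟨k, hk⟩ from rfl, hM.map_mul]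
          exact add_mem hg' hk'⟩
        inv_mem' := fun {g} ⟨hg, hg'⟩ => ⟨inv_mem hg, by
          have h1 := hM.map_mul ⟨g, hg⟩ ⟨g⁻¹, inv_mem hg⟩
          have h2 := hM.map_mul 1 1
          rw [mul_one] at h2
          rw [show (⟨g, hg⟩ : R) * ⟨g⁻¹, inv_mem hg⟩ = 1 from mul_inv_cancel _,
            left_eq_add.1 h2] at h1
          rw [eq_neg_of_add_eq_zero_right h1.symm]
          exact neg_mem hg'⟩ }
    have hG₂ : ⁅R, zpowers s⁆ ≤ G₂ := commutator_le.2 fun c hc g hg => by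
      have hcg : ⁅c, g⁆ ∈ R := by rw [← hRs]; exact commutator_mem_commutator hc hg
      refine ⟨hcg, ?_⟩
      have h1 := hM.map_mul ⟨⁅c, g⁆, hcg⟩ ⟨g * c * g⁻¹, hRn.conj_mem _ hc g⟩
      rw [show (⟨⁅c, g⁆, hcg⟩ : R) * ⟨g * c * g⁻¹, hRn.conj_mem _ hc g⟩ = ⟨c, hc⟩ from
        Subtype.ext (by simp [commutatorElement_def, mul_assoc]), hM.map_conj g ⟨c, hc⟩] at h1
      rw [show cl ⟨⁅c, g⁆, hcg⟩ = -(g • cl ⟨c, hc⟩ - cl ⟨c, hc⟩) by
        rw [neg_sub]; exact eq_sub_of_add_eq h1.symm]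
      exact neg_mem (sub_mem_movedSub hg _)
    obtain ⟨hu', hum⟩ := hG₂ (hRs.symm ▸ hu)
    have h1 := hSM.pow_smul_moved hxs (hM.isometry x) hum
    obtain ⟨j, hj⟩ := exists_pow_eq_self_of_coprime hxr.symm
    have h2 : x • cl ⟨u, hu'⟩ = cl ⟨u, hu'⟩ := by
      conv_lhs => rw [← hj]
      clear hj
      induction j with
      | zero => rw [pow_zero, one_smul]
      | succ j ih => rw [pow_succ, mul_smul, h1, ih]
    have h3 := hM.map_mul ⟨⁅x, u⁆, hxu⟩ ⟨u, hu'⟩
    rw [show (⟨⁅x, u⁆, hxu⟩ : R) * ⟨u, hu'⟩ = ⟨x * u * x⁻¹, hRn.conj_mem _ hu x⟩ from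
      Subtype.ext (by simp [commutatorElement_def]), hM.map_conj x ⟨u, hu'⟩, h2] at h3
    exact (hzero ⟨⁅x, u⁆, hxu⟩).1 (right_eq_add.1 h3) b hb
  -- central elements trivial on every minimal part are trivial
  let K : Subgroup Γ :=
    { carrier := {z | z ∈ cenIn R ∧ ∀ N, IsMin N → ∀ v ∈ N, z • v = v}
      one_mem' := ⟨one_mem _, fun _ _ v _ => one_smul Γ v⟩
      mul_mem' := fun {g k} hg hk => ⟨mul_mem hg.1 hk.1, fun N hN v hv => by
        rw [mul_smul, hk.2 N hN v hv, hg.2 N hN v hv]⟩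
      inv_mem' := fun {g} hg => ⟨inv_mem hg.1, fun N hN v hv => by
        rw [inv_smul_eq_iff, hg.2 N hN v hv]⟩ }
  have hKn : H ≤ normalizer (K : Set Γ) := le_normalizer_iff.2 fun g hg z hz =>
    ⟨(inferInstance : (cenIn R).Normal).conj_mem _ hz.1 g, fun N hN v hv => by
      rw [mul_smul, mul_smul, hz.2 N hN _ (hN.2.1 _ (inv_mem hg) v hv), smul_inv_smul]⟩
  have hKcop : (Nat.card K).Coprime (Nat.card V) :=
    hcopV.coprime_dvd_left (card_dvd_of_le fun z hz => (mem_cenIn.1 hz.1).1)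
  by_contra hne
  have hmem : ⁅⁅x, u⁆, b⁆ ∈ K := ⟨hclass _ hxu _ hb, hmain⟩
  have hU : movedSub V K ≠ ⊥ := fun hb' => hne (hfaith _ fun v => sub_eq_zero.1
    (AddSubgroup.mem_bot.1 (hb' ▸ sub_mem_movedSub hmem v)))
  obtain ⟨N, hNU, hN0, hN, hmin⟩ := exists_minimal_inv (isInv_movedSub hKn) hU
  obtain ⟨v, hv, hv0⟩ := (AddSubgroup.bot_or_exists_ne_zero N).resolve_left hN0
  exact hv0 (fixedSub_inf_movedSub hKcop
    (mem_fixedSub.2 fun z hz => hz.2 N ⟨hN0, hN, hmin⟩ v hv) (hNU hv))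

end CfsgLib.Solvable.TurullHeight
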