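import Cfsg.Agent.Lib.Solvable.TurullHeight.Datum
import Cfsg.Agent.Lib.Solvable.TurullHeight.Exceptional

/-!
# Below the first moved member

The fixed elements of the chain below the first moved member are low.
-/

set_option autoImplicit false

namespace CfsgLib.Solvable.TurullHeight

open Subgroup CfsgLib
open scoped commutatorElement

universe u

theorem map_mem_cenIn {X Y : Type*} [Group X] [Group Y] (f : X →* Y) {R : Subgroup X} {a : X}
    (ha : a ∈ cenIn R) : f a ∈ cenIn (R.map f) :=
  mem_cenIn.2 ⟨mem_map_of_mem f (mem_cenIn.1 ha).1, by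
    rintro _ ⟨b, hb, rfl⟩
    rw [← map_mul, ← map_mul, (mem_cenIn.1 ha).2 b hb]⟩

theorem class2_map {X Y : Type*} [Group X] [Group Y] (f : X →* Y) {R : Subgroup X}
    (h : ∀ a ∈ R, ∀ b ∈ R, ⁅a, b⁆ ∈ cenIn R) :
    ∀ a ∈ R.map f, ∀ b ∈ R.map f, ⁅a, b⁆ ∈ cenIn (R.map f) := by
  rintro _ ⟨a, ha, rfl⟩ _ ⟨b, hb, rfl⟩
  rw [← map_commutatorElement]
  exact map_mem_cenIn f (h a ha b hb)

theorem class2_subgroupOf {X : Type*} [Group X] {R H : Subgroup X}
    (h : ∀ a ∈ R, ∀ b ∈ R, ⁅a, b⁆ ∈ cenIn R) :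
    ∀ a ∈ R.subgroupOf H, ∀ b ∈ R.subgroupOf H, ⁅a, b⁆ ∈ cenIn (R.subgroupOf H) := fun a ha b hb =>
  mem_cenIn.2 ⟨(mem_cenIn.1 (h _ ha _ hb)).1, fun y hy =>
    Subtype.ext ((mem_cenIn.1 (h _ ha _ hb)).2 _ hy)⟩

theorem sup_subgroupOf_eq_top {X : Type*} [Group X] {A H : Subgroup X} (hA : A ≤ H) {s : X}
    (hs : s ∈ H) (hH : A ⊔ zpowers s = H) : A.subgroupOf H ⊔ zpowers (⟨s, hs⟩ : H) = ⊤ := by
  refine map_injective H.subtype_injective ?_
  rw [Subgroup.map_sup, map_subgroupOf_eq_of_le hA, MonoidHom.map_zpowers,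
    ← MonoidHom.range_eq_map, Subgroup.range_subtype]
  exact hH

variable {Γ : Type u} [Group Γ]

theorem mem_normalizer_map_subgroupOf {H A : Subgroup Γ} {Δ : Type*} [Group Δ] (f : H →* Δ) {g : H}
    (hg : (g : Γ) ∈ normalizer (A : Set Γ)) :
    f g ∈ normalizer ((A.subgroupOf H).map f : Set Δ) :=
  le_normalizer_map f (mem_map_of_mem f (show g ∈ normalizer (A.subgroupOf H : Set H) from
    mem_normalizer_iff.2 fun x => by
      simp only [mem_subgroupOf, Subgroup.coe_mul, InvMemClass.coe_inv]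
      exact mem_normalizer_iff.1 hg _))

namespace Moved

variable {G : Subgroup Γ} {s : Γ} {r n : ℕ} {P : ℕ → Subgroup Γ} {p : ℕ → ℕ}
  {K F : ℕ → Subgroup Γ} {k : ℕ}

/-- Fixed classes of a layer lift to fixed elements. -/
theorem exists_fixed_lift [Finite Γ] (hC : Config G s r n P p K F) {i : ℕ} (hi : 1 ≤ i)
    (hih : i ≤ n + 3) {H : Subgroup Γ} (hsH : s ∈ H) {V : Type u} [AddCommGroup V]
    [DistribMulAction H V] {cl : P i → V} (hV : LayerModule H (P i) (den P K i) V cl) {c : V}
    (hc : (⟨s, hsH⟩ : H) • c = c) : ∃ y : P i, s * y = y * s ∧ cl y = c := by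
  have hT := hC.tower
  obtain ⟨a, rfl⟩ := hV.surj c
  have hsa : s * a * s⁻¹ ∈ P i := (mem_normalizer_iff.1 (hT.norm_s i hi hih) _).1 a.2
  have hfix : ⁅s, (a : Γ)⁆ ∈ den P K i := by
    have h1 : cl (⟨s * a * s⁻¹, hsa⟩ * a⁻¹) = 0 := by
      rw [hV.map_mul, hV.map_inv]
      exact (congrArg (· + -cl a) ((hV.map_conj ⟨s, hsH⟩ a hsa).trans hc)).trans (add_neg_cancel _)
    exact (hV.eq_zero _).1 h1
  obtain ⟨y, hy, hys, hya⟩ := hT.exists_fixed hC.pow hC.cop hi hih (hT.den_le hi hih)
    (hT.upper_le_normalizer_den le_rfl hi hih (mem_upper i))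
    ((le_upper hi le_rfl).trans (hT.upper_le_normalizer_den le_rfl hi hih)) a.2 hfix
  refine ⟨⟨y, hy⟩, hys, ?_⟩
  have h1 : cl (⟨y, hy⟩ * a⁻¹) = 0 := (hV.eq_zero _).2 hya
  rwa [hV.map_mul, hV.map_inv, add_neg_eq_zero] at h1

/-- Fixed elements of the chain below the first moved member are low. -/
theorem low_of_mem [Finite Γ] (hM : Moved G s r n P p K F k) :
    ∀ (e i : ℕ), i + e = n + 3 → k < i → ∀ x ∈ P i, s * x = x * s → x ∈ F e →
      Low P K s n k i x := by
  classical
  have hC := hM.config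
  have hT := hC.tower
  intro e
  induction e with
  | zero =>
    intro i _ _ x _ _ hxF
    rw [hC.F_zero, mem_bot] at hxF
    exact Or.inl hxF
  | succ e ih =>
    intro i hie hki x hx hxs hxF
    obtain ⟨j, rfl⟩ : ∃ j, i = j + 1 := ⟨i - 1, by omega⟩
    have hkj : k ≤ j := by omega
    have hj : 1 ≤ j := hM.one_le.trans hkj
    refine Or.inr ⟨by omega, ?_⟩
    haveI := Fact.mk (hT.prime (j + 1) (by omega) (by omega))
    haveI := Fact.mk (hT.prime j hj (by omega))
    haveI := Fact.mk (hT.prime (j + 1 + 1) (by omega) (by omega))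
    obtain ⟨hYle, hYn, hYs, -⟩ := hM.towerY_spec j hkj (by omega)
    obtain ⟨hY'le, hY'n, hY's, -⟩ := hM.towerY_spec (j + 1) (by omega) (by omega)
    -- the module
    set H := P (j + 1) ⊔ zpowers s ⊔ P j with hHdef
    have hP1 : P (j + 1) ≤ H := le_sup_of_le_left le_sup_left
    have hPj : P j ≤ H := le_sup_right
    have hsH : s ∈ H := mem_sup_left (mem_sup_right (mem_zpowers s))
    have hH : H ≤ upper P s (j + 1) := sup_le (sup_le (le_upper (by omega) le_rfl)
      (zpowers_le.2 (mem_upper _))) (le_upper hj (by omega))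
    have hH2 : H ≤ upper P s (j + 1 + 1) := hH.trans (upper_mono (by omega))
    obtain ⟨V, instV, actV, cl, hV⟩ := hT.exists_module (i := j + 1 + 1) (j := j + 1) (by omega)
      (by omega) (by omega) hH
    haveI := hV.finite
    haveI := finite_actGroup (Γ := H) (V := V)
    set π := actHom H V with hπ
    haveI hRn : (((P (j + 1)).subgroupOf H).map π).Normal :=
      normal_image hP1 (hH.trans (hT.upper_le_normalizer le_rfl (by omega) (by omega)))
    set R := ((P (j + 1)).subgroupOf H).map π with hR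
    let s₂ := π ⟨s, hsH⟩
    set H₁ := R ⊔ zpowers s₂ with hH₁
    have hRH₁ : R ≤ H₁ := le_sup_left
    have hs₁ : s₂ ∈ H₁ := mem_sup_right (mem_zpowers s₂)
    set E := movedSub V ((towerY P s k (j + 1)).subgroupOf H) with hE
    have hY'H : towerY P s k (j + 1) ≤ H := hY'le.trans hP1
    set Y₂ := ((towerY P s k (j + 1)).subgroupOf H).map π with hY₂
    have hEinv : IsInv H₁ E := by
      rw [hE, ← movedSub_map]
      refine isInv_movedSub (sup_le ?_ (zpowers_le.2 (mem_normalizer_map_subgroupOf π hY's)))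
      rintro _ ⟨u, hu, rfl⟩
      exact mem_normalizer_map_subgroupOf π (hY'n hu)
    have hinvE : IsInv (⊤ : Subgroup H₁) E := fun g _ v hv => hEinv g g.2 v hv
    haveI := finite_resGroup hinvE
    set πE := resHom E hinvE with hπE
    haveI : (R.subgroupOf H₁).Normal := hRn.subgroupOf H₁
    haveI hREn : ((R.subgroupOf H₁).map πE).Normal :=
      Subgroup.Normal.map inferInstance πE (resHom_surjective hinvE)
    set RE := (R.subgroupOf H₁).map πE with hRE
    let sE := πE ⟨s₂, hs₁⟩
    let xE := πE ⟨π ⟨x, hP1 hx⟩, hRH₁ (mem_map_of_mem π hx)⟩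
    have hxsE : xE * sE = sE * xE := by
      show πE _ * πE _ = πE _ * πE _
      rw [← map_mul, ← map_mul]
      refine congrArg πE (Subtype.ext ?_)
      show π _ * π _ = π _ * π _
      rw [← map_mul, ← map_mul]
      exact congrArg π (Subtype.ext hxs.symm)
    have hcardV : Nat.card V ∣ Nat.card (P (j + 1 + 1)) := hV.card_dvd
    have hcoprV : r.Coprime (Nat.card V) :=
      (hC.coprime_r (by omega) (by omega)).symm.coprime_dvd_right hcardV
    have hRcopV : (Nat.card R).Coprime (Nat.card V) :=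
      ((hT.coprime_card (by omega) (by omega)).coprime_dvd_right hcardV).coprime_dvd_left
        (card_image_dvd hP1)
    have hcardE : Nat.card E ∣ Nat.card V := AddSubgroup.card_addSubgroup_dvd_card E
    have hexp : ∀ v : V, p (j + 1 + 1) • v = 0 := hT.nsmul_module (by omega) (by omega) hV
    -- the characters
    obtain ⟨T, instT, Ω, hsep, hstab, hkill⟩ :=
      hM.exists_datum (i := j + 1) (by omega) (by omega) hH hsH hY'H hV hE
    have hD : IsDatum (resGroup E hinvE) Ω := by
      refine ⟨fun g ω hω => ?_, hsep⟩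
      obtain ⟨⟨g₁, hg⟩, rfl⟩ := resHom_surjective hinvE g
      obtain ⟨g', rfl⟩ := actHom_surjective g₁
      exact hstab g' ω hω _ fun v => rfl
    have hx2 : ∀ c : E, sE • c = c → xE • c - c ∈ killedSub Ω sE := by
      intro c hc
      refine sub_mem_of_twice (fun w hw => smul_mem_killedSub hD hxsE hw) ?_ ?_
      · refine ((coprime_orderOf_card (hT.pgroup (j + 1) (by omega) (by omega))
          (hT.pgroup (j + 1 + 1) (by omega) (by omega)) (hT.ne (j + 1) (by omega) (by omega)) hx)
          |>.coprime_dvd_left ?_).coprime_dvd_right (hcardE.trans hcardV)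
        refine (orderOf_map_dvd πE _).trans ?_
        rw [← orderOf_injective H₁.subtype H₁.subtype_injective]
        refine (orderOf_map_dvd π _).trans ?_
        rw [← orderOf_injective H.subtype H.subtype_injective]
        exact dvd_rfl
      obtain ⟨y, hys, hyc⟩ := exists_fixed_lift hC (i := j + 1 + 1) (by omega) (by omega) hsH hV
        (c := (c : V)) (congrArg Subtype.val hc)
      have hH' : H ≤ normalizer (P (j + 1 + 1) : Set Γ) :=
        hH.trans (hT.upper_le_normalizer (by omega) (by omega) (by omega))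
      have hyx := LayerModule.commutator_mem hH' y (⟨x, hP1 hx⟩ : H)
      have hyxx := LayerModule.commutator_mem hH' (⟨_, hyx⟩ : P (j + 1 + 1)) (⟨x, hP1 hx⟩ : H)
      have hzs : s * ⁅⁅(y : Γ), x⁆, x⁆ = ⁅⁅(y : Γ), x⁆, x⁆ * s :=
        commutator_fixed (commutator_fixed hys hxs) hxs
      have hzF : ⁅⁅(y : Γ), x⁆, x⁆ ∈ F e := hC.F_comm e _
        (hC.F_norm _ x hxF y (hT.le _ (by omega) (by omega) y.2) hys) x hxF
        (hC.coprime_orderOf (i := j + 1 + 1) (j := j + 1) (by omega) (by omega) (by omega) (by omega)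
          (hT.ne (j + 1) (by omega) (by omega)).symm hyx hx)
      have hlow := ih (j + 1 + 1) (by omega) (by omega) _ hyxx hzs hzF
      have hcl : cl ⟨_, hyxx⟩ = ((xE • (xE • c - c) - (xE • c - c) : E) : V) := by
        rw [hV.map_commutator ⟨_, hyx⟩ ⟨x, hP1 hx⟩ hyxx, hV.map_commutator y ⟨x, hP1 hx⟩ hyx, hyc,
          smul_sub, AddSubgroup.coe_sub, AddSubgroup.coe_sub, smul_sub, AddSubgroup.coe_sub]
        show _ = (⟨x, hP1 hx⟩ : H) • (⟨x, hP1 hx⟩ : H) • (c : V) - (⟨x, hP1 hx⟩ : H) • (c : V) -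
          ((⟨x, hP1 hx⟩ : H) • (c : V) - (c : V))
        abel
      have hxc : sE • (xE • c - c) = xE • c - c := by
        rw [smul_sub, ← mul_smul, ← hxsE, mul_smul, hc]
      refine ⟨by rw [smul_sub, ← mul_smul, ← hxsE, mul_smul, hxc], fun ω hω hωm => ?_⟩
      obtain ⟨u, hu⟩ := hωm
      have h1 := hkill ⟨_, hyxx⟩ hzs hlow (by rw [hcl]; exact Subtype.prop _) ω hω
        ⟨u, sE • u, rfl, hu⟩
      refine Eq.trans ?_ h1
      exact congrArg ω (Subtype.ext hcl.symm)
    -- the element is trivial on the derived part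
    suffices hxE : xE = 1 by
      intro a ha
      have hH' : H ≤ normalizer (P (j + 1 + 1) : Set Γ) :=
        hH.trans (hT.upper_le_normalizer (by omega) (by omega) (by omega))
      have haP : a ∈ P (j + 1 + 1) := ((commutator_mono le_rfl hY'le).trans
        (hT.commutator_le' (by omega) (by omega))) ha
      have haE : cl ⟨a, haP⟩ ∈ E := (hV.mem_movedSub_iff hH' hY'H).2 ⟨⟨a, haP⟩, ha, rfl⟩
      have hc := LayerModule.commutator_mem hH' (⟨a, haP⟩ : P (j + 1 + 1)) (⟨x, hP1 hx⟩ : H)
      refine (hV.eq_zero ⟨_, hc⟩).1 ?_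
      rw [hV.map_commutator ⟨a, haP⟩ ⟨x, hP1 hx⟩ hc, sub_eq_zero]
      exact ((resHom_eq_one_iff hinvE _).1 hxE _ haE).symm
    by_contra hxE
    -- a minimal part moved by the normal closure
    set Q := normalClosure ({xE} : Set (resGroup E hinvE)) with hQ
    have hxER : xE ∈ RE :=
      mem_map_of_mem πE (mem_subgroupOf.2 (mem_map_of_mem π (mem_subgroupOf.2 hx)))
    have hQR : Q ≤ RE := normalClosure_le_normal (Set.singleton_subset_iff.2 hxER)
    have hQcop : (Nat.card Q).Coprime (Nat.card E) :=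
      ((hRcopV.coprime_dvd_left ((card_dvd_of_le hQR).trans ((Subgroup.card_map_dvd _ _).trans
        (Nat.card_congr (subgroupOfEquivOfLe hRH₁).toEquiv).dvd)))).coprime_dvd_right hcardE
    have hU : movedSub E Q ≠ ⊥ := fun hb => hxE (resGroup_faithful hinvE _ fun v => sub_eq_zero.1
      (AddSubgroup.mem_bot.1
        (hb ▸ sub_mem_movedSub (subset_normalClosure (Set.mem_singleton xE)) v)))
    obtain ⟨N, hNU, hN0, hNinv, hNmin⟩ := exists_minimal_inv
      (isInv_movedSub (H := (⊤ : Subgroup (resGroup E hinvE))) (Q := Q)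
        (by rw [normalizer_eq_top])) hU
    set N' := N.map E.subtype with hN'
    have hN'inv : IsInv H₁ N' := by
      rintro g hg _ ⟨w, hw, rfl⟩
      exact ⟨πE ⟨g, hg⟩ • w, hNinv _ trivial w hw, rfl⟩
    have hN'0 : N' ≠ ⊥ := fun hb =>
      hN0 ((AddSubgroup.map_eq_bot_iff_of_injective _ E.subtype_injective).1 hb)
    have hN'min : ∀ U ≤ N', IsInv H₁ U → U = ⊥ ∨ U = N' := by
      intro U hU' hUi
      have hUE : U ≤ E := hU'.trans (by rintro _ ⟨w, -, rfl⟩; exact w.2)
      have he : (U.comap E.subtype).map E.subtype = U := by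
        ext v
        exact ⟨fun ⟨w, hw, e⟩ => e ▸ hw, fun hv => ⟨⟨v, hUE hv⟩, hv, rfl⟩⟩
      rcases hNmin (U.comap E.subtype) (fun w hw => by
          obtain ⟨w', hw', e⟩ := hU' hw
          rwa [← E.subtype_injective e]) (fun g _ w hw => by
          obtain ⟨⟨k', hk'⟩, rfl⟩ := resHom_surjective hinvE g
          exact hUi k' hk' _ hw) with hb | ht
      · exact Or.inl (by rw [← he, hb, AddSubgroup.map_bot])
      · exact Or.inr (by rw [← he, ht])
    -- `s` moves the part
    set Yj := ((towerY P s k j).subgroupOf H).map π with hYj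
    have hRY : ⁅R, Yj⁆ = (⁅P (j + 1), towerY P s k j⁆.subgroupOf H).map π := by
      rw [hYj]
      show ⁅((P (j + 1)).subgroupOf H).map π, _⁆ = _
      rw [← Subgroup.map_commutator]
      congr 1
      refine map_injective H.subtype_injective ?_
      rw [Subgroup.map_commutator, map_subgroupOf_eq_of_le hP1,
        map_subgroupOf_eq_of_le (hYle.trans hPj), map_subgroupOf_eq_of_le
          (((commutator_mono le_rfl hYle).trans (hT.commutator_le' hj (by omega))).trans hP1)]
    have hmove : ∃ y ∈ ⁅R, Yj⁆, ∃ v ∈ N', ⁅y, s₂⁆ • v ≠ v := by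
      by_contra hno
      push Not at hno
      set M₀ := ((fixer N').comap π).map H.subtype with hM₀
      have hM₀n : ∀ g : H, π g ∈ H₁ → (g : Γ) ∈ normalizer (M₀ : Set Γ) := fun g hg => by
        refine le_normalizer_map H.subtype (mem_map_of_mem H.subtype ?_)
        refine mem_normalizer_iff.2 fun z => ?_
        rw [Subgroup.mem_comap, Subgroup.mem_comap, map_mul, map_mul, map_inv]
        exact mem_normalizer_iff.1 (le_normalizer_fixer hN'inv hg) _
      have hA : ⁅⁅P (j + 1), towerY P s k j⁆, zpowers s⁆ ≤ M₀ := by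
        refine commutator_zpowers_le (hM₀n ⟨s, hsH⟩ hs₁) fun a ha => ?_
        have haH : a ∈ H :=
          (((commutator_mono le_rfl hYle).trans (hT.commutator_le' hj (by omega))).trans hP1) ha
        refine ⟨⁅(⟨a, haH⟩ : H), ⟨s, hsH⟩⁆, ?_, rfl⟩
        show π _ ∈ fixer N'
        rw [map_commutatorElement]
        exact hno _ (hRY ▸ mem_map_of_mem π (show (⟨a, haH⟩ : H) ∈
          ⁅P (j + 1), towerY P s k j⁆.subgroupOf H from ha))
      have hY'M : towerY P s k (j + 1) ≤ M₀ := by
        rw [Moved.towerY_succ hkj]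
        refine sup_le hA (commutator_le.2 fun b hb g hg => ?_)
        rw [commutatorElement_def, mul_assoc, mul_assoc, ← mul_assoc g]
        exact mul_mem (hA hb) ((mem_normalizer_iff.1
          (hM₀n ⟨g, hP1 hg⟩ (hRH₁ (mem_map_of_mem π (mem_subgroupOf.2 hg)))) _).1 (inv_mem (hA hb)))
      obtain ⟨v, hv, hv0⟩ := (AddSubgroup.bot_or_exists_ne_zero N').resolve_left hN'0
      refine hv0 (fixedSub_inf_movedSub (Q := Y₂) ?_ (mem_fixedSub.2 ?_) ?_)
      · exact hRcopV.coprime_dvd_left (card_dvd_of_le (Subgroup.map_mono fun z hz => hY'le hz))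
      · rintro _ ⟨z, hz, rfl⟩
        obtain ⟨z', hz', e⟩ := hY'M hz
        obtain rfl : z' = z := H.subtype_injective e
        exact hz' v hv
      · rw [hY₂, movedSub_map, ← hE]
        obtain ⟨w, -, rfl⟩ := hv
        exact w.2
    have hTn : ∀ g : H, (g : Γ) ∈ normalizer (P j : Set Γ) →
        π g ∈ normalizer (((P j).subgroupOf H).map π : Set (actGroup H V)) := fun g hg =>
      mem_normalizer_map_subgroupOf π hg
    obtain ⟨c, hcN, hcs, hc0⟩ := exists_fixed_bottom (R := R) (s := s₂) hC.prime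
      (by rw [← map_pow, show (⟨s, hsH⟩ : H) ^ r = 1 from Subtype.ext hC.pow, map_one])
      (p := p (j + 1)) (((hT.pgroup (j + 1) (by omega) (by omega)).of_equiv
        (subgroupOfEquivOfLe hP1).symm).map π)
      (hT.class2_image (by omega) (by omega) hH2 hP1 hV)
      (hT.pow_image (by omega) (by omega) hH2 hP1 hV)
      ((hC.coprime_r (by omega) (by omega)).coprime_dvd_left (card_image_dvd hP1))
      hRcopV hcoprV (hT.prime (j + 1 + 1) (by omega) (by omega)) hexp
      (T := ((P j).subgroupOf H).map π) (Y := Yj) (p' := p j)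
      (((hT.pgroup j hj (by omega)).of_equiv (subgroupOfEquivOfLe hPj).symm).map π)
      (hT.ne j hj (by omega)) (hC.ne_r hj (by omega))
      (by
        show ((P (j + 1)).subgroupOf H).map π ⊔ zpowers (π ⟨s, hsH⟩) ⊔ ((P j).subgroupOf H).map π = ⊤
        rw [← MonoidHom.map_zpowers, ← Subgroup.map_sup, ← Subgroup.map_sup,
          ← map_top_of_surjective π actHom_surjective]
        congr 1
        refine map_injective H.subtype_injective ?_
        rw [Subgroup.map_sup, Subgroup.map_sup, map_subgroupOf_eq_of_le hP1,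
          map_subgroupOf_eq_of_le hPj, MonoidHom.map_zpowers, ← MonoidHom.range_eq_map,
          Subgroup.range_subtype]
        rfl)
      (hT.commute_image hj (by omega) hH2 hV)
      (hTn ⟨s, hsH⟩ (hT.norm_s j hj (by omega)))
      (Subgroup.map_mono fun z hz => hYle hz)
      (by rintro _ ⟨t, ht, rfl⟩; exact mem_normalizer_map_subgroupOf π (hYn ht))
      (mem_normalizer_map_subgroupOf π hYs) hN'inv hN'0 hN'min hmove
    -- the criterion on the part
    haveI := finite_resGroup hNinv
    set πN := resHom N hNinv with hπN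
    haveI : (RE.map πN).Normal := hREn.map πN (resHom_surjective hNinv)
    have hcardN : Nat.card N ∣ Nat.card V := (AddSubgroup.card_addSubgroup_dvd_card N).trans hcardE
    have hRNcard : Nat.card (RE.map πN) ∣ Nat.card R := (Subgroup.card_map_dvd _ _).trans
      ((Subgroup.card_map_dvd _ _).trans (Nat.card_congr (subgroupOfEquivOfLe hRH₁).toEquiv).dvd)
    have hgenE : RE ⊔ zpowers sE = ⊤ := by
      show (R.subgroupOf H₁).map πE ⊔ zpowers (πE ⟨s₂, hs₁⟩) = ⊤
      rw [← MonoidHom.map_zpowers, ← Subgroup.map_sup, sup_subgroupOf_eq_top hRH₁ hs₁ rfl,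
        map_top_of_surjective πE (resHom_surjective hinvE)]
    have hS : Setup (RE.map πN) (πN sE) r N :=
      { prime := hC.prime
        pow := by
          show πN (πE ⟨s₂, hs₁⟩) ^ r = 1
          rw [← map_pow, ← map_pow, show (⟨s₂, hs₁⟩ : H₁) ^ r = 1 from Subtype.ext (by
            show π ⟨s, hsH⟩ ^ r = 1
            rw [← map_pow, show (⟨s, hsH⟩ : H) ^ r = 1 from Subtype.ext hC.pow, map_one]),
            map_one, map_one]
        gen := by
          rw [← MonoidHom.map_zpowers, ← Subgroup.map_sup, hgenE,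
            map_top_of_surjective πN (resHom_surjective hNinv)]
        class2 := class2_map πN (class2_map πE (class2_subgroupOf
          (hT.class2_image (by omega) (by omega) hH2 hP1 hV)))
        copS := ((hC.coprime_r (by omega) (by omega)).coprime_dvd_left (card_image_dvd hP1))
          |>.coprime_dvd_left hRNcard
        copV := (hRcopV.coprime_dvd_left hRNcard).coprime_dvd_right hcardN
        coprV := hcoprV.coprime_dvd_right hcardN
        irr := fun U hU => by
          rcases hNmin (U.map N.subtype) (by rintro _ ⟨w, -, rfl⟩; exact w.2) (by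
            rintro g - _ ⟨w, hw, rfl⟩
            exact ⟨πN g • w, hU _ trivial w hw, rfl⟩) with hb | ht
          · exact Or.inl ((AddSubgroup.map_eq_bot_iff_of_injective _ N.subtype_injective).1 hb)
          · refine Or.inr (AddSubgroup.map_injective N.subtype_injective ?_)
            rw [← AddMonoidHom.range_eq_map, N.range_subtype, ht]
        faithful := resGroup_faithful hNinv }
    have hsmove : ∃ v : N, πN sE • v ≠ v := by
      obtain ⟨y, hy, v, hv, hyv⟩ := hmove
      by_contra hall
      push Not at hall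
      have hfix : ∀ w ∈ N', s₂ • w = w := by
        rintro _ ⟨w, hw, rfl⟩
        exact congrArg Subtype.val (congrArg Subtype.val (hall ⟨w, hw⟩))
      have hyR : y ∈ R := Subgroup.commutator_le_left R Yj hy
      have hv1 : y⁻¹ • v ∈ N' := hN'inv _ (hRH₁ (inv_mem hyR)) v hv
      refine hyv ?_
      have hfix' : s₂⁻¹ • v = v := by rw [inv_smul_eq_iff, hfix v hv]
      rw [commutatorElement_def, mul_smul, mul_smul, mul_smul, hfix', hfix _ hv1, smul_inv_smul]
    obtain ⟨c₁, hc₁, hc₁e⟩ := hcN
    have hx1 := hS.eq_one_of_sub_mem_killedSub (hD.restrict hNinv) hsmove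
      ⟨⟨c₁, hc₁⟩, Subtype.ext (Subtype.ext (show s₂ • (c₁ : V) = c₁ by
        rw [show (c₁ : V) = c from hc₁e]; exact hcs)),
        fun h0 => hc0 (hc₁e ▸ congrArg Subtype.val (congrArg Subtype.val h0))⟩
      (x := πN xE) (mem_map_of_mem πN hxER) (by rw [← map_mul, hxsE, map_mul])
      (fun w hw => coe_mem_killedSub_restrict hNinv (v := πN xE • w - w)
        (hx2 (w : E) (congrArg Subtype.val hw)))
    obtain ⟨v, hv, hv0⟩ := (AddSubgroup.bot_or_exists_ne_zero N).resolve_left hN0
    refine hv0 (fixedSub_inf_movedSub hQcop (mem_fixedSub.2 fun g hg => ?_) (hNU hv))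
    have hQker : Q ≤ πN.ker :=
      normalClosure_le_normal (Set.singleton_subset_iff.2 (MonoidHom.mem_ker.2 hx1))
    exact (resHom_eq_one_iff hNinv g).1 (hQker hg) v hv

end Moved

end CfsgLib.Solvable.TurullHeight
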