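import Cfsg.Agent.Lib.Solvable.TurullHeight.Layers
import Cfsg.Agent.Lib.Solvable.TurullHeight.Actions

/-!
# The configuration of a counterexample

A tower of `n + 3` members with a chain `F` of `n` nilpotent factors on the fixed points, and the
derived subgroups below the first member moved by the operator.
-/

set_option autoImplicit false

namespace CfsgLib.Solvable.TurullHeight

open Subgroup CfsgLib
open scoped commutatorElement

universe u

variable {Γ : Type u} [Group Γ]

/-- The derived subgroups below level `k`. -/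
def yAux (P : ℕ → Subgroup Γ) (s : Γ) (k : ℕ) : ℕ → Subgroup Γ
  | 0 => P k
  | e + 1 => ⁅⁅P (k + (e + 1)), yAux P s k e⁆, zpowers s⁆ ⊔
      ⁅⁅⁅P (k + (e + 1)), yAux P s k e⁆, zpowers s⁆, P (k + (e + 1))⁆

/-- The derived subgroup at level `i`. -/
def towerY (P : ℕ → Subgroup Γ) (s : Γ) (k i : ℕ) : Subgroup Γ := yAux P s k (i - k)

/-- A tower with a short chain on the fixed points. -/
structure Config (G : Subgroup Γ) (s : Γ) (r n : ℕ) (P : ℕ → Subgroup Γ) (p : ℕ → ℕ)
    (K F : ℕ → Subgroup Γ) : Prop where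
  tower : Tower G s (n + 3) P p K
  prime : r.Prime
  pow : s ^ r = 1
  cop : (Nat.card G).Coprime r
  F_zero : F 0 = ⊥
  F_top : ∀ m, n ≤ m → ∀ x ∈ G, s * x = x * s → x ∈ F m
  F_norm : ∀ m, ∀ x ∈ F m, ∀ d ∈ G, s * d = d * s → ⁅d, x⁆ ∈ F m
  F_comm : ∀ m, ∀ x ∈ F (m + 1), ∀ y ∈ F (m + 1), (orderOf x).Coprime (orderOf y) → ⁅x, y⁆ ∈ F m

/-- `k` is the first member moved by the operator. -/
structure Moved (G : Subgroup Γ) (s : Γ) (r n : ℕ) (P : ℕ → Subgroup Γ) (p : ℕ → ℕ)
    (K F : ℕ → Subgroup Γ) (k : ℕ) : Prop where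
  config : Config G s r n P p K F
  one_le : 1 ≤ k
  le : k ≤ n + 1
  above : ∀ l, 1 ≤ l → l < k → ∀ x ∈ P l, s * x = x * s
  moved : ∃ x ∈ P k, s * x ≠ x * s

theorem commutator_fixed {s a b : Γ} (ha : s * a = a * s) (hb : s * b = b * s) :
    s * ⁅a, b⁆ = ⁅a, b⁆ * s := by
  have h1 : Commute s a := ha
  have h2 : Commute s b := hb
  rw [commutatorElement_def]
  exact ((h1.mul_right h2).mul_right h1.inv_right).mul_right h2.inv_right |>.eq

namespace Config

variable {G : Subgroup Γ} {s : Γ} {r n : ℕ} {P : ℕ → Subgroup Γ} {p : ℕ → ℕ}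
  {K F : ℕ → Subgroup Γ}

theorem coprime_orderOf [Finite Γ] (hC : Config G s r n P p K F) {i j : ℕ} (hi : 1 ≤ i)
    (hih : i ≤ n + 3) (hj : 1 ≤ j) (hjh : j ≤ n + 3) (hne : p i ≠ p j) {x y : Γ} (hx : x ∈ P i)
    (hy : y ∈ P j) : (orderOf x).Coprime (orderOf y) := by
  haveI := Fact.mk (hC.tower.prime i hi hih)
  haveI := Fact.mk (hC.tower.prime j hj hjh)
  exact (coprime_orderOf_card (hC.tower.pgroup i hi hih) (hC.tower.pgroup j hj hjh) hne hx)
    |>.coprime_dvd_right (Subgroup.orderOf_dvd_natCard _ hy)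

theorem coprime_r [Finite Γ] (hC : Config G s r n P p K F) {i : ℕ} (hi : 1 ≤ i) (hih : i ≤ n + 3) :
    (Nat.card (P i)).Coprime r :=
  hC.cop.coprime_dvd_left (card_dvd_of_le (hC.tower.le i hi hih))

theorem ne_r [Finite Γ] (hC : Config G s r n P p K F) {i : ℕ} (hi : 1 ≤ i) (hih : i ≤ n + 3) :
    p i ≠ r := by
  intro he
  haveI := Fact.mk (hC.tower.prime i hi hih)
  obtain ⟨m, hm⟩ := (hC.tower.pgroup i hi hih).exists_card_eq
  have h1 := hC.coprime_r hi hih
  rw [hm, he] at h1
  rcases Nat.eq_zero_or_pos m with rfl | hm0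
  · rw [pow_zero, Subgroup.card_eq_one] at hm
    exact hC.tower.not_le_ker hi hih (by rw [hm]; exact bot_le)
  · exact hC.prime.ne_one (Nat.eq_one_of_dvd_coprimes h1 (dvd_pow_self r hm0.ne') dvd_rfl)

/-- Fixed elements of the chain are pushed up to the top of the tower. -/
theorem false_of_base [Finite Γ] (hC : Config G s r n P p K F) {i₀ : ℕ} (h1 : 1 ≤ i₀)
    (h2 : i₀ ≤ n + 1) (hcen : ∀ l, 1 ≤ l → l ≤ i₀ → ∀ x ∈ P l, s * x = x * s)
    (hbase : ∀ x ∈ P i₀, x ∈ F (n + 1 - i₀) → x ∈ K i₀) : False := by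
  have hT := hC.tower
  have key : ∀ e i, i + e = i₀ → 1 ≤ i → ∀ x ∈ P i, x ∈ F (n + 1 - i) → x ∈ K i := by
    intro e
    induction e with
    | zero =>
      intro i hie _
      obtain rfl : i = i₀ := by omega
      exact hbase
    | succ e ih =>
      intro i hie hi x hx hxF
      haveI := Fact.mk (hT.prime i hi (by omega))
      haveI := Fact.mk (hT.prime (i + 1) (by omega) (by omega))
      refine hT.mem_ker_of_trivial hi (by omega) hx fun d hd => Tower.ker_le_den ?_
      have hdx : ⁅d, x⁆ ∈ P (i + 1) :=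
        hT.commutator_le' hi (by omega) (commutator_mem_commutator hd hx)
      have hF1 : ⁅d, x⁆ ∈ F (n + 1 - i) :=
        hC.F_norm _ x hxF d (hT.le _ (by omega) (by omega) hd) (hcen _ (by omega) (by omega) d hd)
      have hF2 : ⁅⁅d, x⁆, x⁆ ∈ F (n - i) := by
        rw [show n + 1 - i = n - i + 1 by omega] at hF1 hxF
        exact hC.F_comm _ _ hF1 _ hxF (hC.coprime_orderOf (i := i + 1) (j := i) (by omega)
          (by omega) hi (by omega) (hT.ne i hi (by omega)).symm hdx hx)
      refine commutator_mem_of_twice (hT.ker_le (by omega) (by omega))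
        (hT.le_normalizer_ker (by omega) le_rfl (by omega))
        (hT.norm i (i + 1) hi (by omega) (by omega) hx)
        (hT.le_normalizer_ker hi (by omega) (by omega) hx)
        (coprime_orderOf_card (hT.pgroup i hi (by omega)) (hT.pgroup (i + 1) (by omega) (by omega))
          (hT.ne i hi (by omega)) hx) hd ?_
      refine ih (i + 1) (by omega) (by omega) _
        (hT.commutator_le' hi (by omega) (commutator_mem_commutator hdx hx)) ?_
      rw [show n + 1 - (i + 1) = n - i by omega]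
      exact hF2
  refine hT.top fun x hx => key (i₀ - 1) 1 (by omega) le_rfl x hx ?_
  rw [show n + 1 - 1 = n by omega]
  exact hC.F_top n le_rfl x (hT.le 1 le_rfl (by omega) hx) (hcen 1 le_rfl h1 x hx)

end Config

namespace Moved

variable {G : Subgroup Γ} {s : Γ} {r n : ℕ} {P : ℕ → Subgroup Γ} {p : ℕ → ℕ}
  {K F : ℕ → Subgroup Γ} {k : ℕ}

/-- Fixed elements of the moved layer lie in its Frattini part. -/
theorem mem_den_of_fixed [Finite Γ] (hM : Moved G s r n P p K F k) {x : Γ} (hx : x ∈ P k)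
    (hxs : s * x = x * s) : x ∈ den P K k := by
  have hC := hM.config
  have hT := hC.tower
  have hk : k ≤ n + 3 := by have := hM.le; omega
  set Q := (P k ⊓ centralizer ({s} : Set Γ)) ⊔ den P K k with hQ
  have hQn : ∀ g, g ∈ normalizer (P k : Set Γ) → g ∈ normalizer (den P K k : Set Γ) →
      s * g = g * s → g ∈ normalizer (Q : Set Γ) := by
    intro g hgP hgD hgs
    have h1 : g ∈ normalizer ((P k ⊓ centralizer ({s} : Set Γ) : Subgroup Γ) : Set Γ) := by
      refine mem_normalizer_fintype fun y hy => mem_inf.2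
        ⟨(mem_normalizer_iff.1 hgP y).1 (mem_inf.1 hy).1, mem_centralizer_singleton_iff.2 ?_⟩
      have hc : Commute g s := hgs.symm
      exact ((hc.mul_left (mem_centralizer_singleton_iff.1 (mem_inf.1 hy).2)).mul_left
        hc.inv_left).eq
    refine mem_normalizer_iff_map_conj_eq.2 ?_
    rw [hQ, Subgroup.map_sup, mem_normalizer_iff_map_conj_eq.1 h1,
      mem_normalizer_iff_map_conj_eq.1 hgD]
  rcases hT.eq_den_or_eq hM.one_le hk (Q := Q) le_sup_right
      (sup_le inf_le_left (hT.den_le hM.one_le hk))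
      (fun j hj hjk g hg => hQn g (hT.norm j k hj hjk.le hk hg)
        (((le_upper (s := s) hj hjk.le).trans (hT.upper_le_normalizer_den le_rfl hM.one_le hk)) hg)
        (hM.above j hj hjk g hg))
      (hQn s (hT.norm_s k hM.one_le hk)
        (hT.upper_le_normalizer_den le_rfl hM.one_le hk (mem_upper k)) rfl) with h | h
  · rw [← h]
    exact mem_sup_left (mem_inf.2 ⟨hx, mem_centralizer_singleton_iff.2 hxs.symm⟩)
  · exfalso
    obtain ⟨y, hy, hys⟩ := hM.moved
    refine hys (hT.le_centralizer_of_trivial hC.pow hC.cop hM.one_le hk hM.above (fun z hz => ?_) y hy)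
    have hDn : P k ⊓ centralizer ({s} : Set Γ) ≤ normalizer (den P K k : Set Γ) :=
      inf_le_left.trans ((le_upper (s := s) hM.one_le le_rfl).trans
        (hT.upper_le_normalizer_den le_rfl hM.one_le hk))
    rw [← h, hQ, sup_comm] at hz
    obtain ⟨d, hd, c, hc, rfl⟩ := (Coprime.mem_sup_of_le_normalizer hDn).1 hz
    have hcs := mem_centralizer_singleton_iff.1 (mem_inf.1 hc).2
    rw [show ⁅s, d * c⁆ = s * d * (c * s⁻¹ * c⁻¹) * d⁻¹ by
      simp only [commutatorElement_def]; group,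
      show c * s⁻¹ * c⁻¹ = s⁻¹ by
        rw [(show Commute c s from hcs).inv_right.eq, mul_inv_cancel_right]]
    exact mul_mem ((mem_normalizer_iff.1
      (hT.upper_le_normalizer_den le_rfl hM.one_le hk (mem_upper k)) d).1 hd) (inv_mem hd)

/-- The operator moves the whole layer `k`. -/
theorem commutator_sup_ker [Finite Γ] (hM : Moved G s r n P p K F k) :
    ⁅P k, zpowers s⁆ ⊔ K k = P k := by
  have hC := hM.config
  have hT := hC.tower
  have hk : k ≤ n + 3 := by have := hM.le; omega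
  have hsP : zpowers s ≤ normalizer (P k : Set Γ) := zpowers_le.2 (hT.norm_s k hM.one_le hk)
  have hle : ⁅P k, zpowers s⁆ ≤ P k := le_normalizer_iff_commutator_le_left.1 hsP
  refine hT.sup_ker_eq_of_sup_den hM.one_le hk hle (le_antisymm (sup_le hle (hT.den_le hM.one_le hk)) ?_)
  conv_lhs => rw [← Coprime.commutator_sup_centralizer hsP (hT.coprime_s hC.pow hC.cop hM.one_le hk)
    (Or.inl (Coprime.isSolvable_zpowers s))]
  exact sup_le_sup_left (fun x hx => hM.mem_den_of_fixed (mem_inf.1 hx).1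
    (mem_centralizer_iff.1 (mem_inf.1 hx).2 s (mem_zpowers s))) _

theorem towerY_self : towerY P s k k = P k := by
  rw [towerY, Nat.sub_self]; rfl

theorem towerY_succ {i : ℕ} (hi : k ≤ i) : towerY P s k (i + 1) =
    ⁅⁅P (i + 1), towerY P s k i⁆, zpowers s⁆ ⊔
      ⁅⁅⁅P (i + 1), towerY P s k i⁆, zpowers s⁆, P (i + 1)⁆ := by
  obtain ⟨e, rfl⟩ : ∃ e, i = k + e := ⟨i - k, by omega⟩
  rw [towerY, towerY, show k + e + 1 - k = e + 1 by omega, Nat.add_sub_cancel_left, yAux,
    show k + e + 1 = k + (e + 1) by omega]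

/-- The derived subgroups are invariant subgroups of their members. -/
theorem towerY_spec [Finite Γ] (hM : Moved G s r n P p K F k) :
    ∀ i, k ≤ i → i ≤ n + 3 → towerY P s k i ≤ P i ∧ P i ≤ normalizer (towerY P s k i : Set Γ) ∧
      s ∈ normalizer (towerY P s k i : Set Γ) ∧
      towerY P s k i ≤ ⁅P i, zpowers s⁆ ⊔ K i := by
  have hT := hM.config.tower
  have h1k := hM.one_le
  intro i hi
  induction i, hi using Nat.le_induction with
  | base =>
    intro hk
    rw [towerY_self]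
    exact ⟨le_rfl, le_normalizer, hT.norm_s k h1k hk, hM.commutator_sup_ker.ge⟩
  | succ i hi ih =>
    intro hih
    obtain ⟨hY, hPY, hsY, -⟩ := ih (by omega)
    rw [towerY_succ hi]
    have hPn : P (i + 1) ≤ normalizer (P (i + 1) : Set Γ) := le_normalizer
    have hA : ⁅P (i + 1), towerY P s k i⁆ ≤ P (i + 1) :=
      le_normalizer_iff_commutator_le_left.1 (hY.trans (hT.norm i (i + 1) (by omega) (by omega) hih))
    have hB : ⁅⁅P (i + 1), towerY P s k i⁆, zpowers s⁆ ≤ ⁅P (i + 1), zpowers s⁆ :=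
      commutator_mono hA le_rfl
    have hsP : zpowers s ≤ normalizer (P (i + 1) : Set Γ) :=
      zpowers_le.2 (hT.norm_s (i + 1) (by omega) hih)
    have hC' : ⁅P (i + 1), zpowers s⁆ ≤ P (i + 1) := le_normalizer_iff_commutator_le_left.1 hsP
    refine ⟨sup_le (hB.trans hC') ((commutator_mono (hB.trans hC') le_rfl).trans
      (le_normalizer_iff_commutator_le_left.1 hPn)), fun g hg => ?_, ?_, ?_⟩
    · refine mem_normalizer_fintype fun x hx => ?_
      have hn : ⁅⁅⁅P (i + 1), towerY P s k i⁆, zpowers s⁆, P (i + 1)⁆ ≤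
          ⁅⁅P (i + 1), towerY P s k i⁆, zpowers s⁆ ⊔
            ⁅⁅⁅P (i + 1), towerY P s k i⁆, zpowers s⁆, P (i + 1)⁆ := le_sup_right
      have hgn := normalizer_commutator_ge_right
        ⁅⁅P (i + 1), towerY P s k i⁆, zpowers s⁆ (P (i + 1)) hg
      have hle : ⁅⁅P (i + 1), towerY P s k i⁆, zpowers s⁆ ⊔
          ⁅⁅⁅P (i + 1), towerY P s k i⁆, zpowers s⁆, P (i + 1)⁆ ≤
          (⁅⁅P (i + 1), towerY P s k i⁆, zpowers s⁆ ⊔
            ⁅⁅⁅P (i + 1), towerY P s k i⁆, zpowers s⁆, P (i + 1)⁆).comap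
            (MulAut.conj g).toMonoidHom := by
        refine sup_le (fun a ha => ?_) fun a ha => ?_
        swap
        · show g * a * g⁻¹ ∈ ⁅⁅P (i + 1), towerY P s k i⁆, zpowers s⁆ ⊔
            ⁅⁅⁅P (i + 1), towerY P s k i⁆, zpowers s⁆, P (i + 1)⁆
          exact mem_sup_right ((mem_normalizer_iff.1 hgn a).1 ha)
        show g * a * g⁻¹ ∈ ⁅⁅P (i + 1), towerY P s k i⁆, zpowers s⁆ ⊔
          ⁅⁅⁅P (i + 1), towerY P s k i⁆, zpowers s⁆, P (i + 1)⁆
        rw [show g * a * g⁻¹ = ⁅a, g⁆⁻¹ * a by simp [commutatorElement_def, mul_assoc]]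
        exact mul_mem (inv_mem (hn (commutator_mem_commutator ha hg))) (mem_sup_left ha)
      exact hle hx
    · refine mem_normalizer_iff_map_conj_eq.2 ?_
      simp only [Subgroup.map_sup, Subgroup.map_commutator,
        mem_normalizer_iff_map_conj_eq.1 (hT.norm_s (i + 1) (by omega) hih),
        mem_normalizer_iff_map_conj_eq.1 hsY,
        mem_normalizer_iff_map_conj_eq.1 (le_normalizer (mem_zpowers s))]
    · refine le_sup_of_le_left (sup_le hB ((commutator_mono hB le_rfl).trans ?_))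
      exact le_normalizer_iff_commutator_le_left.1 (normalizer_commutator_ge_left (P (i + 1)) (zpowers s))

theorem commutator_mem_towerY {i : ℕ} (hi : k ≤ i) {a : Γ}
    (ha : a ∈ ⁅P (i + 1), towerY P s k i⁆) : ⁅a, s⁆ ∈ towerY P s k (i + 1) := by
  rw [towerY_succ hi]
  exact mem_sup_left (commutator_mem_commutator ha (mem_zpowers s))

end Moved

end CfsgLib.Solvable.TurullHeight
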