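import Cfsg.Agent.Lib.Solvable.TurullHeight.Config

/-!
# Data of characters on a layer

Below the first moved member there is a separating set of characters for which the fixed vectors
coming from low elements are killed.
-/

set_option autoImplicit false

namespace CfsgLib.Solvable.TurullHeight

open Subgroup CfsgLib
open scoped commutatorElement

universe u

variable {Γ : Type u} [Group Γ]

/-- The elements of level `i` acting trivially on the derived part of the next level. -/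
def Low (P K : ℕ → Subgroup Γ) (s : Γ) (n k i : ℕ) (x : Γ) : Prop :=
  x = 1 ∨ (i < n + 3 ∧ ∀ a ∈ ⁅P (i + 1), towerY P s k i⁆, ⁅a, x⁆ ∈ den P K (i + 1))

section Layer

variable {G : Subgroup Γ} {s : Γ} {h : ℕ} {P : ℕ → Subgroup Γ} {p : ℕ → ℕ} {K : ℕ → Subgroup Γ}
  {j : ℕ} {H : Subgroup Γ} {V : Type u} [AddCommGroup V] [DistribMulAction H V]
  {cl : P (j + 1) → V}

/-- The kernel acts trivially on the layer below it. -/
theorem Tower.actHom_eq_one [Finite Γ] (hT : Tower G s h P p K) (hj : 1 ≤ j) (hjh : j + 1 ≤ h)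
    (hH : H ≤ upper P s (j + 1)) (hV : LayerModule H (P (j + 1)) (den P K (j + 1)) V cl) {g : H}
    (hg : (g : Γ) ∈ K j) : actHom H V g = 1 := by
  refine (actHom_eq_one_iff g).2 fun v => ?_
  obtain ⟨a, rfl⟩ := hV.surj v
  have hc := LayerModule.commutator_mem (hH.trans (hT.upper_le_normalizer le_rfl (by omega) hjh)) a g
  have h1 := hV.map_commutator a g hc
  rw [(hV.eq_zero ⟨_, hc⟩).2 ?_] at h1
  · exact (sub_eq_zero.1 h1.symm).symm
  · show ⁅(a : Γ), (g : Γ)⁆ ∈ den P K (j + 1)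
    rw [← commutatorElement_inv]
    exact Tower.ker_le_den (inv_mem (((hT.ker j hj (by omega) _).1 hg).2 a a.2))

/-- Only the kernel acts trivially on the layer below. -/
theorem Tower.mem_ker_of_actHom_eq_one [Finite Γ] (hT : Tower G s h P p K) (hj : 1 ≤ j)
    (hjh : j + 1 ≤ h) (hH : H ≤ upper P s (j + 1))
    (hV : LayerModule H (P (j + 1)) (den P K (j + 1)) V cl) {g : H} (hgP : (g : Γ) ∈ P j)
    (hg : actHom H V g = 1) : (g : Γ) ∈ K j := by
  refine hT.mem_ker_of_trivial hj hjh hgP fun y hy => ?_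
  have hc := LayerModule.commutator_mem (hH.trans (hT.upper_le_normalizer le_rfl (by omega) hjh))
    (⟨y, hy⟩ : P (j + 1)) g
  refine (hV.eq_zero ⟨_, hc⟩).1 ?_
  rw [hV.map_commutator ⟨y, hy⟩ g hc, (actHom_eq_one_iff g).1 hg, sub_self]

theorem normal_image (hPH : P j ≤ H) (hHn : H ≤ normalizer (P j : Set Γ)) :
    (((P j).subgroupOf H).map (actHom H V)).Normal := by
  haveI : ((P j).subgroupOf H).Normal := (normal_subgroupOf_iff_le_normalizer hPH).2 hHn
  exact Subgroup.Normal.map inferInstance (actHom H V) actHom_surjective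

theorem card_image_dvd [Finite Γ] (hPH : P j ≤ H) :
    Nat.card (((P j).subgroupOf H).map (actHom H V)) ∣ Nat.card (P j) :=
  (((P j).subgroupOf H).card_map_dvd (actHom H V)).trans (Nat.card_congr (subgroupOfEquivOfLe hPH).toEquiv).dvd

/-- The Frattini part is central in the image. -/
theorem Tower.den_mem_cenIn [Finite Γ] (hT : Tower G s h P p K) (hj : 1 ≤ j) (hjh : j + 1 ≤ h)
    (hH : H ≤ upper P s (j + 1)) (hPH : P j ≤ H)
    (hV : LayerModule H (P (j + 1)) (den P K (j + 1)) V cl) {d : H} (hd : (d : Γ) ∈ den P K j) :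
    actHom H V d ∈ cenIn (((P j).subgroupOf H).map (actHom H V)) := by
  refine mem_cenIn.2 ⟨mem_map_of_mem _ (show (d : Γ) ∈ P j from hT.den_le hj (by omega) hd), ?_⟩
  rintro _ ⟨u, hu, rfl⟩
  rw [← commutatorElement_eq_one_iff_mul_comm, ← map_commutatorElement]
  refine hT.actHom_eq_one hj hjh hH hV ?_
  show ⁅(u : Γ), (d : Γ)⁆ ∈ K j
  rw [← commutatorElement_inv]
  exact inv_mem (hT.den_central hj (by omega) hd hu)

theorem Tower.class2_image [Finite Γ] (hT : Tower G s h P p K) (hj : 1 ≤ j) (hjh : j + 1 ≤ h)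
    (hH : H ≤ upper P s (j + 1)) (hPH : P j ≤ H)
    (hV : LayerModule H (P (j + 1)) (den P K (j + 1)) V cl) :
    ∀ a ∈ ((P j).subgroupOf H).map (actHom H V), ∀ b ∈ ((P j).subgroupOf H).map (actHom H V),
      ⁅a, b⁆ ∈ cenIn (((P j).subgroupOf H).map (actHom H V)) := by
  rintro _ ⟨a, ha, rfl⟩ _ ⟨b, hb, rfl⟩
  rw [← map_commutatorElement]
  exact hT.den_mem_cenIn hj hjh hH hPH hV (hT.commutator_mem_den hj (by omega) ha hb)

theorem Tower.pow_image [Finite Γ] (hT : Tower G s h P p K) (hj : 1 ≤ j) (hjh : j + 1 ≤ h)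
    (hH : H ≤ upper P s (j + 1)) (hPH : P j ≤ H)
    (hV : LayerModule H (P (j + 1)) (den P K (j + 1)) V cl) :
    ∀ a ∈ ((P j).subgroupOf H).map (actHom H V),
      a ^ p j ∈ cenIn (((P j).subgroupOf H).map (actHom H V)) := by
  rintro _ ⟨a, ha, rfl⟩
  rw [← map_pow]
  exact hT.den_mem_cenIn hj hjh hH hPH hV (by
    rw [SubmonoidClass.coe_pow]; exact hT.pow_mem_den hj (by omega) ha)

/-- The member above fixes the commutators of the image. -/
theorem Tower.commute_image [Finite Γ] {i : ℕ} {H : Subgroup Γ} {V : Type u} [AddCommGroup V]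
    [DistribMulAction H V] {cl : P (i + 1 + 1) → V} (hT : Tower G s h P p K) (hi : 1 ≤ i)
    (hih : i + 1 + 1 ≤ h) (hH : H ≤ upper P s (i + 1 + 1))
    (hV : LayerModule H (P (i + 1 + 1)) (den P K (i + 1 + 1)) V cl) :
    ∀ t ∈ ((P i).subgroupOf H).map (actHom H V),
      ∀ a ∈ ((P (i + 1)).subgroupOf H).map (actHom H V),
      ∀ b ∈ ((P (i + 1)).subgroupOf H).map (actHom H V), t * ⁅a, b⁆ = ⁅a, b⁆ * t := by
  rintro _ ⟨t, ht, rfl⟩ _ ⟨a, ha, rfl⟩ _ ⟨b, hb, rfl⟩
  rw [← map_commutatorElement, ← commutatorElement_eq_one_iff_mul_comm, ← map_commutatorElement]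
  refine hT.actHom_eq_one (by omega) hih hH hV ?_
  show ⁅(t : Γ), ⁅(a : Γ), (b : Γ)⁆⁆ ∈ K (i + 1)
  rw [← commutatorElement_inv]
  exact inv_mem (hT.commutator_den_le hi (by omega)
    (commutator_mem_commutator (hT.commutator_mem_den (by omega) (by omega) ha hb) ht))

end Layer

namespace Moved

variable {G : Subgroup Γ} {s : Γ} {r n : ℕ} {P : ℕ → Subgroup Γ} {p : ℕ → ℕ}
  {K F : ℕ → Subgroup Γ} {k : ℕ}

/-- A low element in a nonzero derived class makes the layer elementary abelian. -/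
theorem den_le_ker_of_low [Finite Γ] (hM : Moved G s r n P p K F k) {i : ℕ} (hki : k ≤ i)
    (hih : i + 2 ≤ n + 3) {d a : Γ} (hd : d ∈ P (i + 1)) (ha : a ∈ ⁅P (i + 1), towerY P s k i⁆)
    (hdd : d ∉ den P K (i + 1)) (had : a⁻¹ * d ∈ den P K (i + 1))
    (htriv : ∀ b ∈ ⁅P (i + 2), towerY P s k (i + 1)⁆, ⁅b, d⁆ ∈ den P K (i + 2)) :
    den P K (i + 1) ≤ K (i + 1) ∧
      ∀ u ∈ P (i + 1), ∀ v ∈ P (i + 1), ⁅u, v⁆ ∈ K (i + 1) := by
  have hC := hM.config
  have hT := hC.tower
  have hi1 : 1 ≤ i := hM.one_le.trans hki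
  obtain ⟨hYle, hYn, hYs, hYc⟩ := hM.towerY_spec i hki (by omega)
  obtain ⟨hY'le, hY'n, hY's, -⟩ := hM.towerY_spec (i + 1) (by omega) (by omega)
  set H := upper P s (i + 1) with hHdef
  have hH2 : H ≤ upper P s (i + 1 + 1) := upper_mono (by omega)
  obtain ⟨W, instW, actW, cl, hW⟩ := hT.exists_module (i := i + 1 + 1) (j := i + 1) (by omega)
    (by omega) (by omega) (le_refl H)
  haveI := hW.finite
  haveI := finite_actGroup (Γ := H) (V := W)
  set π := actHom H W with hπ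
  have hP1 : P (i + 1) ≤ H := le_upper (by omega) le_rfl
  have hPi : P i ≤ H := le_upper hi1 (by omega)
  haveI hRn : (((P (i + 1)).subgroupOf H).map π).Normal :=
    normal_image hP1 (hT.upper_le_normalizer le_rfl (by omega) (by omega))
  set R := ((P (i + 1)).subgroupOf H).map π with hR
  set Yp := ((towerY P s k i).subgroupOf H).map π with hYp
  set Y := ((towerY P s k (i + 1)).subgroupOf H).map π with hYdef
  let s' : H := ⟨s, mem_upper _⟩
  have hmapn : ∀ {A : Subgroup Γ} {g : H}, (g : Γ) ∈ normalizer (A : Set Γ) →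
      π g ∈ normalizer ((A.subgroupOf H).map π : Set (actGroup H W)) := fun {A g} hg =>
    le_normalizer_map π (mem_map_of_mem π (show g ∈ normalizer (A.subgroupOf H : Set H) from
      mem_normalizer_iff.2 fun x => by
        simp only [mem_subgroupOf, Subgroup.coe_mul, InvMemClass.coe_inv]
        exact mem_normalizer_iff.1 hg _))
  have hA : ⁅P (i + 1), towerY P s k i⁆ ≤ P (i + 1) := (commutator_mono le_rfl hYle).trans
    (hT.commutator_le' hi1 (by omega))
  have hRY : ⁅R, Yp⁆ = (⁅P (i + 1), towerY P s k i⁆.subgroupOf H).map π := by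
    rw [hR, hYp, ← Subgroup.map_commutator]
    congr 1
    refine map_injective H.subtype_injective ?_
    rw [Subgroup.map_commutator, map_subgroupOf_eq_of_le hP1,
      map_subgroupOf_eq_of_le (hYle.trans hPi), map_subgroupOf_eq_of_le (hA.trans hP1)]
  let d' : H := ⟨d, hP1 hd⟩
  let a' : H := ⟨a, hP1 (hA ha)⟩
  have hdcen : π d' ∈ cenIn R := by
    refine central_of_trivial_on_moved (s := π s') (T := ((P i).subgroupOf H).map π) (Yp := Yp)
      (Y := Y) (a := π a') (z := π (a'⁻¹ * d')) actGroup_faithful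
      (hT.class2_image (by omega) (by omega) hH2 hP1 hW)
      (hT.commute_image hi1 (by omega) hH2 hW) ?_ (hmapn hYs) ?_ ?_ ?_ ?_ (hmapn hY's) ?_ ?_
      (hRY ▸ mem_map_of_mem π (show a' ∈ ⁅P (i + 1), towerY P s k i⁆.subgroupOf H from ha))
      (hT.den_mem_cenIn (by omega) (by omega) hH2 hP1 hW (show a⁻¹ * d ∈ _ from had))
      (by rw [← map_mul, mul_inv_cancel_left]) ?_
    · rintro _ ⟨t, ht, rfl⟩
      exact hmapn (hYn ht)
    · rintro _ ⟨y, hy, rfl⟩
      have hsY : ⁅P i, zpowers s⁆ ≤ P i :=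
        le_normalizer_iff_commutator_le_left.1 (zpowers_le.2 (hT.norm_s i hi1 (by omega)))
      obtain ⟨z, hz, c, hc, hzc⟩ := (Coprime.mem_sup_of_le_normalizer
        (hsY.trans (hT.le_normalizer_ker hi1 le_rfl (by omega)))).1
        (show (y : Γ) ∈ K i ⊔ ⁅P i, zpowers s⁆ by rw [sup_comm]; exact hYc hy)
      have hzH : z ∈ H := hPi (hT.ker_le hi1 (by omega) hz)
      have hcH : c ∈ H := hPi (hsY hc)
      rw [show y = (⟨z, hzH⟩ : H) * ⟨c, hcH⟩ from Subtype.ext hzc.symm, map_mul]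
      refine mul_mem (mem_sup_right (mem_inf.2 ⟨mem_map_of_mem π (show z ∈ P i from
        hT.ker_le hi1 (by omega) hz), mem_centralizer_iff.2 ?_⟩)) (mem_sup_left ?_)
      · rintro _ ⟨u, hu, rfl⟩
        rw [← commutatorElement_eq_one_iff_mul_comm, ← map_commutatorElement]
        refine hT.actHom_eq_one (by omega) (by omega) hH2 hW ?_
        show ⁅(u : Γ), z⁆ ∈ K (i + 1)
        rw [← commutatorElement_inv]
        exact inv_mem (((hT.ker i hi1 (by omega) z).1 hz).2 _ hu)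
      · have h1 : (⟨c, hcH⟩ : H) ∈ ⁅(P i).subgroupOf H, zpowers s'⁆ := by
          rw [← mem_map_iff_mem H.subtype_injective, Subgroup.map_commutator,
            map_subgroupOf_eq_of_le hPi, MonoidHom.map_zpowers]
          exact hc
        have h2 := mem_map_of_mem π h1
        rwa [Subgroup.map_commutator, MonoidHom.map_zpowers] at h2
    · show ⁅((P (i + 1)).subgroupOf H).map π, Yp⁆ ≤ ⁅⁅((P (i + 1)).subgroupOf H).map π, Yp⁆, Yp⁆
      rw [hYp, ← Subgroup.map_commutator, ← Subgroup.map_commutator]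
      refine Subgroup.map_mono (le_of_eq (map_injective H.subtype_injective ?_))
      simp only [Subgroup.map_commutator, map_subgroupOf_eq_of_le hP1,
        map_subgroupOf_eq_of_le (hYle.trans hPi)]
      exact (Coprime.commutator_commutator_self (hYle.trans (hT.norm i (i + 1) hi1 (by omega) (by omega)))
        ((hT.coprime_card hi1 (by omega)).coprime_dvd_left (card_dvd_of_le hYle))
        (Or.inl (by
          haveI := Fact.mk (hT.prime i hi1 (by omega))
          haveI := ((hT.pgroup i hi1 (by omega)).to_le hYle).isNilpotent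
          infer_instance))).symm
    · exact Subgroup.map_mono fun x hx => hY'le hx
    · rintro _ ⟨u, hu, rfl⟩
      exact hmapn (hY'n hu)
    · rw [hRY]
      rintro _ ⟨b, hb, rfl⟩
      rw [← map_commutatorElement]
      exact mem_map_of_mem π (show ⁅(b : Γ), s⁆ ∈ towerY P s k (i + 1) from
        Moved.commutator_mem_towerY hki hb)
    · refine Nat.Coprime.coprime_dvd_left ((card_dvd_of_le
        (Subgroup.map_mono (fun x hx => hY'le hx) : Y ≤ R)).trans (card_image_dvd hP1))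
        ((hT.coprime_card (by omega) (by omega)).coprime_dvd_right hW.card_dvd)
    · intro w hw
      rw [hYdef, movedSub_map] at hw
      obtain ⟨b, hb, rfl⟩ := (hW.mem_movedSub_iff
        (hT.upper_le_normalizer (by omega) (by omega) (by omega)) (hY'le.trans hP1)).1 hw
      have hc := LayerModule.commutator_mem
        (hT.upper_le_normalizer (show i + 1 ≤ i + 1 + 1 by omega) (by omega) (by omega)) b d'
      have h1 := hW.map_commutator b d' hc
      rw [(hW.eq_zero ⟨_, hc⟩).2 (htriv _ hb)] at h1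
      exact (sub_eq_zero.1 h1.symm).symm
  -- the centre modulo the kernel is the whole layer
  set Q := P (i + 1) ⊓ modCen (P (i + 1)) (K (i + 1)) with hQ
  have hPK : P (i + 1) ≤ normalizer (K (i + 1) : Set Γ) :=
    hT.le_normalizer_ker (by omega) le_rfl (by omega)
  have hmemQ : ∀ u ∈ P (i + 1), (∀ v ∈ P (i + 1), ⁅u, v⁆ ∈ K (i + 1)) → u ∈ Q := fun u hu huv =>
    mem_inf.2 ⟨hu, le_normalizer hu, hPK hu, huv⟩
  have hQn : ∀ g ∈ upper P s (i + 1), g ∈ normalizer (Q : Set Γ) := fun g hg => by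
    have h1 := hT.upper_le_normalizer (l := i + 1) le_rfl (by omega) (by omega) hg
    refine mem_normalizer_iff_map_conj_eq.2 ?_
    rw [hQ, Subgroup.map_inf _ _ _ (MulAut.conj g).injective,
      mem_normalizer_iff_map_conj_eq.1 h1, mem_normalizer_iff_map_conj_eq.1
        (mem_normalizer_modCen h1 (hT.upper_le_normalizer_ker le_rfl (by omega) (by omega) hg))]
  have hQeq : Q = P (i + 1) := by
    refine (hT.eq_den_or_eq (by omega) (by omega) (Q := Q) (fun z hz => hmemQ z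
      (hT.den_le (by omega) (by omega) hz) fun v hv => hT.den_central (by omega) (by omega) hz hv)
      inf_le_left (fun j hj hji g hg => hQn g (le_upper hj hji.le hg))
      (hQn s (mem_upper _))).resolve_left fun he => hdd (he ▸ hmemQ d hd fun v hv => ?_)
    refine hT.mem_ker_of_actHom_eq_one (by omega) (by omega) hH2 hW
      (g := ⁅d', ⟨v, hP1 hv⟩⁆) ?_ ?_
    · show ⁅d, v⁆ ∈ P (i + 1)
      rw [commutatorElement_def]
      exact mul_mem (mul_mem (mul_mem hd hv) (inv_mem hd)) (inv_mem hv)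
    · rw [← hπ, map_commutatorElement, commutatorElement_eq_one_iff_mul_comm]
      exact ((mem_cenIn.1 hdcen).2 _ (mem_map_of_mem π (show (⟨v, hP1 hv⟩ : H) ∈
        (P (i + 1)).subgroupOf H from hv))).symm
  have hcomm : ∀ u ∈ P (i + 1), ∀ v ∈ P (i + 1), ⁅u, v⁆ ∈ K (i + 1) := fun u hu =>
    (mem_inf.1 (hQeq.symm ▸ hu : u ∈ Q)).2.2.2
  refine ⟨?_, hcomm⟩
  -- the fixed part of the member above is trivial
  have hPin : P i ≤ normalizer (P (i + 1) : Set Γ) := hT.norm i (i + 1) hi1 (by omega) (by omega)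
  obtain ⟨U, instU, actU, cu, hU⟩ := exists_layerModule (H := P i) hPin
    (hT.le_normalizer_ker hi1 (by omega) (by omega)) hPK hcomm
  haveI := hU.finite
  have hmoved : ∀ v : U, v ∈ movedSub U ((P i).subgroupOf (P i)) := by
    intro v
    obtain ⟨b, rfl⟩ := hU.surj v
    obtain ⟨z, hz, c, hc, hzc⟩ := (Coprime.mem_sup_of_le_normalizer
      ((hT.commutator_le' hi1 (by omega)).trans hPK)).1
      (show (b : Γ) ∈ K (i + 1) ⊔ ⁅P (i + 1), P i⁆ by
        rw [sup_comm, hT.commutator_sup_ker hi1 (by omega)]; exact b.2)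
    have hzP : z ∈ P (i + 1) := hT.ker_le (by omega) (by omega) hz
    have hcP : c ∈ P (i + 1) := hT.commutator_le' hi1 (by omega) hc
    have h1 := hU.map_mul ⟨z, hzP⟩ ⟨c, hcP⟩
    rw [show (⟨z, hzP⟩ : P (i + 1)) * ⟨c, hcP⟩ = b from Subtype.ext hzc,
      (hU.eq_zero ⟨z, hzP⟩).2 hz, zero_add] at h1
    rw [h1]
    exact (hU.mem_movedSub_iff hPin le_rfl).2 ⟨⟨c, hcP⟩, hc, rfl⟩
  intro z hz
  have hzP := hT.den_le (by omega) (by omega) hz
  refine (hU.eq_zero ⟨z, hzP⟩).1 (fixedSub_inf_movedSub ?_ (mem_fixedSub.2 fun g _ => ?_) (hmoved _))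
  · rw [Nat.card_congr (subgroupOfEquivOfLe le_rfl).toEquiv]
    exact (hT.coprime_card hi1 (by omega)).coprime_dvd_right hU.card_dvd
  · have hc := LayerModule.commutator_mem hPin (⟨z, hzP⟩ : P (i + 1)) g
    have h1 := hU.map_commutator ⟨z, hzP⟩ g hc
    rw [(hU.eq_zero ⟨_, hc⟩).2 (hT.commutator_den_le hi1 (by omega)
      (commutator_mem_commutator hz g.2))] at h1
    exact (sub_eq_zero.1 h1.symm).symm

/-- Characters of a derived layer killing the low fixed classes. -/
theorem exists_datum [Finite Γ] (hM : Moved G s r n P p K F k) {i : ℕ} (hki : k ≤ i)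
    (hih : i + 1 ≤ n + 3) {H : Subgroup Γ} (hH : H ≤ upper P s i) (hsH : s ∈ H)
    (hYH : towerY P s k i ≤ H) {V : Type u} [AddCommGroup V] [DistribMulAction H V]
    {cl : P (i + 1) → V} (hV : LayerModule H (P (i + 1)) (den P K (i + 1)) V cl)
    {E : AddSubgroup V} (hE : E = movedSub V ((towerY P s k i).subgroupOf H)) :
    ∃ (T : Type u) (_ : AddCommGroup T) (Ω : Set (E →+ T)),
      (∀ v : E, (∀ ω ∈ Ω, ω v = 0) → v = 0) ∧
      (∀ g : H, ∀ ω ∈ Ω, ∀ f : E →+ E, (∀ v, (f v : V) = g • (v : V)) → ω.comp f ∈ Ω) ∧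
      ∀ d : P (i + 1), s * d = d * s → Low P K s n k (i + 1) d → ∀ hd : cl d ∈ E, ∀ ω ∈ Ω,
        (∃ u u' : E, (u' : V) = (⟨s, hsH⟩ : H) • (u : V) ∧ ω u' ≠ ω u) → ω ⟨cl d, hd⟩ = 0 := by
  classical
  have hC := hM.config
  have hT := hC.tower
  have hi1 : 1 ≤ i := hM.one_le.trans hki
  have hHn : H ≤ normalizer (P (i + 1) : Set Γ) :=
    hH.trans (hT.upper_le_normalizer (by omega) (by omega) hih)
  have hmemE : ∀ v : V, v ∈ E ↔
      ∃ a : P (i + 1), (a : Γ) ∈ ⁅P (i + 1), towerY P s k i⁆ ∧ cl a = v := fun v => by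
    rw [hE]; exact hV.mem_movedSub_iff hHn hYH
  by_cases hzero : ∀ d : P (i + 1), s * d = d * s → Low P K s n k (i + 1) d → cl d ∈ E → cl d = 0
  · refine ⟨V, inferInstance, Set.univ,
      fun v hv => Subtype.ext (hv E.subtype trivial), fun g ω _ f _ => trivial,
      fun d hds hd hdE ω _ _ => ?_⟩
    rw [show (⟨cl d, hdE⟩ : E) = 0 from Subtype.ext (hzero d hds hd hdE), map_zero]
  push Not at hzero
  obtain ⟨d₀, -, hd₀, hd₀E, hd₀0⟩ := hzero
  obtain ⟨hlt, htriv⟩ := hd₀.resolve_left fun h1 => hd₀0 ((hV.eq_zero d₀).2 (by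
    rw [h1]; exact one_mem _))
  obtain ⟨a₀, ha₀, ha₀d⟩ := (hmemE _).1 hd₀E
  obtain ⟨hden, hcomm⟩ := hM.den_le_ker_of_low hki (by omega) d₀.2 ha₀
    (fun h1 => hd₀0 ((hV.eq_zero d₀).2 h1))
    ((hV.eq_zero (a₀⁻¹ * d₀)).1 (by rw [hV.map_mul, hV.map_inv, ha₀d, neg_add_cancel])) htriv
  -- the module below
  obtain ⟨hY'le, hY'n, -, -⟩ := hM.towerY_spec (i + 1) (by omega) (by omega)
  set H' := upper P s (i + 1) with hH'def
  have hH2 : H' ≤ upper P s (i + 1 + 1) := upper_mono (by omega)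
  obtain ⟨W, instW, actW, cw, hW⟩ := hT.exists_module (i := i + 1 + 1) (j := i + 1) (by omega)
    (by omega) (by omega) (le_refl H')
  haveI := hW.finite
  haveI := finite_actGroup (Γ := H') (V := W)
  set π := actHom H' W with hπ
  have hP1 : P (i + 1) ≤ H' := le_upper (by omega) le_rfl
  haveI hRn : (((P (i + 1)).subgroupOf H').map π).Normal :=
    normal_image hP1 (hT.upper_le_normalizer le_rfl (by omega) (by omega))
  set R := ((P (i + 1)).subgroupOf H').map π with hR
  have hker : ∀ g : H', (g : Γ) ∈ K (i + 1) → π g = 1 := fun g hg =>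
    hT.actHom_eq_one (by omega) (by omega) hH2 hW hg
  let ι : P (i + 1) →* R :=
    { toFun := fun a => ⟨π ⟨a, hP1 a.2⟩, mem_map_of_mem π a.2⟩
      map_one' := Subtype.ext (map_one π)
      map_mul' := fun a b => Subtype.ext (map_mul π ⟨a, hP1 a.2⟩ ⟨b, hP1 b.2⟩) }
  obtain ⟨T, instT, Ω, hmul, hstab, hsep, hprod⟩ := exists_weights (Γ := actGroup H' W) (W := W)
    (R := R) (by
      rintro _ ⟨a, ha, rfl⟩ _ ⟨b, hb, rfl⟩
      rw [← commutatorElement_eq_one_iff_mul_comm, ← map_commutatorElement]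
      exact hker _ (hcomm _ ha _ hb))
    (hT.prime (i + 1 + 1) (by omega) (by omega)) (hT.nsmul_module (by omega) (by omega) hW)
    (((hT.coprime_card (by omega) (by omega)).coprime_dvd_right hW.card_dvd).coprime_dvd_left
      (card_image_dvd hP1))
    fun g _ hg => actGroup_faithful g hg
  have hωone : ∀ ω ∈ Ω, ∀ a : R, a = 1 → ω a = 0 := by
    intro ω hω a ha
    have h1 := hmul ω hω 1 1
    rw [mul_one, left_eq_add] at h1
    rw [ha, h1]
  have hωcl : ∀ ω ∈ Ω, ∀ a b : P (i + 1), cl a = cl b → ω (ι a) = ω (ι b) := by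
    intro ω hω a b hab
    have h1 : ((a * b⁻¹ : P (i + 1)) : Γ) ∈ K (i + 1) :=
      hden ((hV.eq_zero _).1 (by rw [hV.map_mul, hV.map_inv, hab, add_neg_cancel]))
    have h2 : ω (ι (a * b⁻¹)) = 0 := hωone ω hω _ (Subtype.ext (hker _ h1))
    rw [show a = a * b⁻¹ * b by group, map_mul, hmul ω hω, h2, zero_add]
  let toChar : ∀ ω ∈ Ω, E →+ T := fun ω hω =>
    AddMonoidHom.mk' (fun v => ω (ι (Function.surjInv hV.surj (v : V)))) fun v w => by
      rw [← hmul ω hω, ← map_mul]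
      refine hωcl ω hω _ _ ?_
      rw [hV.map_mul, Function.surjInv_eq hV.surj, Function.surjInv_eq hV.surj,
        Function.surjInv_eq hV.surj, AddSubgroup.coe_add]
  have hchar : ∀ ω (hω : ω ∈ Ω) (v : E) (a : P (i + 1)), cl a = v → toChar ω hω v = ω (ι a) :=
    fun ω hω v a ha => hωcl ω hω _ _ ((Function.surjInv_eq hV.surj _).trans ha.symm)
  refine ⟨T, instT, {χ | ∃ ω, ∃ hω : ω ∈ Ω, χ = toChar ω hω}, fun v hv => ?_, ?_, ?_⟩
  · obtain ⟨a, ha⟩ := hV.surj (v : V)
    have h1 : ι a = 1 := hsep _ fun ω hω => by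
      rw [← hchar ω hω v a ha]; exact hv _ ⟨ω, hω, rfl⟩
    refine Subtype.ext (ha.symm.trans ((hV.eq_zero a).2 (Tower.ker_le_den ?_)))
    exact hT.mem_ker_of_actHom_eq_one (by omega) (by omega) hH2 hW a.2 (congrArg Subtype.val h1)
  · rintro g _ ⟨ω, hω, rfl⟩ f hf
    let g' : H' := ⟨g, upper_mono (by omega : i ≤ i + 1) (hH g.2)⟩
    refine ⟨_, hstab (π g') ω hω, AddMonoidHom.ext fun v => ?_⟩
    obtain ⟨a, ha⟩ := hV.surj (v : V)
    have hga : (g : Γ) * a * (g : Γ)⁻¹ ∈ P (i + 1) := (mem_normalizer_iff.1 (hHn g.2) _).1 a.2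
    rw [AddMonoidHom.comp_apply, hchar ω hω (f v) ⟨_, hga⟩ (by rw [hV.map_conj g a hga, hf, ha])]
    refine Eq.trans ?_ (hchar _ (hstab (π g') ω hω) v a ha).symm
    refine congrArg ω (Subtype.ext ?_)
    show π _ = ((MulAut.conjNormal (π g') : MulAut R) (ι a) : actGroup H' W)
    rw [MulAut.conjNormal_apply]
    show π _ = π g' * π _ * (π g')⁻¹
    rw [← map_inv, ← map_mul, ← map_mul]
    rfl
  · rintro d hds hd hdE _ ⟨ω, hω, rfl⟩ ⟨u, u', hu', hne⟩
    obtain ⟨a, haY, hau⟩ := (hmemE u).1 u.2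
    rw [hchar ω hω _ d rfl]
    have hsa : s * a * s⁻¹ ∈ P (i + 1) :=
      (mem_normalizer_iff.1 (hT.norm_s (i + 1) (by omega) hih) _).1 a.2
    have hyY : ⁅(a : Γ), s⁆ ∈ towerY P s k (i + 1) := Moved.commutator_mem_towerY hki haY
    let y : P (i + 1) := ⟨⁅(a : Γ), s⁆, hY'le hyY⟩
    have hy : ω (ι y) ≠ 0 := fun h0 => hne (by
      rw [hchar ω hω u a hau, hchar ω hω u' ⟨s * a * s⁻¹, hsa⟩
        (by rw [hu', ← hau]; exact hV.map_conj ⟨s, hsH⟩ a hsa),
        show ι a = ι y * ι ⟨s * a * s⁻¹, hsa⟩ by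
          rw [← map_mul]
          exact congrArg ι (Subtype.ext (by
            show (a : Γ) = ⁅(a : Γ), s⁆ * (s * a * s⁻¹)
            simp [commutatorElement_def, mul_assoc])),
        hmul ω hω, h0, zero_add])
    rcases hd with hd | ⟨hlt', hd⟩
    · exact hωone ω hω _ (Subtype.ext (by
        show π ⟨(d : Γ), _⟩ = 1
        rw [show (⟨(d : Γ), hP1 d.2⟩ : H') = 1 from Subtype.ext hd, map_one]))
    refine (hprod (ι d) (ι y) (fun w => ?_) ω hω).resolve_right hy
    have hmem : π ⟨⁅(a : Γ), s⁆, hP1 (hY'le hyY)⟩ • w - w ∈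
        movedSub W ((towerY P s k (i + 1)).subgroupOf H') :=
      sub_mem_movedSub (show (⟨⁅(a : Γ), s⁆, hP1 (hY'le hyY)⟩ : H') ∈ _ from hyY) w
    obtain ⟨b, hb, hbw⟩ := (hW.mem_movedSub_iff (hT.upper_le_normalizer (by omega) (by omega)
      (by omega)) (hY'le.trans hP1)).1 hmem
    have hc := LayerModule.commutator_mem
      (hT.upper_le_normalizer (show i + 1 ≤ i + 1 + 1 by omega) (by omega) (by omega)) b
      (⟨d, hP1 d.2⟩ : H')
    have h1 := hW.map_commutator b ⟨d, hP1 d.2⟩ hc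
    rw [(hW.eq_zero ⟨_, hc⟩).2 (hd _ hb)] at h1
    have h3 : (⟨d, hP1 d.2⟩ : H') • cw b = cw b := (sub_eq_zero.1 h1.symm).symm
    rw [hbw] at h3
    exact h3

end Moved

end CfsgLib.Solvable.TurullHeight
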