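import Cfsg.Agent.Lib.Solvable.FPFOperators.Twisted
import Cfsg.Agent.Lib.Solvable.FPFOperators.NilpotentCentralizer
import Mathlib.Algebra.CharP.Lemmas

/-!
# Blocks of commuting operators of prime order

For commuting `S`, `L` with `S ^ r = 1`, `L ^ p = 1` and `L` scalar on an eigenspace of `S`, the
commutants of `S` and of the pair bound the size of that eigenspace.
-/

set_option autoImplicit false

namespace CfsgLib.Solvable.TurullHeight

open CfsgLib.Solvable.FPFOperators

universe v w

variable {K : Type v} [Field K] {U : Type w} [AddCommGroup U] [Module K U]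

theorem mem_commutant_iff_commute {N X : Module.End K U} : X ∈ commutant N ↔ Commute N X := by
  rw [mem_commutant]
  exact ⟨fun h => LinearMap.ext h, fun h v => LinearMap.congr_fun h.eq v⟩

theorem cycProj_sum_apply {r : ℕ} {ζ : K} (hζ : IsPrimitiveRoot ζ r) (hr : 0 < r)
    (hrK : (r : K) ≠ 0) (S : Module.End K U) (v : U) :
    ∑ k : Fin r, cycProj r ζ S k v = v := by
  rw [Fin.sum_univ_eq_sum_range (fun k => cycProj r ζ S k v) r, ← LinearMap.sum_apply,
    sum_cycProj hζ hr hrK, Module.End.one_apply]

theorem cycProj_diag {r : ℕ} {ζ : K} (hζ : IsPrimitiveRoot ζ r) (hr : 0 < r) (hrK : (r : K) ≠ 0)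
    {S : Module.End K U} (hS : S ^ r = 1) (j k : Fin r) {w : U}
    (hw : w ∈ LinearMap.range (cycProj r ζ S j)) :
    cycProj r ζ S k w = if k = j then w else 0 := by
  obtain ⟨v, rfl⟩ := hw
  split_ifs with h
  · subst h
    conv_rhs => rw [← cycProj_sum_apply hζ hr hrK S (cycProj r ζ S k v)]
    rw [Finset.sum_eq_single k]
    · intro l _ hl
      rw [← Module.End.mul_apply, cycProj_mul_cycProj hζ hr hS k.2 l.2 (fun h => hl (Fin.ext h)),
        LinearMap.zero_apply]
    · intro h; exact absurd (Finset.mem_univ k) h
  · rw [← Module.End.mul_apply, cycProj_mul_cycProj hζ hr hS j.2 k.2 (fun h' => h (Fin.ext h')),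
      LinearMap.zero_apply]

/-- Dimensions of the eigenspaces and of the commutant. -/
theorem eigen_decomposition [FiniteDimensional K U] {r : ℕ} {ζ : K} (hζ : IsPrimitiveRoot ζ r)
    (hr : 0 < r) (hrK : (r : K) ≠ 0) {S : Module.End K U} (hS : S ^ r = 1) :
    (Module.finrank K U = ∑ k : Fin r, Module.finrank K (LinearMap.range (cycProj r ζ S k))) ∧
    (Module.finrank K (commutant S) =
      ∑ k : Fin r, Module.finrank K (LinearMap.range (cycProj r ζ S k)) ^ 2) ∧
    ∀ (L : Module.End K U), Commute L S →
      ∀ (Lk : ∀ k : Fin r, Module.End K (LinearMap.range (cycProj r ζ S k))),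
        (∀ k w, (Lk k w : U) = L w) →
        ∑ k : Fin r, Module.finrank K (commutant (Lk k)) ≤
          Module.finrank K ↥(commutant S ⊓ commutant L : Submodule K (Module.End K U)) := by
  classical
  set P : Fin r → Module.End K U := fun k => cycProj r ζ S k with hP
  let E : Fin r → Submodule K U := fun k => LinearMap.range (P k)
  have hSP : ∀ (k : Fin r) v, S (P k v) = ζ ^ (k : ℕ) • P k v := fun k v =>
    LinearMap.congr_fun (mul_cycProj hζ hr hS k) v
  have hPS : ∀ (k : Fin r) v, P k (S v) = ζ ^ (k : ℕ) • P k v := fun k v => by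
    rw [← Module.End.mul_apply, (cycProj_mul_comm (k : ℕ) (Commute.refl S)).eq]
    exact hSP k v
  have hfix : ∀ (k : Fin r) (w : E k), (P k).rangeRestrict (w : U) = w := fun k w =>
    Subtype.ext (show P k (w : U) = w by rw [hP]; simp only; rw [cycProj_diag hζ hr hrK hS k k w.2, if_pos rfl])
  have hzero : ∀ (j k : Fin r) (w : E j), k ≠ j → (P k).rangeRestrict (w : U) = 0 :=
    fun j k w h => Subtype.ext (show P k (w : U) = 0 by
      rw [hP]; simp only; rw [cycProj_diag hζ hr hrK hS j k w.2, if_neg h])
  let up : U →ₗ[K] ((k : Fin r) → E k) := LinearMap.pi fun k => (P k).rangeRestrict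
  let down : ((k : Fin r) → E k) →ₗ[K] U := ∑ k, (E k).subtype ∘ₗ LinearMap.proj k
  have hdown : ∀ f, down f = ∑ k, ((f k : E k) : U) := fun f => by simp [down]
  have hdu : ∀ v, down (up v) = v := fun v => by
    rw [hdown]; exact cycProj_sum_apply hζ hr hrK S v
  have hud : ∀ f, up (down f) = f := by
    intro f
    funext k
    show (P k).rangeRestrict (down f) = f k
    rw [hdown, map_sum, Finset.sum_eq_single k (fun j _ hj => hzero j k _ (Ne.symm hj))
      (fun h => absurd (Finset.mem_univ k) h)]
    exact hfix k _
  refine ⟨?_, ?_, ?_⟩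
  · have h := (LinearEquiv.ofLinearMap up down (LinearMap.ext hud) (LinearMap.ext hdu)).finrank_eq
    rwa [Module.finrank_pi_fintype] at h
  · let G : ((k : Fin r) → Module.End K (E k)) →ₗ[K] Module.End K U :=
      { toFun := fun f => ∑ k, (E k).subtype ∘ₗ f k ∘ₗ (P k).rangeRestrict
        map_add' := fun f g => by
          rw [← Finset.sum_add_distrib]
          exact Finset.sum_congr rfl fun k _ => LinearMap.ext fun v => by simp
        map_smul' := fun c f => by
          rw [RingHom.id_apply, Finset.smul_sum]
          exact Finset.sum_congr rfl fun k _ => LinearMap.ext fun v => by simp }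
    have hG : ∀ f v, G f v = ∑ k, ((f k ((P k).rangeRestrict v) : E k) : U) := fun f v => by
      simp [G]
    have hGmem : ∀ f, G f ∈ commutant S := fun f => by
      rw [mem_commutant]
      intro v
      rw [hG, hG, map_sum]
      refine Finset.sum_congr rfl fun k _ => ?_
      obtain ⟨w, hw⟩ := (f k ((P k).rangeRestrict v)).2
      have h1 : (P k).rangeRestrict (S v) = ζ ^ (k : ℕ) • (P k).rangeRestrict v :=
        Subtype.ext (hPS k v)
      rw [h1, map_smul, Submodule.coe_smul, ← hw]
      exact hSP k w
    have hX : ∀ X : commutant S, ∀ (k : Fin r), ∀ w ∈ E k, (X : Module.End K U) w ∈ E k := by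
      rintro X k _ ⟨v, rfl⟩
      exact ⟨(X : Module.End K U) v,
        LinearMap.congr_fun (cycProj_mul_comm (N := r) (ζ := ζ) (k : ℕ) (mem_commutant_iff_commute.1 X.2)).eq v⟩
    let F : commutant S →ₗ[K] ((k : Fin r) → Module.End K (E k)) :=
      { toFun := fun X k => (X : Module.End K U).restrict (hX X k)
        map_add' := fun X Y => rfl
        map_smul' := fun c X => rfl }
    have hFG : ∀ f, F ⟨G f, hGmem f⟩ = f := by
      intro f
      funext k
      refine LinearMap.ext fun w => Subtype.ext ?_
      show G f w = f k w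
      rw [hG, Finset.sum_eq_single k (fun j _ hj => by rw [hzero k j w hj, map_zero]; rfl)
        (fun h => absurd (Finset.mem_univ k) h), hfix k w]
    have hGF : ∀ X, (⟨G (F X), hGmem _⟩ : commutant S) = X := by
      intro X
      refine Subtype.ext (LinearMap.ext fun v => ?_)
      show G (F X) v = (X : Module.End K U) v
      rw [hG]
      conv_rhs => rw [← cycProj_sum_apply hζ hr hrK S v, map_sum]
      rfl
    have e : commutant S ≃ₗ[K] ((k : Fin r) → Module.End K (E k)) :=
      LinearEquiv.ofLinearMap F (LinearMap.codRestrict _ G hGmem)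
        (LinearMap.ext hFG) (LinearMap.ext hGF)
    rw [e.finrank_eq, Module.finrank_pi_fintype]
    exact Finset.sum_congr rfl fun k _ => by rw [Module.finrank_linearMap, sq]
  · intro L hL Lk hLk
    let H : ((k : Fin r) → commutant (Lk k)) →ₗ[K] Module.End K U :=
      { toFun := fun f => ∑ k, (E k).subtype ∘ₗ (f k : Module.End K (E k)) ∘ₗ (P k).rangeRestrict
        map_add' := fun f g => by
          rw [← Finset.sum_add_distrib]
          exact Finset.sum_congr rfl fun k _ => LinearMap.ext fun v => by simp
        map_smul' := fun c f => by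
          rw [RingHom.id_apply, Finset.smul_sum]
          exact Finset.sum_congr rfl fun k _ => LinearMap.ext fun v => by simp }
    have hH : ∀ f v, H f v = ∑ k, (((f k : Module.End K (E k)) ((P k).rangeRestrict v) : E k) : U) :=
      fun f v => by simp [H]
    have hHmem : ∀ f, H f ∈ commutant S ⊓ commutant L := by
      intro f
      refine ⟨?_, ?_⟩
      · refine mem_commutant.2 fun v => ?_
        rw [hH, hH, map_sum]
        refine Finset.sum_congr rfl fun k _ => ?_
        obtain ⟨w, hw⟩ := ((f k : Module.End K (E k)) ((P k).rangeRestrict v)).2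
        have h1 : (P k).rangeRestrict (S v) = ζ ^ (k : ℕ) • (P k).rangeRestrict v :=
          Subtype.ext (hPS k v)
        rw [h1, map_smul, Submodule.coe_smul, ← hw]
        exact hSP k w
      · refine mem_commutant.2 fun v => ?_
        rw [hH, hH, map_sum]
        refine Finset.sum_congr rfl fun k _ => ?_
        have h1 : (P k).rangeRestrict (L v) = Lk k ((P k).rangeRestrict v) := Subtype.ext (by
          show P k (L v) = _
          rw [hLk, LinearMap.codRestrict_apply]
          exact LinearMap.congr_fun (cycProj_mul_comm (N := r) (ζ := ζ) (k : ℕ) hL.symm).eq v)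
        rw [h1, ← mem_commutant.1 (f k).2, hLk]
    have hinj : Function.Injective (LinearMap.codRestrict _ H hHmem) := by
      intro f g hfg
      funext j
      refine Subtype.ext (LinearMap.ext fun w => Subtype.ext ?_)
      have h := LinearMap.congr_fun (congrArg Subtype.val hfg) (w : U)
      simp only [LinearMap.codRestrict_apply, hH] at h
      rwa [Finset.sum_eq_single j (fun l _ hl => by rw [hzero j l w hl, map_zero]; rfl)
          (fun h => absurd (Finset.mem_univ j) h),
        Finset.sum_eq_single j (fun l _ hl => by rw [hzero j l w hl, map_zero]; rfl)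
          (fun h => absurd (Finset.mem_univ j) h), hfix j w] at h
    refine le_trans (le_of_eq ?_) (LinearMap.finrank_le_finrank_of_injective hinj)
    rw [Module.finrank_pi_fintype]

variable [IsAlgClosed K]

/-- An operator of order dividing `p` has a commutant of dimension at least `n ^ 2 / p`. -/
theorem sq_le_mul_commutant [FiniteDimensional K U] {p : ℕ} (hp : p.Prime) {L : Module.End K U}
    (hL : L ^ p = 1) :
    Module.finrank K U ^ 2 ≤ p * Module.finrank K (commutant L) := by
  by_cases hpK : (p : K) = 0
  · haveI := Fact.mk hp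
    rcases subsingleton_or_nontrivial U with hU | hU
    · rw [Module.finrank_zero_of_subsingleton]; simp
    haveI : CharP K p := CharP.charP_iff_prime_eq_zero hp |>.2 hpK
    haveI : CharP (Module.End K U) p :=
      charP_of_injective_algebraMap (algebraMap K (Module.End K U)).injective p
    have hN : (L - 1) ^ p = 0 := by
      rw [sub_pow_char_of_commute p (Commute.one_right L), hL, one_pow, sub_self]
    have hc : commutant (L - 1) = commutant L := by
      ext X
      rw [mem_commutant_iff_commute, mem_commutant_iff_commute]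
      exact ⟨fun h => by simpa using h.add_left (Commute.one_left X),
        fun h => h.sub_left (Commute.one_left X)⟩
    rw [sq, ← hc]
    exact (commutant_bounds (L - 1) hN).2
  · haveI : NeZero (p : K) := ⟨hpK⟩
    obtain ⟨ζ, hζ⟩ := HasEnoughRootsOfUnity.exists_primitiveRoot K p
    obtain ⟨e1, e2, -⟩ := eigen_decomposition hζ hp.pos hpK hL
    rw [e1, e2]
    exact (sq_sum_le_card_mul_sum_sq (α := ℕ)).trans (le_of_eq (by rw [Finset.card_univ, Fintype.card_fin]; simp))

/-- The numerical consequences of a scalar block. -/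
theorem scalar_block [FiniteDimensional K U] {r p : ℕ} (hp : p.Prime) {ζ : K}
    (hζ : IsPrimitiveRoot ζ r) (hr : 0 < r) (hrK : (r : K) ≠ 0) {S L : Module.End K U}
    (hS : S ^ r = 1) (hL : L ^ p = 1) (hSL : Commute L S) {a : ℕ} (ha : a < r)
    (hne : cycProj r ζ S a ≠ 0) {c : K} (hc : L * cycProj r ζ S a = c • cycProj r ζ S a) :
    ∃ m : ℕ, 0 < m ∧
      Module.finrank K (commutant S) + (p - 1) * (m * m) ≤
        p * Module.finrank K ↥(commutant S ⊓ commutant L : Submodule K (Module.End K U)) ∧
      ((r * m : ℤ) - Module.finrank K U) ^ 2 ≤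
        r * r * Module.finrank K (commutant S) - r * (Module.finrank K U : ℤ) ^ 2 := by
  obtain ⟨e1, e2, e3⟩ := eigen_decomposition hζ hr hrK hS
  let P : Fin r → Module.End K U := fun k => cycProj r ζ S k
  have hLE : ∀ k : Fin r, ∀ w ∈ LinearMap.range (P k), L w ∈ LinearMap.range (P k) := by
    rintro k _ ⟨v, rfl⟩
    exact ⟨L v, LinearMap.congr_fun (cycProj_mul_comm (N := r) (ζ := ζ) (k : ℕ) hSL.symm).eq v⟩
  let Lk : ∀ k : Fin r, Module.End K (LinearMap.range (P k)) := fun k => L.restrict (hLE k)
  have hLk : ∀ k, (Lk k) ^ p = 1 := fun k => LinearMap.ext fun w => Subtype.ext (by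
    have h : ∀ (j : ℕ), (((Lk k) ^ j) w : U) = (L ^ j) w := by
      intro j
      induction j with
      | zero => rfl
      | succ j ih =>
        rw [pow_succ', pow_succ', Module.End.mul_apply, Module.End.mul_apply, ← ih]; rfl
    rw [h, hL]; rfl)
  have h3 := e3 L hSL Lk fun k w => rfl
  set n : Fin r → ℕ := fun k => Module.finrank K (LinearMap.range (P k)) with hn
  set a' : Fin r := ⟨a, ha⟩
  have hscal : commutant (Lk a') = ⊤ := by
    rw [eq_top_iff]
    intro X _
    have hw : ∀ w, Lk a' w = c • w := by
      rintro ⟨_, v, rfl⟩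
      exact Subtype.ext (LinearMap.congr_fun hc v)
    rw [mem_commutant]
    intro w
    rw [hw, hw, map_smul]
  refine ⟨n a', ?_, ?_, ?_⟩
  · rw [Module.finrank_pos_iff, Submodule.nontrivial_iff_ne_bot, ne_eq, LinearMap.range_eq_bot]
    exact hne
  · rw [e2]
    refine le_trans ?_ (Nat.mul_le_mul_left p h3)
    rw [Finset.mul_sum, ← Finset.add_sum_erase _ (fun k => Module.finrank K _ ^ 2)
      (Finset.mem_univ a'), ← Finset.add_sum_erase _ (fun k => p * Module.finrank K (commutant (Lk k)))
      (Finset.mem_univ a'), hscal, finrank_top, Module.finrank_linearMap]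
    have hrest : ∑ k ∈ Finset.univ.erase a', n k ^ 2 ≤
        ∑ k ∈ Finset.univ.erase a', p * Module.finrank K (commutant (Lk k)) :=
      Finset.sum_le_sum fun k _ => sq_le_mul_commutant hp (hLk k)
    have hp1 : p = (p - 1) + 1 := (Nat.sub_add_cancel hp.pos).symm
    calc n a' ^ 2 + ∑ k ∈ Finset.univ.erase a', n k ^ 2 + (p - 1) * (n a' * n a')
        ≤ n a' ^ 2 + (∑ k ∈ Finset.univ.erase a', p * Module.finrank K (commutant (Lk k))) +
          (p - 1) * (n a' * n a') := by gcongr
      _ = p * (n a' * n a') + ∑ k ∈ Finset.univ.erase a', p * Module.finrank K (commutant (Lk k)) := by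
          have : p * (n a' * n a') = n a' ^ 2 + (p - 1) * (n a' * n a') := by
            conv_lhs => rw [hp1]
            ring
          rw [this]; ring
  · have hd : (Module.finrank K U : ℤ) = ∑ k, (n k : ℤ) := by rw [e1]; push_cast; rfl
    have hq : (Module.finrank K (commutant S) : ℤ) = ∑ k, (n k : ℤ) ^ 2 := by
      rw [e2]; push_cast; rfl
    set d : ℤ := (Module.finrank K U : ℤ)
    calc ((r * n a' : ℤ) - d) ^ 2 ≤ ∑ k, ((r : ℤ) * n k - d) ^ 2 :=
          Finset.single_le_sum (f := fun k => ((r : ℤ) * n k - d) ^ 2)
            (fun k _ => sq_nonneg _) (Finset.mem_univ a')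
      _ = r * r * (∑ k, (n k : ℤ) ^ 2) - 2 * r * d * (∑ k, (n k : ℤ)) + r * d ^ 2 := by
          simp only [sub_sq, Finset.sum_add_distrib, Finset.sum_sub_distrib, Finset.mul_sum,
            Finset.sum_const, Finset.card_univ, Fintype.card_fin, nsmul_eq_mul]
          congr 1
          congr 1
          · exact Finset.sum_congr rfl fun k _ => by ring
          · exact Finset.sum_congr rfl fun k _ => by ring
      _ = r * r * Module.finrank K (commutant S) - r * d ^ 2 := by rw [← hd, ← hq]; ring

end CfsgLib.Solvable.TurullHeight
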