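import Cfsg.Agent.Lib.Solvable.TurullHeight.Fixed
import Cfsg.Agent.Lib.Solvable.TurullHeight.Block
import Cfsg.Agent.Lib.Solvable.TurullHeight.Extend
import Mathlib.Tactic.NormNum.Prime
import Mathlib.Tactic.Linarith

/-!
# Commutators of operators over a class two group

If `t` sends the fixed vectors of `s` into the killed ones, then `⁅t, x⁆` is trivial on `R / Z(R)`
for every `x` commuting with `s` and centralising the fixed part of `R`.
-/

set_option autoImplicit false

namespace CfsgLib.Solvable.TurullHeight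

open Subgroup CfsgLib CfsgLib.Solvable.FPFOperators
open scoped commutatorElement

universe u v

/-- The arithmetic of the exceptional case. -/
theorem joint_arith {r p d m c₁ c₂ : ℕ} (hr : r.Prime) (hp : p.Prime) (hrp : r ≠ p)
    (hd : d * d = c₁ * c₂) (hlt : d < r * m + r) (hm : r * (m * m) + 1 ≤ r + c₁)
    (h₂ : (r * p - 1) * (r * p - 1) ≤ c₂) (h₁ : c₁ = 1 ∨ r + 1 ≤ c₁) :
    c₁ = 1 ∧ p = 2 ∧ d + 1 = 2 * r := by
  have hr2 := hr.two_le
  have hp2 := hp.two_le
  rcases h₁ with h₁ | h₁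
  · subst h₁
    rw [one_mul] at hd
    have hm1 : m ≤ 1 := by
      by_contra h
      have h4 : 2 * 2 ≤ m * m := Nat.mul_le_mul (by omega) (by omega)
      have h5 : r * (2 * 2) ≤ r * (m * m) := Nat.mul_le_mul_left r h4
      omega
    have h6 : r * m ≤ r * 1 := Nat.mul_le_mul_left r hm1
    have h7 : r * p - 1 ≤ d := by
      by_contra h
      have : (d + 1) * (d + 1) ≤ (r * p - 1) * (r * p - 1) :=
        Nat.mul_le_mul (by omega) (by omega)
      nlinarith
    have hp' : p = 2 := by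
      by_contra h
      have : r * 3 ≤ r * p := Nat.mul_le_mul_left r (by omega)
      omega
    subst hp'
    omega
  · exfalso
    have hrp6 : 6 ≤ r * p := by
      rcases Nat.lt_or_ge r 3 with h | h
      · have : r * 3 ≤ r * p := Nat.mul_le_mul_left r (by omega)
        omega
      · have : 3 * 2 ≤ r * p := Nat.mul_le_mul h hp2
        omega
    obtain ⟨D, hD⟩ : ∃ D, r * p = D + 1 := ⟨r * p - 1, by omega⟩
    rw [hD, Nat.add_sub_cancel] at h₂
    have hDr : 2 * r ≤ D + 1 := by
      have : r * 2 ≤ r * p := Nat.mul_le_mul_left r hp2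
      omega
    have hcD : c₁ * (D * D) ≤ d * d := by rw [hd]; exact Nat.mul_le_mul_left c₁ h₂
    have hd2 : 2 * r ≤ d := by
      by_contra h
      have h8 : d * d ≤ (2 * r - 1) * (2 * r - 1) := Nat.mul_le_mul (by omega) (by omega)
      have h9 : (2 * r - 1) * (2 * r - 1) ≤ D * D := Nat.mul_le_mul (by omega) (by omega)
      have h10 : 2 * (D * D) ≤ c₁ * (D * D) := Nat.mul_le_mul_right _ (by omega)
      have h11 : 5 * 5 ≤ D * D := Nat.mul_le_mul (by omega) (by omega)
      omega
    obtain ⟨e, rfl⟩ : ∃ e, d = r + e := ⟨d - r, by omega⟩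
    have he : e < r * m := by omega
    have hee : e * e ≤ r * (r * (m * m)) := by
      calc e * e ≤ (r * m) * (r * m) := Nat.mul_le_mul he.le he.le
        _ = r * (r * (m * m)) := by ring
    have hd4 : (r + e) * (r + e) ≤ 4 * (e * e) := by
      calc (r + e) * (r + e) ≤ (2 * e) * (2 * e) := Nat.mul_le_mul (by omega) (by omega)
        _ = 4 * (e * e) := by ring
    have h12 : r * (m * m) ≤ 2 * c₁ := by omega
    have h13 : c₁ * (D * D) ≤ c₁ * (8 * r) := by
      calc c₁ * (D * D) ≤ 4 * (r * (r * (m * m))) :=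
            hcD.trans (hd4.trans (Nat.mul_le_mul_left 4 hee))
        _ ≤ 4 * (r * (2 * c₁)) := by gcongr
        _ = c₁ * (8 * r) := by ring
    have h14 : D * D ≤ 8 * r := Nat.le_of_mul_le_mul_left h13 (by omega)
    rcases Nat.lt_or_ge r 3 with h | h
    · have h11 : 5 * 5 ≤ D * D := Nat.mul_le_mul (by omega) (by omega)
      omega
    · have h15 : 5 * (2 * r - 1) ≤ D * D := Nat.mul_le_mul (by omega) (by omega)
      omega

/-- A proper nonzero part of the module is too small or too large. -/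
theorem small_part {r d a c : ℕ} (hr : r.Prime) (hr2 : r ≠ 2) (hd : d + 1 = 2 * r)
    (hac : a * c = d * d) (ha : a ≡ 1 [MOD r]) (hc : c ≡ 1 [MOD r]) (ha1 : a ≠ 1) (hc1 : c ≠ 1) :
    False := by
  wlog hle : a ≤ d generalizing a c with H
  · refine H (a := c) (c := a) (by rw [mul_comm, hac]) hc ha hc1 ha1 ?_
    by_contra h
    have : (d + 1) * (d + 1) ≤ a * c := Nat.mul_le_mul (by omega) (by omega)
    nlinarith
  have hr3 : 3 ≤ r := by have := hr.two_le; omega
  have har : a = r + 1 := by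
    have h1 : a % r = 1 := by
      rw [ha, Nat.one_mod_eq_one.2 hr.ne_one]
    have h2 := Nat.div_add_mod a r
    rw [h1] at h2
    rcases hq : a / r with _ | _ | q
    · rw [hq] at h2; omega
    · rw [hq] at h2; omega
    · exfalso
      have : r * 2 ≤ r * (q + 1 + 1) := Nat.mul_le_mul_left r (by omega)
      rw [hq] at h2
      omega
  subst har
  -- `r + 1` divides `9`
  obtain ⟨r', rfl⟩ : ∃ r', r = r' + 1 := ⟨r - 1, by omega⟩
  have hd' : d = 2 * r' + 1 := by omega
  subst hd'
  have h9 : (r' + 2) ∣ 9 := by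
    have h1 : (r' + 2) ∣ (2 * r' + 1) * (2 * r' + 1) := ⟨c, by rw [← hac]⟩
    have h2 : (r' + 2) ∣ (r' + 2) * (4 * r') := Dvd.intro _ rfl
    have e : (2 * r' + 1) * (2 * r' + 1) + ((r' + 2) * 4) = (r' + 2) * (4 * r') + 9 := by ring
    have h3 : (r' + 2) ∣ (2 * r' + 1) * (2 * r' + 1) + ((r' + 2) * 4) :=
      Nat.dvd_add h1 (Dvd.intro _ rfl)
    rw [e] at h3
    exact (Nat.dvd_add_right h2).1 h3
  have hle9 := Nat.le_of_dvd (by norm_num) h9
  rcases Nat.lt_or_ge r' 7 with h | h
  · have : 2 ≤ r' := by omega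
    interval_cases r' <;> revert hr h9 <;> decide
  · obtain rfl : r' = 7 := by omega
    exact absurd hr (by norm_num)

variable {Γ : Type u} [Group Γ] [Finite Γ] {V : Type v} [AddCommGroup V] [Finite V]
  [DistribMulAction Γ V] {T : Type*} [AddCommGroup T] {Ω : Set (V →+ T)}

/-- The commutator acts trivially modulo the centre, when `s` centralises the centre. -/
theorem joint_central {R : Subgroup Γ} [hRn : R.Normal] {s : Γ} {r : ℕ}
    (h : CentralSetup R s r V) (hD : IsDatum Γ Ω) {q : ℕ} (hq : q.Prime)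
    (hexp : ∀ v : V, q • v = 0) (hC : ∃ c : V, s • c = c ∧ c ≠ 0)
    (hgenZ : ∀ g : Γ, ∀ z ∈ cenIn R, g * z = z * g) {t x : Γ}
    (hts : t * s = s * t) (hxs : x * s = s * x)
    (htR : (orderOf t).Coprime (Nat.card R)) (htr : (orderOf t).Coprime r)
    (htk : ∀ c : V, s • c = c → t • c - c ∈ killedSub Ω s) :
    ∀ u ∈ R, ⁅⁅t, x⁆, u⁆ ∈ cenIn R := by
  classical
  haveI := Fact.mk hq
  have hr := h.prime
  obtain ⟨c₀, hc₀, hc₀0⟩ := hC
  haveI : Nontrivial V := ⟨⟨c₀, 0, hc₀0⟩⟩
  set K := AlgebraicClosure (ZMod q)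
  obtain ⟨d, Φ, hΦ, hcardV, -⟩ := exists_extendEnd (V := V) K hexp
  have hqV : q ∣ Nat.card V := by
    have h1 : 1 < Nat.card V := Finite.one_lt_card
    rw [hcardV] at h1 ⊢
    refine dvd_pow_self q ?_
    rintro rfl
    simp at h1
  let ρ : Γ →* Module.End K (Fin d → K) :=
    Φ.toMonoidHom.comp (DistribMulAction.toAddMonoidEnd Γ V)
  have hρ : ∀ g, ρ g = Φ (DistribMulAction.toAddMonoidEnd Γ V g) := fun g => rfl
  set Z := cenIn R with hZ
  haveI : Fintype Z := Fintype.ofFinite Z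
  have hcastK : ∀ n : ℕ, n.Coprime (Nat.card V) → (n : K) ≠ 0 := fun n hn h0 => by
    have h1 : q ∣ n := (CharP.cast_eq_zero_iff K q n).1 h0
    exact hq.ne_one (Nat.eq_one_of_dvd_coprimes hn h1 hqV)
  have hZV : (Nat.card Z).Coprime (Nat.card V) :=
    h.copV.coprime_dvd_left (card_dvd_of_le inf_le_left)
  have hZK : (Fintype.card Z : K) ≠ 0 := by
    rw [← Nat.card_eq_fintype_card]; exact hcastK _ hZV
  have hrK : (r : K) ≠ 0 := hcastK r h.coprV
  have hZc : IsMulCommutative Z := isMulCommutative_iff.2 fun a b => Subtype.ext (hgenZ a b b.2)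
  haveI := (card_dual (K := K) hZc hZK).1
  haveI : Fintype (Z →* Kˣ) := Fintype.ofFinite _
  set σ := ∑ i ∈ Finset.range r, ρ (s ^ i) with hσ
  have hσ0 : σ ≠ 0 := by
    simp only [hσ, hρ, ← map_sum]
    intro h0
    rw [← map_zero Φ] at h0
    have h1 := DFunLike.congr_fun (hΦ h0) c₀
    rw [end_sum_apply] at h1
    have h2 : ∀ i : ℕ, s ^ i • c₀ = c₀ := fun i => by
      induction i with
      | zero => rw [pow_zero, one_smul]
      | succ i ih => rw [pow_succ, mul_smul, hc₀, ih]
    refine hc₀0 (eq_zero_of_nsmul h.coprV ?_)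
    have h3 : ∑ i ∈ Finset.range r, s ^ i • c₀ = 0 := h1
    rwa [Finset.sum_congr rfl fun i _ => h2 i, Finset.sum_const, Finset.card_range] at h3
  obtain ⟨χ, hχ⟩ : ∃ χ : Z →* Kˣ, σ * weightIdem Z ρ χ ≠ 0 := by
    by_contra hno
    push Not at hno
    refine hσ0 ?_
    rw [← mul_one σ, ← sum_weightIdem (K := K) ρ hZc hZK, Finset.mul_sum]
    exact Finset.sum_eq_zero fun χ _ => hno χ
  set e := weightIdem Z ρ χ with he
  have hcommute : ∀ g, Commute (ρ g) e := fun g => by
    show ρ g * e = e * ρ g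
    rw [he, map_mul_weightIdem_smul,
      dual_smul_eq_self_of_commute χ fun z hz => hgenZ g z hz]
  have he0 : e ≠ 0 := fun h0 => hχ (by rw [h0, mul_zero])
  have hinj : ∀ z : Z, χ z = 1 → z = 1 := by
    intro z hz
    by_contra hz1
    haveI : Fintype (zpowers (z : Γ)) := Fintype.ofFinite _
    have hz0 := h.free z z.2 fun h1 => hz1 (Subtype.ext h1)
    have hsum : ∑ a : zpowers (z : Γ), ρ (a : Γ) = 0 := by
      simp only [hρ, ← map_sum]
      rw [show (∑ a : zpowers (z : Γ), DistribMulAction.toAddMonoidEnd Γ V (a : Γ)) = 0 from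
        AddMonoidHom.ext fun v =>
          (AddMonoidHom.finsetSum_apply _ _ v).trans (sum_smul_eq_zero hz0 v), map_zero]
    have hze : ρ (z : Γ) * e = e := by
      rw [he, map_mem_mul_weightIdem, hz, Units.val_one, one_smul]
    have hz' : ∀ k : ℕ, ρ ((z : Γ) ^ k) * e = e := by
      intro k
      induction k with
      | zero => rw [pow_zero, map_one, one_mul]
      | succ k ih => rw [pow_succ, map_mul, mul_assoc, hze, ih]
    have h1 := congrArg (· * e) hsum
    simp only [Finset.sum_mul, zero_mul] at h1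
    rw [Finset.sum_congr rfl fun a _ => ?_, Finset.sum_const, Finset.card_univ,
      ← Nat.card_eq_fintype_card, Nat.card_zpowers, ← Nat.cast_smul_eq_nsmul K] at h1
    · refine he0 ((smul_eq_zero.1 h1).resolve_left (hcastK _ ?_))
      exact hZV.coprime_dvd_left (Subgroup.orderOf_dvd_natCard _ z.2)
    · obtain ⟨k, hk⟩ := (mem_powers_iff_mem_zpowers (x := (z : Γ))).2 a.2
      rw [← hk]; exact hz' k
  obtain ⟨M, instM, actM, cl, B, hM⟩ := exists_sympModule h.class2 χ fun a ha b hb hh h1 =>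
    congrArg Subtype.val (hinj _ h1)
  haveI := hM.finite
  suffices hgoal : ∀ m : M, ⁅t, x⁆ • m = m by
    intro u hu
    have hmem : ⁅t, x⁆ * u * ⁅t, x⁆⁻¹ ∈ R := hRn.conj_mem _ hu _
    have h1 := (hM.eq_zero (⟨⁅t, x⁆ * u * ⁅t, x⁆⁻¹, hmem⟩ * (⟨u, hu⟩ : R)⁻¹)).1 (by
      rw [hM.map_sub, hM.map_conj ⁅t, x⁆ ⟨u, hu⟩, hgoal, sub_self])
    simpa [commutatorElement_def] using h1
  by_cases htriv : ∀ m : M, t • m = m
  · intro m
    have ht' : ∀ m : M, t⁻¹ • m = m := fun m => by rw [inv_smul_eq_iff, htriv]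
    rw [commutatorElement_def, mul_smul, mul_smul, mul_smul, htriv, ht', smul_inv_smul]
  push Not at htriv
  obtain ⟨mt, hmt⟩ := htriv
  have hne : ∃ m : M, m ≠ 0 := ⟨mt, fun h0 => hmt (by rw [h0, smul_zero])⟩
  have hfixC : ∀ c : V, s • c = c → t • c = c := fun c hc =>
    smul_eq_of_sub_mem_killedSub h hD (fun a ha b hb hh h1 => congrArg Subtype.val (hinj _ h1)) hM
      hne hts (fun z hz => hgenZ t z hz) htR htr htk hc
  -- a power of prime order on `M`
  have hex : ∃ k, 0 < k ∧ ∀ m : M, t ^ k • m = m :=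
    ⟨orderOf t, orderOf_pos t, fun m => by rw [pow_orderOf_eq_one, one_smul]⟩
  set k₀ := Nat.find hex with hk₀
  obtain ⟨hk₀0, hk₀fix⟩ := Nat.find_spec hex
  have hk₀1 : k₀ ≠ 1 := fun h1 => hmt (by
    have := hk₀fix mt
    rwa [← hk₀, h1, pow_one] at this)
  obtain ⟨p, hp, hpk⟩ := Nat.exists_prime_and_dvd hk₀1
  set l := t ^ (k₀ / p) with hl
  have hlp : ∀ m : M, l ^ p • m = m := fun m => by
    rw [hl, ← pow_mul, Nat.div_mul_cancel hpk]; exact hk₀fix m
  have hlne : ∃ m : M, l • m ≠ m := by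
    by_contra hno
    push Not at hno
    have h1 : k₀ / p < k₀ := Nat.div_lt_self hk₀0 hp.one_lt
    exact Nat.find_min hex h1 ⟨Nat.div_pos (Nat.le_of_dvd hk₀0 hpk) hp.pos, hno⟩
  have hcts : Commute t s := hts
  have hls : Commute l s := hcts.pow_left _
  have hlo : orderOf l ∣ orderOf t := orderOf_pow_dvd _
  have hpo : p ∣ orderOf t := by
    refine hpk.trans ?_
    rw [Nat.dvd_iff_mod_eq_zero]
    by_contra hne0
    refine Nat.find_min hex (Nat.mod_lt (orderOf t) hk₀0) ⟨Nat.pos_of_ne_zero hne0, fun m => ?_⟩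
    have h1 : t ^ (k₀ * (orderOf t / k₀)) • m = m := by
      rw [pow_mul]
      have : ∀ i : ℕ, (t ^ k₀) ^ i • m = m := by
        intro i
        induction i with
        | zero => rw [pow_zero, one_smul]
        | succ i ih => rw [pow_succ, mul_smul, hk₀fix, ih]
      exact this _
    conv_lhs => rw [← h1]
    rw [← mul_smul, ← pow_add, Nat.mod_add_div, pow_orderOf_eq_one, one_smul]
  have hrp : r ≠ p := fun h1 => hr.ne_one
    (Nat.eq_one_of_dvd_coprimes htr (h1.symm ▸ hpo) dvd_rfl)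
  have hlR : (orderOf l).Coprime (Nat.card R) := htR.coprime_dvd_left hlo
  have hlQ : ∀ u ∈ R, l ^ p * u * (l ^ p)⁻¹ = u := by
    intro u hu
    have hmem : l ^ p * u * (l ^ p)⁻¹ ∈ R := hRn.conj_mem _ hu _
    have h1 : ⁅l ^ p, u⁆ ∈ cenIn R := by
      have := (hM.eq_zero (⟨l ^ p * u * (l ^ p)⁻¹, hmem⟩ * (⟨u, hu⟩ : R)⁻¹)).1 (by
        rw [hM.map_sub, hM.map_conj _ ⟨u, hu⟩, hlp, sub_self])
      simpa [commutatorElement_def] using this
    have h2 : Commute (l ^ p) u := Coprime.commute_of_stabilizes (N := cenIn R)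
      ((hlR.coprime_dvd_left (orderOf_pow_dvd p)).coprime_dvd_right (card_dvd_of_le inf_le_left))
      (mem_centralizer_iff.2 fun z hz => (hgenZ _ z hz).symm) h1
    rw [h2.eq, mul_inv_cancel_right]
  -- the weight space
  set W := LinearMap.range e with hW
  have hWinv : ∀ g, ∀ w ∈ W, ρ g w ∈ W := by
    rintro g _ ⟨w, rfl⟩
    exact ⟨ρ g w, (LinearMap.congr_fun (hcommute g).eq w).symm⟩
  let θ : Γ →* Module.End K W :=
    { toFun := fun g => (ρ g).restrict (hWinv g)
      map_one' := LinearMap.ext fun w => Subtype.ext (by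
        show ρ 1 (w : Fin d → K) = w
        rw [map_one]; rfl)
      map_mul' := fun a b => LinearMap.ext fun w => Subtype.ext (by
        show ρ (a * b) (w : Fin d → K) = ρ a (ρ b w)
        rw [map_mul]; rfl) }
  have hθ : ∀ g (w : W), (θ g w : Fin d → K) = ρ g w := fun g w => rfl
  haveI hWn : Nontrivial W := by
    rw [Submodule.nontrivial_iff_ne_bot, hW, ne_eq, LinearMap.range_eq_bot]; exact he0
  have hscal : ∀ z (hz : z ∈ Z), θ z = (χ ⟨z, hz⟩ : K) • 1 := fun z hz => by
    refine LinearMap.ext fun w => Subtype.ext ?_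
    obtain ⟨w, v, rfl⟩ := w
    show ρ z (e v) = (χ ⟨z, hz⟩ : K) • e v
    exact LinearMap.congr_fun (map_mem_mul_weightIdem ρ χ ⟨z, hz⟩) v
  have hTD : TwistData θ R (cenIn R) := by
    refine ⟨inf_le_left, fun z hz => ⟨_, hscal z hz⟩, fun a ha hab => ?_,
      fun a ha b hb => ⟨_, hscal _ (h.class2 a ha b hb)⟩⟩
    refine mem_cenIn.2 ⟨ha, fun b hb => ?_⟩
    have h1 := hab b hb
    rw [show a * b = ⁅a, b⁆ * (b * a) by simp only [commutatorElement_def]; group, map_mul,
      hscal _ (h.class2 a ha b hb), smul_mul_assoc, one_mul] at h1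
    have hne : θ (b * a) ≠ 0 := map_ne_zero' θ (b * a)
    have h2 : (χ ⟨⁅a, b⁆, h.class2 a ha b hb⟩ : K) = 1 := by
      by_contra hne'
      refine hne (LinearMap.ext fun w => ?_)
      have h3 : (χ ⟨⁅a, b⁆, h.class2 a ha b hb⟩ : K) • θ (b * a) w = θ (b * a) w :=
        LinearMap.congr_fun h1 w
      rw [← sub_eq_zero] at h3
      have h4 : ((χ ⟨⁅a, b⁆, h.class2 a ha b hb⟩ : K) - 1) • θ (b * a) w = 0 := by
        exact (sub_smul (χ ⟨⁅a, b⁆, h.class2 a ha b hb⟩ : K) 1 _).trans
          ((congrArg _ (one_smul K _)).trans h3)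
      exact (smul_eq_zero.1 h4).resolve_left (sub_ne_zero.2 hne')
    exact (commutatorElement_eq_one_iff_mul_comm.1
      (congrArg Subtype.val (hinj _ (Units.ext h2)))).symm
  let P : Subgroup Γ :=
    { carrier := {u | u ∈ R ∧ ⁅l, u⁆ ∈ cenIn R}
      one_mem' := ⟨one_mem R, by rw [commutatorElement_one_right]; exact one_mem _⟩
      mul_mem' := fun {a b} ha hb => ⟨mul_mem ha.1 hb.1, by
        rw [show ⁅l, a * b⁆ = ⁅l, a⁆ * (a * ⁅l, b⁆ * a⁻¹) by
          simp only [commutatorElement_def]; group]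
        exact mul_mem ha.2 ((inferInstance : (cenIn R).Normal).conj_mem _ hb.2 a)⟩
      inv_mem' := fun {a} ha => ⟨inv_mem ha.1, by
        rw [show ⁅l, a⁻¹⁆ = a⁻¹ * ⁅l, a⁆⁻¹ * a by simp only [commutatorElement_def]; group]
        exact (inferInstance : (cenIn R).Normal).conj_mem' _ (inv_mem ha.2) a⟩ }
  obtain ⟨dd, m, hdd, hm0, hlt, hm⟩ := block_bound hTD hr hp hrp h.pow hls.eq.symm hrK h.copr.symm
    hlR hlQ (fun u hu hsu => by
      have hmem : s * u * s⁻¹ ∈ R := hRn.conj_mem _ hu s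
      refine (hM.eq_zero ⟨u, hu⟩).1 (hM.free h ?_)
      rw [← hM.map_conj s ⟨u, hu⟩ hmem, ← sub_eq_zero, ← hM.map_sub, hM.eq_zero]
      simpa [commutatorElement_def] using hsu)
    (by
      intro h0
      refine hχ (LinearMap.ext fun v => ?_)
      have h1 := congrArg Subtype.val
        (LinearMap.congr_fun h0 (⟨e v, ⟨v, rfl⟩⟩ : W))
      rw [LinearMap.sum_apply, AddSubmonoidClass.coe_finsetSum] at h1
      show σ (e v) = 0
      rw [hσ, LinearMap.sum_apply]
      exact h1)
    (by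
      refine LinearMap.ext fun w => Subtype.ext ?_
      rw [Module.End.mul_apply, hθ, LinearMap.sum_apply, AddSubmonoidClass.coe_finsetSum, map_sum]
      simp only [hθ, hρ]
      have hl0 : ∀ c : V, s • c = c → l • c = c := fun c hc => by
        rw [hl]
        induction k₀ / p with
        | zero => rw [pow_zero, one_smul]
        | succ i ih => rw [pow_succ, mul_smul, hfixC c hc, ih]
      have h1 : ρ l * σ = σ := by
        simp only [hσ, hρ, ← map_sum, ← map_mul]
        refine congrArg Φ (AddMonoidHom.ext fun v => ?_)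
        show l • ((∑ i ∈ Finset.range r, DistribMulAction.toAddMonoidEnd Γ V (s ^ i)) v) =
          (∑ i ∈ Finset.range r, DistribMulAction.toAddMonoidEnd Γ V (s ^ i)) v
        rw [end_sum_apply]
        exact hl0 _ (smul_orbit_sum h.pow v)
      have h2 := LinearMap.congr_fun h1 (w : Fin d → K)
      rw [Module.End.mul_apply, hσ, LinearMap.sum_apply, map_sum] at h2
      simpa only [hρ] using h2)
    (P := P) (fun u => Iff.rfl)
  -- fixed and moved classes of `l`
  set Q := zpowers l with hQ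
  have hcardM : Nat.card M ∣ Nat.card R := by rw [hM.card_eq]; exact Subgroup.index_dvd_card _
  have hQM : (Nat.card Q).Coprime (Nat.card M) := by
    rw [hQ, Nat.card_zpowers]; exact hlR.coprime_dvd_right hcardM
  set F := fixedSub M Q with hF
  set U := movedSub M Q with hU
  have hsplit : Nat.card F * Nat.card U = Nat.card M := by
    rw [← Nat.card_prod]
    refine Nat.card_congr (Equiv.ofBijective (fun p : F × U => (p.1 : M) + p.2) ⟨?_, ?_⟩)
    · rintro ⟨a, b⟩ ⟨a', b'⟩ hab
      have hab' : (a : M) + b = a' + b' := hab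
      have h1 : (a : M) - a' = b' - b := by
        rw [sub_eq_sub_iff_add_eq_add, hab', add_comm]
      have h2 := fixedSub_inf_movedSub hQM (sub_mem a.2 a'.2) (h1.symm ▸ sub_mem b'.2 b.2)
      rw [sub_eq_zero] at h2
      refine Prod.ext (Subtype.ext h2) (Subtype.ext ?_)
      rw [h2, sub_self] at h1
      exact (sub_eq_zero.1 h1.symm).symm
    · intro v
      obtain ⟨a, ha, b, hb, hab⟩ := AddSubgroup.mem_sup.1 (fixedSub_sup_movedSub hQM v)
      exact ⟨(⟨a, ha⟩, ⟨b, hb⟩), hab⟩
  have hc₁ : (cenIn R).relIndex P = Nat.card F := by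
    let f : P ⧸ (cenIn R).subgroupOf P → F := fun y => Quotient.liftOn' y
      (fun a : P => (⟨cl ⟨a, a.2.1⟩, mem_fixedSub_zpowers.2 (by
        rw [← hM.map_conj l ⟨a, a.2.1⟩ (hRn.conj_mem _ a.2.1 l), ← sub_eq_zero, ← hM.map_sub,
          hM.eq_zero]
        simpa [commutatorElement_def] using a.2.2)⟩ : F)) fun a b hab => Subtype.ext (by
        have h1 := mem_subgroupOf.1 (QuotientGroup.leftRel_apply.1 hab)
        show cl ⟨a, a.2.1⟩ = cl ⟨b, b.2.1⟩
        rw [eq_comm, ← sub_eq_zero, ← hM.map_sub, hM.eq_zero]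
        have h2 := (inferInstance : (cenIn R).Normal).conj_mem _ h1 (a : Γ)
        simpa [mul_assoc] using h2)
    refine Nat.card_congr (Equiv.ofBijective f ⟨fun y y' hyy => ?_, fun v => ?_⟩)
    · obtain ⟨a, rfl⟩ := QuotientGroup.mk_surjective y
      obtain ⟨b, rfl⟩ := QuotientGroup.mk_surjective y'
      refine QuotientGroup.eq.2 (mem_subgroupOf.2 ?_)
      have h1 : cl ⟨b, b.2.1⟩ = cl ⟨a, a.2.1⟩ := (congrArg Subtype.val hyy).symm
      rw [← sub_eq_zero, ← hM.map_sub, hM.eq_zero] at h1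
      have h2 := (inferInstance : (cenIn R).Normal).conj_mem' _ h1 (a : Γ)
      simpa [mul_assoc] using h2
    · obtain ⟨a, ha⟩ := hM.surj (v : M)
      have h1 : ⁅l, (a : Γ)⁆ ∈ cenIn R := by
        have hmem : l * a * l⁻¹ ∈ R := hRn.conj_mem _ a.2 l
        have := (hM.eq_zero (⟨l * a * l⁻¹, hmem⟩ * a⁻¹)).1 (by
          rw [hM.map_sub, hM.map_conj, ha, mem_fixedSub_zpowers.1 v.2, sub_self])
        simpa [commutatorElement_def] using this
      exact ⟨QuotientGroup.mk ⟨a, a.2, h1⟩, Subtype.ext ha⟩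
  rw [hc₁] at hm
  have hdM : dd * dd = Nat.card F * Nat.card U := by rw [hsplit, hM.card_eq, hdd]
  have hFinv : IsInv (zpowers s) F := isInv_fixedSub (zpowers_le.2 (centralizer_le_normalizer _
    (mem_centralizer_iff.2 fun a ha => by
      obtain ⟨i, rfl⟩ := mem_zpowers_iff.1 ha
      exact (hls.zpow_left i).eq)))
  have hF1 : Nat.card F = 1 ∨ r + 1 ≤ Nat.card F := by
    have h1 := card_modEq_one hr h.pow hFinv fun v _ hv => hM.free h hv
    rw [or_iff_not_imp_left]
    intro hne1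
    have h2 : 1 ≤ Nat.card F := Nat.card_pos
    have h3 : r ∣ Nat.card F - 1 := (Nat.modEq_iff_dvd' h2).1 h1.symm
    have h4 := Nat.le_of_dvd (by omega) h3
    omega
  -- the semiregular isometry `s l` of the moved classes
  have hUinv : IsInv (zpowers (s * l)) U := isInv_movedSub (zpowers_le.2 (centralizer_le_normalizer _
    (mem_centralizer_iff.2 fun a ha => by
      obtain ⟨i, rfl⟩ := mem_zpowers_iff.1 ha
      exact ((hls.mul_right (Commute.refl l)).zpow_left i).eq)))
  let B₀ : U →+ U →+ Additive Kˣ :=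
    AddMonoidHom.mk' (fun a => (B (a : M)).comp U.subtype) fun a b => by
      ext y; simp
  let gE : AddMonoid.End U :=
    ((DistribSMul.toAddMonoidHom M (s * l)).comp U.subtype).codRestrict U fun v =>
      hUinv _ (mem_zpowers _) v v.2
  have hgE : ∀ (k : ℕ) (v : U), (((gE ^ k) v : U) : M) = (s * l) ^ k • (v : M) := by
    intro k
    induction k with
    | zero => intro v; rw [pow_zero, pow_zero, one_smul]; rfl
    | succ k ih => intro v; rw [pow_succ, pow_succ, mul_smul]; exact ih (gE v)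
  have hlpow : ∀ (j : ℕ) (v : M), l ^ (p * j) • v = v := by
    intro j v
    induction j with
    | zero => rw [Nat.mul_zero, pow_zero, one_smul]
    | succ j ih => rw [Nat.mul_succ, pow_add, mul_smul, hlp, ih]
  have hgN : gE ^ (r * p) = 1 := AddMonoidHom.ext fun v => Subtype.ext (by
    show (((gE ^ (r * p)) v : U) : M) = (v : M)
    refine (hgE _ v).trans ?_
    rw [hls.symm.mul_pow, pow_mul s, h.pow, one_pow, one_mul, mul_comm r p]
    exact hlpow r v)
  have hfree : ∀ k, 0 < k → k < r * p → ∀ v : U, (gE ^ k) v = v → v = 0 := by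
    intro k hk0 hk v hv
    by_contra hv0
    have hvM : (v : M) ≠ 0 := fun h0 => hv0 (Subtype.ext h0)
    have h1 : (s * l) ^ k • (v : M) = v := by rw [← hgE, hv]
    have h2 : ∀ j, ((s * l) ^ k) ^ j • (v : M) = v := by
      intro j
      induction j with
      | zero => rw [pow_zero, one_smul]
      | succ j ih => rw [pow_succ, mul_smul, h1, ih]
    have hcrp : r.Coprime p := (Nat.coprime_primes hr hp).2 hrp
    have hsk : r ∣ k := by
      by_contra hrk
      have h3 := h2 p
      rw [hls.symm.mul_pow, (hls.symm.pow_pow k k).mul_pow, ← pow_mul, ← pow_mul, mul_comm k p,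
        mul_smul, hlpow] at h3
      obtain ⟨j, -, hj⟩ := Nat.exists_mul_mod_eq_one_of_coprime
        ((hr.coprime_iff_not_dvd).2 (fun hd => hrk (hcrp.dvd_of_dvd_mul_left hd))).symm hr.one_lt
      refine hvM (hM.free h ?_)
      have h4 : ∀ i, (s ^ (p * k)) ^ i • (v : M) = v := by
        intro i
        induction i with
        | zero => rw [pow_zero, one_smul]
        | succ i ih => rw [pow_succ, mul_smul, h3, ih]
      have h5 := h4 j
      rwa [← pow_mul, pow_eq_pow_mod (p * k * j) h.pow, hj, pow_one] at h5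
    have h3 : l ^ k • (v : M) = v := by
      obtain ⟨i, hi⟩ := hsk
      rw [hls.symm.mul_pow, hi, pow_mul s, h.pow, one_pow, one_mul, ← hi] at h1
      exact h1
    have hpk' : p ∣ k := by
      by_contra hpk'
      obtain ⟨j, -, hj⟩ := Nat.exists_mul_mod_eq_one_of_coprime
        ((hp.coprime_iff_not_dvd).2 hpk').symm hp.one_lt
      have h4 : ∀ i, l ^ (k * i) • (v : M) = v := by
        intro i
        induction i with
        | zero => rw [Nat.mul_zero, pow_zero, one_smul]
        | succ i ih => rw [Nat.mul_succ, pow_add, mul_smul, h3, ih]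
      have h5 := h4 j
      rw [← Nat.div_add_mod (k * j) p, hj, pow_add, pow_one, mul_smul, ← hlp (l • (v : M))] at h5
      refine hvM (fixedSub_inf_movedSub hQM (mem_fixedSub_zpowers.2 ?_) v.2)
      rw [hlp] at h5
      rwa [← mul_smul, ← pow_succ, pow_succ, mul_smul, hlpow] at h5
    exact absurd (Nat.le_of_dvd hk0 (hcrp.mul_dvd_of_dvd_of_dvd hsk hpk')) (not_le.2 hk)
  obtain ⟨ml, hml⟩ := hlne
  haveI : Nontrivial U := ⟨⟨⟨l • ml - ml, sub_mem_movedSub (mem_zpowers l) ml⟩, 0,
    fun h0 => hml (sub_eq_zero.1 (congrArg Subtype.val h0))⟩⟩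
  have hiso : ∀ g : Γ, ∀ a ∈ R, ∀ b ∈ R, g * ⁅a, b⁆ = ⁅a, b⁆ * g :=
    fun g a ha b hb => hgenZ g _ (h.class2 a ha b hb)
  have hndU : ∀ a : U, (∀ b : U, B₀ a b = 0) → a = 0 := by
    intro a ha
    refine Subtype.ext (hM.nondeg _ (hom_eq_of_fixed_of_moved hQM (fun f hf => hM.refl _ _ ?_)
      fun g hg w => ha ⟨_, sub_mem_movedSub hg w⟩))
    -- a fixed class pairs trivially with the moved part
    have hle : movedSub M Q ≤ (B f).ker := (AddSubgroup.closure_le _).2 (by
      rintro _ ⟨g, hg, w, rfl⟩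
      show B f (g • w - w) = 0
      rw [_root_.map_sub, sub_eq_zero]
      conv_lhs => rw [← mem_fixedSub.1 hf g hg]
      exact hM.isometry g (hiso g) f w)
    exact hle a.2
  have hbound : (r * p - 1) * (r * p - 1) ≤ Nat.card U :=
    sub_one_sq_le_card B₀ hndU (fun a b hab => hM.refl _ _ hab) hgN
      (fun a b => hM.isometry (s * l) (hiso _) _ _) hfree inferInstance
  obtain ⟨-, hp2, hd1⟩ := joint_arith hr hp hrp hdM hlt hm hbound hF1
  have hr2 : r ≠ 2 := by rintro rfl; exact hrp hp2.symm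
  -- `s` is irreducible on the classes
  let gs : AddMonoid.End M := DistribMulAction.toAddMonoidEnd Γ M s
  have hirr : ∀ N : AddSubgroup M, (∀ y ∈ N, gs y ∈ N) → N = ⊥ ∨ N = ⊤ := by
    intro N hN
    by_contra hno
    push Not at hno
    have hNinv : IsInv (zpowers s) N := by
      intro g hg y hy
      obtain ⟨i, rfl⟩ := (mem_powers_iff_mem_zpowers (x := s)).2 hg
      show s ^ i • y ∈ N
      clear hg
      induction i with
      | zero => rwa [pow_zero, one_smul]
      | succ i ih => rw [pow_succ', mul_smul]; exact hN _ ih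
    have hNmod := card_modEq_one hr h.pow hNinv fun v _ hv => hM.free h hv
    have hMmod := card_modEq_one hr h.pow (N := (⊤ : AddSubgroup M))
      (fun _ _ _ _ => trivial) fun v _ hv => hM.free h hv
    rw [AddSubgroup.card_top] at hMmod
    have heq := AddSubgroup.card_eq_card_quotient_mul_card_addSubgroup N
    refine small_part hr hr2 hd1 (a := Nat.card N) (c := Nat.card (M ⧸ N)) ?_ hNmod ?_ ?_ ?_
    · rw [mul_comm, ← heq, hM.card_eq, hdd]
    · have h1 : Nat.card (M ⧸ N) * Nat.card N ≡ Nat.card (M ⧸ N) * 1 [MOD r] :=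
        Nat.ModEq.mul_left _ hNmod
      rw [mul_one, ← heq] at h1
      exact h1.symm.trans hMmod
    · exact fun h1 => hno.1 (AddSubgroup.eq_bot_of_card_eq N h1)
    · exact fun h1 => hno.2 (AddSubgroup.index_eq_one.1 h1)
  have hcom : ∀ g, g * s = s * g → Commute gs (DistribMulAction.toAddMonoidEnd Γ M g) := fun g hg => by
    show gs * _ = _ * gs
    rw [← map_mul, ← hg, map_mul]
  have htx := commute_of_irreducible hirr (hcom t hts) (hcom x hxs)
  intro m'
  have h1 : t • x • (t⁻¹ • x⁻¹ • m') = x • t • (t⁻¹ • x⁻¹ • m') :=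
    DFunLike.congr_fun htx.eq (t⁻¹ • x⁻¹ • m')
  rw [commutatorElement_def, mul_smul, mul_smul, mul_smul, h1, smul_inv_smul, smul_inv_smul]

/-- The hypotheses for the commutator lemma. -/
structure JointSetup {Γ : Type*} [Group Γ] (R : Subgroup Γ) (s : Γ) (r : ℕ) (V : Type*)
    [AddCommGroup V] [DistribMulAction Γ V] : Prop where
  prime : r.Prime
  pow : s ^ r = 1
  copr : (Nat.card R).Coprime r
  copV : (Nat.card R).Coprime (Nat.card V)
  coprV : r.Coprime (Nat.card V)
  class2 : ∀ a ∈ R, ∀ b ∈ R, ⁅a, b⁆ ∈ cenIn R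
  fix : ∀ a ∈ R, s * a = a * s → a ∈ cenIn R
  free : ∀ z ∈ R, s * z = z * s → z ≠ 1 → fixedSub V (zpowers z) = ⊥
  gen : R ⊔ centralizer {s} = ⊤
  genZ : ∀ g : Γ, ∀ z ∈ R, s * z = z * s → g * z = z * g
  hasFixed : ∀ U : AddSubgroup V, IsInv (⊤ : Subgroup Γ) U → U ≠ ⊥ →
    ∃ c ∈ U, s • c = c ∧ c ≠ 0

/-- The commutators of the centre with `s` form a normal subgroup without fixed points of `s`. -/
theorem exists_fpf_commutator {Γ : Type*} [Group Γ] [Finite Γ] {R : Subgroup Γ} [hRn : R.Normal]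
    {s : Γ} {r : ℕ} (hs : s ^ r = 1) (hcop : (Nat.card R).Coprime r)
    (hgen : R ⊔ centralizer {s} = ⊤) :
    ∃ A : Subgroup Γ, A.Normal ∧ A ≤ cenIn R ∧ (∀ a ∈ A, s * a = a * s → a = 1) ∧
      ∀ z ∈ cenIn R, ⁅z, s⁆ ∈ A := by
  have hcm : ∀ z ∈ cenIn R, ⁅z, s⁆ ∈ cenIn R := fun z hz => by
    rw [commutatorElement_def, mul_assoc z, mul_assoc z]
    exact mul_mem hz (by
      simpa [mul_assoc] using (inferInstance : (cenIn R).Normal).conj_mem _ (inv_mem hz) s)
  have hcomm : ∀ a ∈ cenIn R, ∀ b ∈ cenIn R, a * b = b * a := fun a ha b hb =>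
    ((mem_cenIn.1 ha).2 b (mem_cenIn.1 hb).1).symm
  let f : cenIn R →* Γ :=
    { toFun := fun z => ⁅(z : Γ), s⁆
      map_one' := commutatorElement_one_left s
      map_mul' := fun a b => by
        show ⁅(a : Γ) * b, s⁆ = _
        rw [show ⁅(a : Γ) * b, s⁆ = a * ⁅(b : Γ), s⁆ * (a : Γ)⁻¹ * ⁅(a : Γ), s⁆ by
          simp only [commutatorElement_def]; group, hcomm _ a.2 _ (hcm _ b.2), mul_inv_cancel_right,
          hcomm _ (hcm _ b.2) _ (hcm _ a.2)] }
  have hle : f.range ≤ cenIn R := by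
    rintro _ ⟨z, rfl⟩; exact hcm z z.2
  refine ⟨f.range, ?_, hle, ?_, fun z hz => ⟨⟨z, hz⟩, rfl⟩⟩
  · rw [← normalizer_eq_top_iff, eq_top_iff, ← hgen]
    refine sup_le (fun y hy => ?_) fun g hg => ?_
    · refine centralizer_le_normalizer _ (mem_centralizer_iff.2 fun a ha => ?_)
      exact ((mem_cenIn.1 (hle ha)).2 y hy).symm
    · refine mem_normalizer_fintype fun a ha => ?_
      obtain ⟨z, rfl⟩ := ha
      refine ⟨⟨g * z * g⁻¹, (inferInstance : (cenIn R).Normal).conj_mem _ z.2 g⟩, ?_⟩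
      show ⁅g * (z : Γ) * g⁻¹, s⁆ = g * ⁅(z : Γ), s⁆ * g⁻¹
      have hgs : g * s * g⁻¹ = s := by
        rw [mem_centralizer_singleton_iff.1 hg, mul_inv_cancel_right]
      conv_lhs => rw [← hgs]
      simp only [commutatorElement_def]; group
  · rintro _ ⟨z, rfl⟩ hsa
    set a := f z with ha
    have e1 : s * z * s⁻¹ = a⁻¹ * (z : Γ) := by
      show s * z * s⁻¹ = ⁅(z : Γ), s⁆⁻¹ * (z : Γ)
      simp only [commutatorElement_def]; group
    have hpw : ∀ i, s ^ i * z * (s ^ i)⁻¹ = a⁻¹ ^ i * (z : Γ) := by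
      intro i
      induction i with
      | zero => simp
      | succ i ih =>
        have hc' : Commute s (a⁻¹ ^ i) := ((show Commute s a from hsa).inv_right).pow_right i
        rw [pow_succ' s, mul_inv_rev]
        calc s * s ^ i * z * ((s ^ i)⁻¹ * s⁻¹) = s * (s ^ i * z * (s ^ i)⁻¹) * s⁻¹ := by group
          _ = a⁻¹ ^ i * (s * z * s⁻¹) := by rw [ih, ← mul_assoc s, hc'.eq]; group
          _ = a⁻¹ ^ (i + 1) * z := by rw [e1, pow_succ, mul_assoc]
    have hr : a ^ r = 1 := by
      have := hpw r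
      rw [hs, one_mul, inv_one, mul_one] at this
      have h2 : a⁻¹ ^ r = 1 := mul_eq_right.mp this.symm
      rwa [inv_pow, inv_eq_one] at h2
    rw [← orderOf_eq_one_iff]
    exact Nat.eq_one_of_dvd_coprimes hcop
      (Subgroup.orderOf_dvd_natCard R (mem_cenIn.1 (hle ⟨z, rfl⟩)).1)
      (orderOf_dvd_of_pow_eq_one hr)

/-- The commutator of `t` and `x` acts trivially modulo the centre. -/
theorem joint {R : Subgroup Γ} [hRn : R.Normal] {s : Γ} {r : ℕ} (h : JointSetup R s r V)
    (hD : IsDatum Γ Ω) (hfaith : ∀ g : Γ, (∀ v : V, g • v = v) → g = 1) {q : ℕ} (hq : q.Prime)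
    (hexp : ∀ v : V, q • v = 0) {t x : Γ} (hts : t * s = s * t) (hxs : x * s = s * x)
    (htR : (orderOf t).Coprime (Nat.card R)) (htr : (orderOf t).Coprime r)
    (htk : ∀ c : V, s • c = c → t • c - c ∈ killedSub Ω s) :
    ∀ u ∈ R, ⁅⁅t, x⁆, u⁆ ∈ cenIn R := by
  classical
  intro u hu
  have hyR : ⁅⁅t, x⁆, u⁆ ∈ R := by
    rw [commutatorElement_def]
    exact mul_mem (hRn.conj_mem _ hu _) (inv_mem hu)
  refine mem_cenIn.2 ⟨hyR, fun b hb => ?_⟩
  refine (commutatorElement_eq_one_iff_mul_comm.1 (hfaith ⁅⁅⁅t, x⁆, u⁆, b⁆ ?_)).symm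
  suffices key : ∀ n, ∀ U : AddSubgroup V, Nat.card U = n → IsInv (⊤ : Subgroup Γ) U →
      ∀ v ∈ U, ⁅⁅⁅t, x⁆, u⁆, b⁆ • v = v from
    fun v => key _ ⊤ rfl (fun _ _ _ _ => trivial) v trivial
  intro n
  induction n using Nat.strong_induction_on with
  | _ n ih =>
  intro U hUn hinv
  haveI := finite_resGroup hinv
  set π := resHom U hinv with hπ
  haveI : (R.map π).Normal := hRn.map π (resHom_surjective hinv)
  by_cases hU0 : U = ⊥
  · intro v hv
    rw [hU0, AddSubgroup.mem_bot] at hv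
    rw [hv, smul_zero]
  obtain ⟨v₀, hv₀, hv₀0⟩ := (AddSubgroup.bot_or_exists_ne_zero U).resolve_left hU0
  haveI : Nontrivial U := ⟨⟨⟨v₀, hv₀⟩, 0, fun h0 => hv₀0 (congrArg Subtype.val h0)⟩⟩
  -- fixed elements of the image lift
  have hlift : ∀ a ∈ R, π s * π a = π a * π s → ∃ a' ∈ R, s * a' = a' * s ∧ π a' = π a := by
    intro a ha hcom
    have hs1 : ⁅s, a⁆ ∈ R ⊓ π.ker := mem_inf.2 ⟨by
      rw [commutatorElement_def]
      exact mul_mem (hRn.conj_mem _ ha s) (inv_mem ha), MonoidHom.mem_ker.2 (by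
        rw [map_commutatorElement, commutatorElement_eq_one_iff_mul_comm]; exact hcom)⟩
    haveI : (R ⊓ π.ker).Normal := normal_inf_normal R π.ker
    obtain ⟨n, hn, hc⟩ := Coprime.exists_mul_mem_centralizer (A := zpowers s) (N := R ⊓ π.ker)
      (k := a) (by rw [normalizer_eq_top]; exact le_top)
      (by
        rw [Nat.card_zpowers]
        exact ((h.copr.coprime_dvd_left (card_dvd_of_le inf_le_left)).coprime_dvd_right
          (orderOf_dvd_of_pow_eq_one h.pow)).symm)
      (Or.inl (Coprime.isSolvable_zpowers s)) fun g hg => by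
        obtain ⟨k, rfl⟩ := (mem_powers_iff_mem_zpowers (x := s)).2 hg
        exact commutator_pow_mem hs1 k
    refine ⟨n * a, mul_mem (mem_inf.1 hn).1 ha, mem_centralizer_iff.1 hc s (mem_zpowers s), ?_⟩
    rw [map_mul, MonoidHom.mem_ker.1 (mem_inf.1 hn).2, one_mul]
  have hcen' : ∀ a ∈ cenIn R, π a ∈ cenIn (R.map π) := fun a ha =>
    mem_cenIn.2 ⟨mem_map_of_mem π (mem_cenIn.1 ha).1, by
      rintro _ ⟨b, hb, rfl⟩
      rw [← map_mul, ← map_mul, (mem_cenIn.1 ha).2 b hb]⟩
  have hcard : Nat.card (R.map π) ∣ Nat.card R := R.card_map_dvd π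
  have hUcard : Nat.card U ∣ Nat.card V := AddSubgroup.card_addSubgroup_dvd_card U
  have hexpU : ∀ w : U, q • w = 0 := fun w =>
    Subtype.ext (by rw [AddSubmonoidClass.coe_nsmul, hexp]; rfl)
  have hqU : q ∣ Nat.card U := by
    have h1 : addOrderOf (⟨v₀, hv₀⟩ : U) = q := by
      rcases (Nat.dvd_prime hq).1 (addOrderOf_dvd_of_nsmul_eq_zero (hexpU ⟨v₀, hv₀⟩)) with h1 | h1
      · exact absurd (congrArg Subtype.val (AddMonoid.addOrderOf_eq_one_iff.1 h1)) hv₀0
      · exact h1
    exact h1 ▸ addOrderOf_dvd_natCard _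
  have hord : ∀ g : Γ, orderOf (π g) ∣ orderOf g := fun g => orderOf_map_dvd π g
  obtain ⟨A, hAn, hAle, hfpf, hAc⟩ := exists_fpf_commutator (R := R.map π) (s := π s)
    (by rw [← map_pow, h.pow, map_one]) (h.copr.coprime_dvd_left hcard) (by
      rw [eq_top_iff, ← map_top_of_surjective π (resHom_surjective hinv), ← h.gen, Subgroup.map_sup]
      refine sup_le_sup le_rfl ?_
      rintro _ ⟨g, hg, rfl⟩
      refine mem_centralizer_singleton_iff.2 ?_
      rw [← map_mul, ← map_mul, mem_centralizer_singleton_iff.1 hg])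
  by_cases hA : A = ⊥
  · -- `s` centralises the centre
    have hcentre : ∀ z' ∈ cenIn (R.map π), π s * z' = z' * π s := fun z' hz' => by
      have h1 := hAc z' hz'
      rw [hA, mem_bot, commutatorElement_eq_one_iff_mul_comm] at h1
      exact h1.symm
    have hsetup : CentralSetup (R.map π) (π s) r U :=
      { prime := h.prime
        pow := by rw [← map_pow, h.pow, map_one]
        copr := h.copr.coprime_dvd_left hcard
        copV := (h.copV.coprime_dvd_left hcard).coprime_dvd_right hUcard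
        coprV := h.coprV.coprime_dvd_right hUcard
        class2 := by
          rintro _ ⟨a, ha, rfl⟩ _ ⟨b, hb, rfl⟩
          rw [← map_commutatorElement]
          exact hcen' _ (h.class2 a ha b hb)
        centre := hcentre
        fix := by
          rintro _ ⟨a, ha, rfl⟩ hs'
          obtain ⟨a', ha', ha's, e'⟩ := hlift a ha hs'
          rw [← e']
          exact hcen' _ (h.fix a' ha' ha's)
        free := by
          intro z' hz' hne
          obtain ⟨z, hz, rfl⟩ := (mem_cenIn.1 hz').1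
          obtain ⟨z₀, hz₀, hz₀s, e₀⟩ := hlift z hz (hcentre _ hz')
          refine eq_bot_iff.2 fun v hv => ?_
          have hne₀ : z₀ ≠ 1 := fun h1 => hne (by rw [← e₀, h1, map_one])
          have h1 : (v : V) ∈ fixedSub V (zpowers z₀) := mem_fixedSub_zpowers.2 (by
            have h2 := mem_fixedSub_zpowers.1 hv
            rw [← e₀] at h2
            exact congrArg Subtype.val h2)
          rw [h.free z₀ hz₀ hz₀s hne₀, AddSubgroup.mem_bot] at h1
          exact AddSubgroup.mem_bot.2 (Subtype.ext h1) }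
    obtain ⟨c, hc, hcs, hc0⟩ := h.hasFixed U hinv hU0
    have hkey := joint_central hsetup (hD.restrict hinv) hq hexpU
      ⟨⟨c, hc⟩, Subtype.ext hcs, fun h0 => hc0 (congrArg Subtype.val h0)⟩
      (fun g' z' hz' => by
        obtain ⟨g, rfl⟩ := resHom_surjective hinv g'
        obtain ⟨z, hz, rfl⟩ := (mem_cenIn.1 hz').1
        obtain ⟨z₀, hz₀, hz₀s, e₀⟩ := hlift z hz (hcentre _ hz')
        show π g * π z = π z * π g
        rw [← e₀, ← map_mul, ← map_mul, h.genZ g z₀ hz₀ hz₀s])
      (t := π t) (x := π x) (by rw [← map_mul, ← map_mul, hts]) (by rw [← map_mul, ← map_mul, hxs])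
      ((htR.coprime_dvd_left (hord t)).coprime_dvd_right hcard) (htr.coprime_dvd_left (hord t))
      (fun w hw => coe_mem_killedSub_restrict hinv (htk (w : V) (congrArg Subtype.val hw)))
      (π u) (mem_map_of_mem π hu)
    refine (resHom_eq_one_iff hinv _).1 ?_
    rw [← hπ, map_commutatorElement, map_commutatorElement, map_commutatorElement,
      commutatorElement_eq_one_iff_mul_comm]
    exact ((mem_cenIn.1 hkey).2 _ (mem_map_of_mem π hb)).symm
  -- split along the fixed points of `A`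
  have hAU : (Nat.card A).Coprime (Nat.card U) :=
    (h.copV.coprime_dvd_right hUcard).coprime_dvd_left
      ((card_dvd_of_le (hAle.trans inf_le_left)).trans hcard)
  have hAnorm : (⊤ : Subgroup (resGroup U hinv)) ≤ normalizer (A : Set (resGroup U hinv)) := by
    rw [normalizer_eq_top]
  by_cases hU₀ : fixedSub U A = ⊥
  · -- regular: `t` is trivial
    have htC : ∀ c : U, π s • c = c → π t • c = c := fun c hc => sub_eq_zero.1
      (killedSub_eq_zero_of_regular (hD.restrict hinv) (hAnorm trivial) hfpf hAU hU₀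
        (coe_mem_killedSub_restrict hinv (htk (c : V) (congrArg Subtype.val hc))))
    have ht1 := eq_one_of_regular hq hexpU (A := A)
      (fun a ha b hb => ((mem_cenIn.1 (hAle ha)).2 b (mem_cenIn.1 (hAle hb)).1).symm)
      (fun hd => hq.ne_one (Nat.eq_one_of_dvd_coprimes hAU hd hqU)) hU₀ h.prime
      (by rw [← map_pow, h.pow, map_one]) hfpf (by rw [← map_mul, ← map_mul, hts])
      (htr.coprime_dvd_left (hord t)) htC (resGroup_faithful hinv)
    refine (resHom_eq_one_iff hinv _).1 ?_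
    rw [← hπ, map_commutatorElement, map_commutatorElement, map_commutatorElement, ht1]
    simp
  intro v hv
  have hrec : ∀ W : AddSubgroup U, IsInv (⊤ : Subgroup (resGroup U hinv)) W → W ≠ ⊤ →
      ∀ w ∈ W, ⁅⁅⁅t, x⁆, u⁆, b⁆ • (w : V) = w := by
    intro W hW hne w hw
    refine ih _ ?_ (W.map U.subtype) rfl (fun g _ z hz => ?_) _ ⟨w, hw, rfl⟩
    · rw [← hUn, ← Nat.card_congr (W.equivMapOfInjective U.subtype U.subtype_injective).toEquiv]
      exact (Nat.card_le_card_of_injective _ W.subtype_injective).lt_of_ne fun he =>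
        hne (AddSubgroup.eq_top_of_card_eq W he)
    · obtain ⟨z', hz', rfl⟩ := hz
      exact ⟨π g • z', hW _ trivial z' hz', rfl⟩
  obtain ⟨v₁, h1, v₂, h2, hv12⟩ :=
    AddSubgroup.mem_sup.1 (fixedSub_sup_movedSub hAU (⟨v, hv⟩ : U))
  have e1 := hrec _ (isInv_fixedSub hAnorm) (fun htop => hA (eq_bot_iff.2 fun a ha => mem_bot.2
    (resGroup_faithful hinv a fun w => mem_fixedSub.1 (htop ▸ AddSubgroup.mem_top w) a ha))) v₁ h1
  have e2 := hrec _ (isInv_movedSub hAnorm) (fun htop => hU₀ ((AddSubgroup.eq_bot_iff_forall _).2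
    fun w hw => fixedSub_inf_movedSub hAU hw (htop ▸ AddSubgroup.mem_top w))) v₂ h2
  have hv' : (v₁ : V) + (v₂ : V) = v := congrArg Subtype.val hv12
  rw [← hv', smul_add, e1, e2]

end CfsgLib.Solvable.TurullHeight
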