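import Cfsg.Agent.Lib.Solvable.TurullHeight.Basic

/-!
# Fixed vectors killed by the moved characters

`Ω` is a stable separating set of characters of a module `V` and `s` an operator.  `killedSub Ω s`
consists of the fixed vectors of `s` killed by every member of `Ω` moved by `s`.
-/

set_option autoImplicit false

namespace CfsgLib.Solvable.TurullHeight

open Subgroup
open scoped commutatorElement

variable {Γ V : Type*} [Group Γ] [AddCommGroup V] [DistribMulAction Γ V]
variable {T : Type*} [AddCommGroup T]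

/-- A separating set of characters stable under all operators. -/
structure IsDatum (Γ : Type*) {V T : Type*} [Group Γ] [AddCommGroup V] [DistribMulAction Γ V]
    [AddCommGroup T] (Ω : Set (V →+ T)) : Prop where
  comp_mem : ∀ g : Γ, ∀ ω ∈ Ω, ω.comp (DistribSMul.toAddMonoidHom V g) ∈ Ω
  sep : ∀ v : V, (∀ ω ∈ Ω, ω v = 0) → v = 0

/-- `s` moves the character. -/
def IsMoved (s : Γ) (ω : V →+ T) : Prop := ∃ u : V, ω (s • u) ≠ ω u

/-- The fixed vectors killed by all moved characters. -/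
def killedSub (Ω : Set (V →+ T)) (s : Γ) : AddSubgroup V where
  carrier := {v | s • v = v ∧ ∀ ω ∈ Ω, IsMoved s ω → ω v = 0}
  zero_mem' := ⟨smul_zero s, fun ω _ _ => map_zero ω⟩
  add_mem' := fun {a b} ha hb =>
    ⟨by rw [smul_add, ha.1, hb.1], fun ω h h' => by rw [map_add, ha.2 ω h h', hb.2 ω h h', add_zero]⟩
  neg_mem' := fun {a} ha =>
    ⟨by rw [smul_neg, ha.1], fun ω h h' => by rw [map_neg, ha.2 ω h h', neg_zero]⟩

variable {Ω : Set (V →+ T)} {s : Γ}

theorem mem_killedSub {v : V} :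
    v ∈ killedSub Ω s ↔ s • v = v ∧ ∀ ω ∈ Ω, IsMoved s ω → ω v = 0 := Iff.rfl

/-- An operator commuting with `s` preserves the killed subgroup. -/
theorem smul_mem_killedSub (hD : IsDatum Γ Ω) {g : Γ} (hg : g * s = s * g) {v : V}
    (hv : v ∈ killedSub Ω s) : g • v ∈ killedSub Ω s := by
  refine ⟨by rw [← mul_smul, ← hg, mul_smul, hv.1], fun ω hω ⟨u, hu⟩ => ?_⟩
  refine hv.2 _ (hD.comp_mem g ω hω) ⟨g⁻¹ • u, ?_⟩
  show ω (g • s • g⁻¹ • u) ≠ ω (g • g⁻¹ • u)
  rwa [smul_inv_smul, ← mul_smul g, hg, mul_smul, smul_inv_smul]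

/-- For a fixed character, a translate is fixed exactly when a commutator stabilises it. -/
theorem not_moved_comp_iff {ω : V →+ T} (hω : ¬ IsMoved s ω) (a : Γ) :
    ¬ IsMoved s (ω.comp (DistribSMul.toAddMonoidHom V a)) ↔
      ∀ w : V, ω (⁅a, s⁆ • w) = ω w := by
  have hfix : ∀ w, ω (s • w) = ω w := fun w => by
    by_contra h; exact hω ⟨w, h⟩
  simp only [IsMoved, not_exists, not_not]
  constructor
  · intro h w
    have h1 := h (a⁻¹ • s⁻¹ • w)
    simp only [AddMonoidHom.comp_apply, DistribSMul.toAddMonoidHom_apply, smul_inv_smul] at h1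
    rw [← hfix (s⁻¹ • w), smul_inv_smul] at h1
    rw [← h1, commutatorElement_def]
    simp only [mul_smul]
  · intro h u
    have h1 := h (s • a • u)
    rw [hfix, ← mul_smul, ← mul_smul] at h1
    show ω (a • s • u) = ω (a • u)
    rw [← h1, ← mul_smul, commutatorElement_def]
    congr 2; group

/-- A group of fixed-point-free operators without fixed vectors leaves nothing killed. -/
theorem killedSub_eq_zero_of_regular [Finite Γ] [Finite V] (hD : IsDatum Γ Ω) {A : Subgroup Γ}
    (hsA : s ∈ normalizer (A : Set Γ)) (hfpf : ∀ a ∈ A, s * a = a * s → a = 1)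
    (hA : (Nat.card A).Coprime (Nat.card V)) (h0 : fixedSub V A = ⊥) {v : V}
    (hv : v ∈ killedSub Ω s) : v = 0 := by
  classical
  refine hD.sep v fun ω hω => ?_
  by_cases hωm : IsMoved s ω
  · exact hv.2 ω hω hωm
  have hfix : ∀ w, ω (s • w) = ω w := fun w => by
    by_contra h; exact hωm ⟨w, h⟩
  let B : Subgroup Γ :=
    { carrier := {b | b ∈ A ∧ ∀ w, ω (b • w) = ω w}
      one_mem' := ⟨one_mem A, fun w => by rw [one_smul]⟩
      mul_mem' := fun {x y} hx hy => ⟨mul_mem hx.1 hy.1, fun w => by rw [mul_smul, hx.2, hy.2]⟩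
      inv_mem' := fun {x} hx => ⟨inv_mem hx.1, fun w => by
        rw [← hx.2 (x⁻¹ • w), smul_inv_smul]⟩ }
  have hcA : ∀ a ∈ A, s * a * s⁻¹ ∈ A := fun a ha => (mem_normalizer_iff.1 hsA a).1 ha
  have hcB : ∀ b : B, ⁅(b : Γ), s⁆ ∈ B := fun b => by
    have e : ⁅(b : Γ), s⁆ = b * (s * (b : Γ)⁻¹ * s⁻¹) := by simp [commutatorElement_def, mul_assoc]
    rw [e]
    refine mul_mem b.2 ⟨hcA _ (inv_mem b.2.1), fun w => ?_⟩
    have hfix' : ω (s⁻¹ • w) = ω w := by rw [← hfix (s⁻¹ • w), smul_inv_smul]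
    rw [mul_smul, mul_smul, hfix, (inv_mem b.2 : (b : Γ)⁻¹ ∈ B).2, hfix']
  have hinj : ∀ a ∈ A, ∀ b ∈ A, ⁅a, s⁆ = ⁅b, s⁆ → a = b := by
    intro a ha b hb he
    have h1 : a * s * a⁻¹ = b * s * b⁻¹ := by simpa [commutatorElement_def] using he
    have h2 : s * (b⁻¹ * a) = b⁻¹ * a * s := by
      calc s * (b⁻¹ * a) = b⁻¹ * (b * s * b⁻¹) * a := by group
        _ = b⁻¹ * (a * s * a⁻¹) * a := by rw [h1]
        _ = b⁻¹ * a * s := by group
    exact (inv_mul_eq_one.1 (hfpf _ (mul_mem (inv_mem hb) ha) h2)).symm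
  have hmemB : ∀ a ∈ A, ¬ IsMoved s (ω.comp (DistribSMul.toAddMonoidHom V a)) → a ∈ B := by
    intro a ha hm
    have h1 := (not_moved_comp_iff hωm a).1 hm
    have hbij : Function.Surjective fun b : B => (⟨⁅(b : Γ), s⁆, hcB b⟩ : B) :=
      Finite.surjective_of_injective fun b c h =>
        Subtype.ext (hinj _ b.2.1 _ c.2.1 (congrArg Subtype.val h))
    have haA : ⁅a, s⁆ ∈ A := by
      rw [show ⁅a, s⁆ = a * (s * a⁻¹ * s⁻¹) by simp [commutatorElement_def, mul_assoc]]
      exact mul_mem ha (hcA _ (inv_mem ha))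
    obtain ⟨b, hb⟩ := hbij ⟨⁅a, s⁆, haA, h1⟩
    have := hinj _ b.2.1 a ha (congrArg Subtype.val hb)
    rw [← this]; exact b.2
  haveI : Fintype A := Fintype.ofFinite A
  let χ : V →+ T := ∑ a : A, ω.comp (DistribSMul.toAddMonoidHom V (a : Γ))
  have hχ : ∀ w, χ w = ∑ a : A, ω ((a : Γ) • w) := fun w => by simp [χ]
  have hz : χ v = 0 := hom_eq_zero_of_invariant hA h0 (fun b hb w => by
    rw [hχ, hχ]
    refine Fintype.sum_equiv (Equiv.mulRight ⟨b, hb⟩) _ _ fun a => ?_
    rw [← mul_smul]; rfl) v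
  rw [hχ] at hz
  have hterm : ∀ a : A, ω ((a : Γ) • v) = if (a : Γ) ∈ B then ω v else 0 := by
    intro a
    split_ifs with h
    · exact h.2 v
    · exact hv.2 _ (hD.comp_mem a ω hω) (by_contra fun h' => h (hmemB a a.2 h'))
  rw [Finset.sum_congr rfl fun a _ => hterm a, ← Finset.sum_filter, Finset.sum_const] at hz
  have hk : (Finset.univ.filter fun a : A => (a : Γ) ∈ B).card = Nat.card B := by
    rw [← Fintype.card_subtype, ← Nat.card_eq_fintype_card]
    exact Nat.card_congr
      ⟨fun a => ⟨a.1, a.2⟩, fun b => ⟨⟨b, b.2.1⟩, b.2⟩, fun a => rfl, fun b => rfl⟩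
  rw [hk] at hz
  have hBd : (Nat.card B).Coprime (Nat.card V) :=
    hA.coprime_dvd_left (card_dvd_of_le fun b hb => hb.1)
  have h3 : (Nat.card V : ℕ) • ω v = 0 := by
    rw [← map_nsmul, card_nsmul_eq_zero', map_zero]
  have h4 : addOrderOf (ω v) ∣ (Nat.card B).gcd (Nat.card V) :=
    Nat.dvd_gcd (addOrderOf_dvd_of_nsmul_eq_zero hz) (addOrderOf_dvd_of_nsmul_eq_zero h3)
  rw [hBd.gcd_eq_one, Nat.dvd_one, AddMonoid.addOrderOf_eq_one_iff] at h4
  exact h4

/-- The centre of `S`, inside the ambient group. -/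
def cenIn (S : Subgroup Γ) : Subgroup Γ := S ⊓ centralizer (S : Set Γ)

theorem mem_cenIn {S : Subgroup Γ} {z : Γ} :
    z ∈ cenIn S ↔ z ∈ S ∧ ∀ y ∈ S, y * z = z * y :=
  ⟨fun h => ⟨(mem_inf.1 h).1, fun y hy => mem_centralizer_iff.1 (mem_inf.1 h).2 y hy⟩,
    fun h => mem_inf.2 ⟨h.1, mem_centralizer_iff.2 fun y hy => h.2 y hy⟩⟩

instance cenIn_normal (S : Subgroup Γ) [S.Normal] : (cenIn S).Normal := by
  unfold cenIn; infer_instance

/-- Commutation with the powers of `s` from a single commutator. -/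
theorem commutator_pow_mem {N : Subgroup Γ} [hN : N.Normal] {a y : Γ} (h : ⁅a, y⁆ ∈ N) (n : ℕ) :
    ⁅a ^ n, y⁆ ∈ N := by
  induction n with
  | zero => rw [pow_zero, commutatorElement_one_left]; exact one_mem N
  | succ n ih =>
    rw [pow_succ', show ⁅a * a ^ n, y⁆ = a * ⁅a ^ n, y⁆ * a⁻¹ * ⁅a, y⁆ by
      simp only [commutatorElement_def]; group]
    exact mul_mem (hN.conj_mem _ ih a) h

/-- Data for an irreducible class two group `S` with the operator `s` acting on `V`. -/
structure Setup (S : Subgroup Γ) (s : Γ) (r : ℕ) (V : Type*) [AddCommGroup V]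
    [DistribMulAction Γ V] : Prop where
  prime : r.Prime
  pow : s ^ r = 1
  gen : S ⊔ zpowers s = ⊤
  class2 : ∀ x ∈ S, ∀ y ∈ S, ⁅x, y⁆ ∈ cenIn S
  copS : (Nat.card S).Coprime r
  copV : (Nat.card S).Coprime (Nat.card V)
  coprV : r.Coprime (Nat.card V)
  irr : ∀ U : AddSubgroup V, IsInv (⊤ : Subgroup Γ) U → U = ⊥ ∨ U = ⊤
  faithful : ∀ g : Γ, (∀ v : V, g • v = v) → g = 1

namespace Setup

variable {S : Subgroup Γ} {r : ℕ}

theorem cop_zpowers (h : Setup S s r V) :
    (Nat.card (zpowers s)).Coprime (Nat.card V) := by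
  rw [Nat.card_zpowers]
  exact h.coprV.coprime_dvd_left (orderOf_dvd_of_pow_eq_one h.pow)

/-- A nontrivial normal subgroup has no fixed vector. -/
theorem fixedSub_eq_bot (h : Setup S s r V) {Q : Subgroup Γ} [hQ : Q.Normal] (h1 : Q ≠ ⊥) :
    fixedSub V Q = ⊥ := by
  refine (h.irr _ (isInv_fixedSub (by rw [normalizer_eq_top]))).resolve_right fun ht => h1 ?_
  refine eq_bot_iff.2 fun q hq => mem_bot.2 (h.faithful q fun v => ?_)
  exact mem_fixedSub.1 (ht ▸ AddSubgroup.mem_top v) q hq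

theorem normal_of (h : Setup S s r V) {Q : Subgroup Γ} (hS : S ≤ normalizer (Q : Set Γ))
    (hs : s ∈ normalizer (Q : Set Γ)) : Q.Normal := by
  rw [← normalizer_eq_top_iff, eq_top_iff, ← h.gen]
  exact sup_le hS (zpowers_le.2 hs)

/-- An element of `S` commuting with `s` and fixed by it from all sides is central. -/
theorem central_commute (h : Setup S s r V) {z : Γ} (hz : z ∈ cenIn S) (hzs : z * s = s * z)
    (g : Γ) : g * z = z * g := by
  have hle : S ⊔ zpowers s ≤ centralizer ({z} : Set Γ) :=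
    sup_le (fun y hy => mem_centralizer_singleton_iff.2 ((mem_cenIn.1 hz).2 y hy))
      (zpowers_le.2 (mem_centralizer_singleton_iff.2 hzs.symm))
  exact mem_centralizer_singleton_iff.1 (hle (h.gen ▸ mem_top g))

/-- Either `s` centralises the centre of `S`, or some normal subgroup of the centre is inverted
freely. -/
theorem centre_cases [Finite Γ] [S.Normal] (h : Setup S s r V) :
    (∀ z ∈ cenIn S, z * s = s * z) ∨ ∃ A : Subgroup Γ, A.Normal ∧ A ≤ cenIn S ∧
      (∀ a ∈ A, s * a = a * s → a = 1) ∧ fixedSub V A = ⊥ := by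
  by_cases hc : ∀ z ∈ cenIn S, z * s = s * z
  · exact Or.inl hc
  refine Or.inr ?_
  have hZn : (cenIn S).Normal := inferInstance
  have hcm : ∀ z ∈ cenIn S, ⁅z, s⁆ ∈ cenIn S := fun z hz => by
    rw [commutatorElement_def, mul_assoc z, mul_assoc z]
    exact mul_mem hz (hZn.conj_mem _ (inv_mem hz) s)
  have hcomm : ∀ a ∈ cenIn S, ∀ b ∈ cenIn S, a * b = b * a := fun a ha b hb =>
    ((mem_cenIn.1 ha).2 b (mem_cenIn.1 hb).1).symm
  let f : cenIn S →* Γ :=
    { toFun := fun z => ⁅(z : Γ), s⁆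
      map_one' := commutatorElement_one_left s
      map_mul' := fun x y => by
        show ⁅(x : Γ) * y, s⁆ = _
        rw [show ⁅(x : Γ) * y, s⁆ = x * ⁅(y : Γ), s⁆ * (x : Γ)⁻¹ * ⁅(x : Γ), s⁆ by
          simp only [commutatorElement_def]; group, hcomm _ x.2 _ (hcm _ y.2), mul_inv_cancel_right,
          hcomm _ (hcm _ y.2) _ (hcm _ x.2)] }
  have hle : f.range ≤ cenIn S := by
    rintro _ ⟨z, rfl⟩; exact hcm z z.2
  have hn : f.range.Normal := by
    refine h.normal_of (fun y hy => ?_) ?_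
    · refine centralizer_le_normalizer _ (mem_centralizer_iff.2 fun a ha => ?_)
      exact ((mem_cenIn.1 (hle ha)).2 y hy).symm
    · refine mem_normalizer_fintype fun a ha => ?_
      obtain ⟨z, rfl⟩ := ha
      refine ⟨⟨s * z * s⁻¹, hZn.conj_mem _ z.2 s⟩, ?_⟩
      show ⁅s * (z : Γ) * s⁻¹, s⁆ = s * ⁅(z : Γ), s⁆ * s⁻¹
      simp only [commutatorElement_def]; group
  have hfpf : ∀ a ∈ f.range, s * a = a * s → a = 1 := by
    rintro _ ⟨z, rfl⟩ hsa
    set a := f z with ha
    have e1 : s * z * s⁻¹ = a⁻¹ * (z : Γ) := by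
      show s * z * s⁻¹ = ⁅(z : Γ), s⁆⁻¹ * (z : Γ)
      simp only [commutatorElement_def]; group
    have hpw : ∀ i, s ^ i * z * (s ^ i)⁻¹ = a⁻¹ ^ i * (z : Γ) := by
      intro i
      induction i with
      | zero => simp
      | succ i ih =>
        have hc' : Commute s (a⁻¹ ^ i) := ((show Commute s a from hsa).inv_right).pow_right i
        rw [pow_succ' s, mul_inv_rev]
        calc s * s ^ i * z * ((s ^ i)⁻¹ * s⁻¹) = s * (s ^ i * z * (s ^ i)⁻¹) * s⁻¹ := by group
          _ = a⁻¹ ^ i * (s * z * s⁻¹) := by rw [ih, ← mul_assoc s, hc'.eq]; group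
          _ = a⁻¹ ^ (i + 1) * z := by rw [e1, pow_succ, mul_assoc]
    have hr : a ^ r = 1 := by
      have := hpw r
      rw [h.pow, one_mul, inv_one, mul_one] at this
      have h2 : a⁻¹ ^ r = 1 := mul_eq_right.mp this.symm
      rwa [inv_pow, inv_eq_one] at h2
    have ho : orderOf a ∣ Nat.card S :=
      Subgroup.orderOf_dvd_natCard S (mem_cenIn.1 (hle ⟨z, rfl⟩)).1
    rw [← orderOf_eq_one_iff]
    exact Nat.eq_one_of_dvd_coprimes h.copS ho (orderOf_dvd_of_pow_eq_one hr)
  refine ⟨f.range, hn, hle, hfpf, h.fixedSub_eq_bot fun hb => hc fun z hz => ?_⟩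
  exact commutatorElement_eq_one_iff_mul_comm.1 (f.range.eq_bot_iff_forall.1 hb _ ⟨⟨z, hz⟩, rfl⟩)

theorem copA (h : Setup S s r V) {A : Subgroup Γ} (hA : A ≤ cenIn S) :
    (Nat.card A).Coprime (Nat.card V) :=
  h.copV.coprime_dvd_left (card_dvd_of_le (hA.trans inf_le_left))

/-- Some fixed vector is not killed. -/
theorem exists_not_mem_killedSub [Finite Γ] [Finite V] [hSn : S.Normal] (h : Setup S s r V)
    (hD : IsDatum Γ Ω) (hmove : ∃ v : V, s • v ≠ v) {c : V} (hc : s • c = c) (hc0 : c ≠ 0) :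
    ∃ w : V, s • w = w ∧ w ∉ killedSub Ω s := by
  classical
  by_contra hall
  push Not at hall
  rcases h.centre_cases with hZ | ⟨A, hAn, hAZ, hAf, hA0⟩
  swap
  · exact hc0 (killedSub_eq_zero_of_regular hD (by rw [normalizer_eq_top]; trivial) hAf (h.copA hAZ)
      hA0 (hall c hc))
  obtain ⟨ω, hω, hωc⟩ : ∃ ω ∈ Ω, ω c ≠ 0 := by
    by_contra hno
    push Not at hno
    exact hc0 (hD.sep c hno)
  have hωm : ¬ IsMoved s ω := fun hm => hωc ((hall c hc).2 ω hω hm)
  have hfix : ∀ w, ω (s • w) = ω w := fun w => by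
    by_contra h'; exact hωm ⟨w, h'⟩
  let B : Subgroup Γ :=
    { carrier := {b | b ∈ S ∧ ∀ w, ω (b • w) = ω w}
      one_mem' := ⟨one_mem S, fun w => by rw [one_smul]⟩
      mul_mem' := fun {x y} hx hy => ⟨mul_mem hx.1 hy.1, fun w => by rw [mul_smul, hx.2, hy.2]⟩
      inv_mem' := fun {x} hx => ⟨inv_mem hx.1, fun w => by
        rw [← hx.2 (x⁻¹ • w), smul_inv_smul]⟩ }
  set N : Subgroup Γ := B ⊔ cenIn S with hNdef
  have hBS : B ≤ S := fun b hb => hb.1
  have hNS : N ≤ S := sup_le hBS inf_le_left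
  haveI hNn : N.Normal := by
    refine h.normal_of (fun y hy => ?_) ?_
    · refine mem_normalizer_fintype fun x hx => ?_
      rw [show y * x * y⁻¹ = ⁅y, x⁆ * x by simp [commutatorElement_def]]
      exact mul_mem (mem_sup_right (h.class2 y hy x (hNS hx))) hx
    · have hsB : B ≤ N.comap (MulAut.conj s).toMonoidHom := fun b hb => mem_sup_left ⟨by
          exact hSn.conj_mem b hb.1 s, fun w => by
          show ω ((s * b * s⁻¹) • w) = ω w
          rw [mul_smul, mul_smul, hfix, hb.2, ← hfix (s⁻¹ • w), smul_inv_smul]⟩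
      have hsZ : cenIn S ≤ N.comap (MulAut.conj s).toMonoidHom := fun z hz =>
        mem_sup_right ((inferInstance : (cenIn S).Normal).conj_mem z hz s)
      exact mem_normalizer_fintype fun x hx => sup_le hsB hsZ hx
  obtain ⟨y, hyS, hy⟩ : ∃ y ∈ S, ⁅y, s⁆ ∉ N := by
    by_contra hno
    push Not at hno
    have hyfix : ∀ y ∈ S, ∀ u, ω (y • s • u) = ω (y • u) := by
      intro y hy u
      obtain ⟨n, hn, hnc⟩ := Coprime.exists_mul_mem_centralizer (A := zpowers s) (N := N)
        (by rw [normalizer_eq_top]; exact le_top)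
        (by
          rw [Nat.card_zpowers]
          exact (h.copS.symm.coprime_dvd_left (orderOf_dvd_of_pow_eq_one h.pow)).coprime_dvd_right
            (card_dvd_of_le hNS))
        (Or.inl (Coprime.isSolvable_zpowers s)) (k := y) fun a ha => by
          obtain ⟨m, rfl⟩ := (mem_powers_iff_mem_zpowers (x := s)).2 ha
          exact commutator_pow_mem (Coprime.commutatorElement_mem_iff.2 (hno y hy)) m
      have hcs : s * (n * y) = n * y * s := mem_centralizer_iff.1 hnc s (mem_zpowers s)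
      obtain ⟨b, hb, z, hz, hbz⟩ := mem_sup_of_normal_right.1 (inv_mem hn)
      have ey : y = b * (z * (n * y)) := by rw [← mul_assoc b, hbz]; group
      have hzc : z * (n * y) * s = s * (z * (n * y)) := by
        rw [mul_assoc, ← hcs, ← mul_assoc, hZ z hz, mul_assoc]
      rw [ey, mul_smul b, mul_smul b, hb.2, hb.2, ← mul_smul, hzc, mul_smul, hfix]
    let U : AddSubgroup V :=
      ⨅ y : S, (ω.comp (DistribSMul.toAddMonoidHom V (y : Γ))).ker
    have hU : ∀ v, v ∈ U ↔ ∀ y ∈ S, ω (y • v) = 0 := fun v => by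
      simp [U, AddSubgroup.mem_iInf]
    have hUinv : IsInv (⊤ : Subgroup Γ) U := by
      rw [← h.gen]
      refine IsInv.sup (fun g hg v hv => (hU _).2 fun y hy => ?_) fun g hg v hv =>
        (hU _).2 fun y hy => ?_
      · rw [← mul_smul]; exact (hU v).1 hv _ (mul_mem hy hg)
      · obtain ⟨m, rfl⟩ := (mem_powers_iff_mem_zpowers (x := s)).2 hg
        show ω (y • s ^ m • v) = 0
        clear hg
        induction m with
        | zero => rw [pow_zero, one_smul]; exact (hU v).1 hv y hy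
        | succ m ih => rw [pow_succ', mul_smul, hyfix y hy]; exact ih
    rcases h.irr U hUinv with hb | ht
    · obtain ⟨v, hv⟩ := hmove
      refine hv (sub_eq_zero.1 ?_)
      rw [← AddSubgroup.mem_bot, ← hb, hU]
      intro y hy
      rw [smul_sub, map_sub, hyfix y hy, sub_self]
    · have h1 := (hU c).1 (ht ▸ AddSubgroup.mem_top c) 1 (one_mem S)
      rw [one_smul] at h1
      exact hωc h1
  -- the translates by `u` are moved
  have hmv : ∀ u ∈ S, ⁅u, s⁆ ∉ N → IsMoved s (ω.comp (DistribSMul.toAddMonoidHom V u)) := by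
    intro u hu hun
    by_contra hm
    have hcs : ⁅u, s⁆ ∈ S := by
      rw [commutatorElement_def, mul_assoc u, mul_assoc u]
      exact mul_mem hu (by simpa [mul_assoc] using hSn.conj_mem _ (inv_mem hu) s)
    exact hun (mem_sup_left ⟨hcs, (not_moved_comp_iff hωm u).1 hm⟩)
  set mk := QuotientGroup.mk' N with hmk
  have hgood : ∀ i, 0 < i → i < r → ⁅s ^ i * y * (s ^ i)⁻¹ * y⁻¹, s⁆ ∉ N := by
    intro i hi0 hir hmem
    set u := s ^ i * y * (s ^ i)⁻¹ * y⁻¹ with hu
    have hus : mk u * mk s = mk s * mk u := by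
      rw [← commutatorElement_eq_one_iff_mul_comm, ← map_commutatorElement]
      exact (QuotientGroup.eq_one_iff _).2 hmem
    have hstep : mk s ^ i * mk y * (mk s ^ i)⁻¹ = mk u * mk y := by
      rw [← map_pow, ← map_inv, ← map_mul, ← map_mul, ← map_mul, hu]; group
    have hk : ∀ k : ℕ, (mk s ^ i) ^ k * mk y * ((mk s ^ i) ^ k)⁻¹ = mk u ^ k * mk y := by
      intro k
      induction k with
      | zero => simp
      | succ k ih =>
        have hc' : Commute (mk s ^ i) (mk u ^ k) :=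
          ((show Commute (mk s) (mk u) from hus.symm).pow_left i).pow_right k
        rw [pow_succ' (mk s ^ i)]
        calc mk s ^ i * (mk s ^ i) ^ k * mk y * (mk s ^ i * (mk s ^ i) ^ k)⁻¹
            = mk s ^ i * ((mk s ^ i) ^ k * mk y * ((mk s ^ i) ^ k)⁻¹) * (mk s ^ i)⁻¹ := by group
          _ = mk u ^ k * (mk s ^ i * mk y * (mk s ^ i)⁻¹) := by
              rw [ih, ← mul_assoc _ (mk u ^ k), hc'.eq]; group
          _ = mk u ^ (k + 1) * mk y := by rw [hstep, pow_succ, mul_assoc]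
    have hr1 : mk u ^ r = 1 := by
      have h1 := hk r
      rw [← pow_mul, mul_comm i r, pow_mul, ← map_pow mk s r, h.pow, map_one, one_pow, one_mul,
        inv_one, mul_one] at h1
      exact mul_eq_right.mp h1.symm
    have huS : u ∈ S := mul_mem (hSn.conj_mem y hyS _) (inv_mem hyS)
    have hu1 : mk u = 1 := by
      rw [← orderOf_eq_one_iff]
      exact Nat.eq_one_of_dvd_coprimes h.copS
        ((orderOf_map_dvd mk u).trans (Subgroup.orderOf_dvd_natCard S huS))
        (orderOf_dvd_of_pow_eq_one hr1)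
    have hcy : Commute (mk s ^ i) (mk y) := by
      have h1 := hstep
      rw [hu1, one_mul] at h1
      exact mul_inv_eq_iff_eq_mul.1 h1
    refine hy ((QuotientGroup.eq_one_iff _).1 ?_)
    show mk ⁅y, s⁆ = 1
    rw [map_commutatorElement, commutatorElement_eq_one_iff_mul_comm]
    have hcop : i.Coprime r :=
      ((h.prime.coprime_iff_not_dvd).2 (Nat.not_dvd_of_pos_of_lt hi0 hir)).symm
    obtain ⟨m, -, hm⟩ := Nat.exists_mul_mod_eq_one_of_coprime hcop h.prime.one_lt
    have : (mk s ^ i) ^ m = mk s := by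
      rw [← map_pow, ← map_pow, ← pow_mul, pow_eq_pow_mod (i * m) h.pow, hm, pow_one]
    exact (this ▸ hcy.pow_left m).eq.symm
  let f : ℕ → V → T := fun i w => ω ((s ^ i * y * (s ^ i)⁻¹) • w)
  let μ : V →+ T :=
    ∑ i ∈ Finset.range r, ω.comp (DistribSMul.toAddMonoidHom V (s ^ i * y * (s ^ i)⁻¹))
  have hμ : ∀ w, μ w = ∑ i ∈ Finset.range r, f i w := fun w => by simp [μ, f]
  have hμ0 : ∀ w, μ w = 0 := by
    refine hom_eq_of_fixed_of_moved h.cop_zpowers (fun w hw => ?_) fun a ha w => ?_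
    · have hw' : s • w = w := mem_fixedSub_zpowers.1 hw
      rw [hμ]
      refine Finset.sum_eq_zero fun i _ => ?_
      have hsi : (s ^ i)⁻¹ • w = w := by
        rw [inv_smul_eq_iff]
        exact (mem_fixedSub.1 hw _ (pow_mem (mem_zpowers s) i)).symm
      have hfi : ∀ (j : ℕ) x, ω (s ^ j • x) = ω x := by
        intro j x
        induction j with
        | zero => rw [pow_zero, one_smul]
        | succ j ih => rw [pow_succ', mul_smul, hfix, ih]
      show ω ((s ^ i * y * (s ^ i)⁻¹) • w) = 0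
      rw [mul_smul, hsi, mul_smul, hfi]
      exact (hall w hw').2 _ (hD.comp_mem y ω hω) (hmv y hyS hy)
    · obtain ⟨m, rfl⟩ := (mem_powers_iff_mem_zpowers (x := s)).2 ha
      rw [map_sub, sub_eq_zero]
      clear ha
      show μ (s ^ m • w) = μ w
      induction m with
      | zero => rw [pow_zero, one_smul]
      | succ m ih =>
        rw [pow_succ', mul_smul, ← ih, hμ, hμ]
        have hstep : ∀ i x, f (i + 1) (s • x) = f i x := fun i x => by
          show ω ((s ^ (i + 1) * y * (s ^ (i + 1))⁻¹) • s • x) =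
            ω ((s ^ i * y * (s ^ i)⁻¹) • x)
          rw [← mul_smul, ← hfix ((s ^ i * y * (s ^ i)⁻¹) • x), ← mul_smul]
          congr 2
          rw [pow_succ']; group
        generalize s ^ m • w = x
        have h1 := Finset.sum_range_succ (fun i => f i (s • x)) r
        rw [Finset.sum_range_succ' (fun i => f i (s • x)) r] at h1
        have h0 : f r (s • x) = f 0 (s • x) := by
          show ω ((s ^ r * y * (s ^ r)⁻¹) • s • x) = ω ((s ^ 0 * y * (s ^ 0)⁻¹) • s • x)
          rw [h.pow, pow_zero]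
        rw [h0, add_right_cancel_iff] at h1
        rw [← h1]
        exact Finset.sum_congr rfl fun i _ => hstep i x
  have hev := hμ0 (y⁻¹ • c)
  rw [hμ, Finset.sum_eq_single_of_mem 0 (Finset.mem_range.2 h.prime.pos)] at hev
  · simp [f] at hev
    exact hωc hev
  · intro i hi hi0
    show ω ((s ^ i * y * (s ^ i)⁻¹) • y⁻¹ • c) = 0
    rw [← mul_smul]
    exact (hall c hc).2 _ (hD.comp_mem _ ω hω)
      (hmv _ (mul_mem (hSn.conj_mem y hyS _) (inv_mem hyS))
        (hgood i (Nat.pos_of_ne_zero hi0) (Finset.mem_range.1 hi)))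

/-- An element of the fixed part of `S` sending fixed vectors into the killed ones is trivial. -/
theorem eq_one_of_sub_mem_killedSub [Finite Γ] [Finite V] [hSn : S.Normal] (h : Setup S s r V)
    (hD : IsDatum Γ Ω) (hmove : ∃ v : V, s • v ≠ v) (hC : ∃ c : V, s • c = c ∧ c ≠ 0) {x : Γ}
    (hxS : x ∈ S) (hxs : x * s = s * x)
    (hx : ∀ w : V, s • w = w → x • w - w ∈ killedSub Ω s) : x = 1 := by
  classical
  rcases h.centre_cases with hZ | ⟨A, hAn, hAZ, hAf, hA0⟩
  swap
  · -- regular centre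
    have hk : ∀ w : V, s • w = w → x • w = w := fun w hw => sub_eq_zero.1
      (killedSub_eq_zero_of_regular hD (by rw [normalizer_eq_top]; trivial) hAf (h.copA hAZ) hA0
        (hx w hw))
    haveI : Fintype A := Fintype.ofFinite A
    refine h.faithful x fun v => ?_
    have hA := h.copA hAZ
    obtain ⟨v, rfl⟩ := (Nat.Coprime.nsmul_right_bijective (G := V) hA.symm).2 v
    show x • (Nat.card A • v) = Nat.card A • v
    have hsum : Nat.card A • v =
        ∑ a : A, (a : Γ) • ∑ i ∈ Finset.range r, s ^ i • (a : Γ)⁻¹ • v := by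
      simp only [Finset.smul_sum]
      rw [Finset.sum_comm, Finset.sum_eq_single_of_mem 0 (Finset.mem_range.2 h.prime.pos)]
      · simp only [pow_zero, one_smul, smul_inv_smul, Finset.sum_const, Finset.card_univ,
          Nat.card_eq_fintype_card]
      intro i hi hi0
      have hcA : ∀ a : A, ⁅(a : Γ), s ^ i⁆ ∈ A := fun a => by
        rw [commutatorElement_def, mul_assoc (a : Γ), mul_assoc (a : Γ)]
        exact mul_mem a.2 (by simpa [mul_assoc] using hAn.conj_mem _ (inv_mem a.2) (s ^ i))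
      have hinj : Function.Injective fun a : A => (⟨⁅(a : Γ), s ^ i⁆, hcA a⟩ : A) := by
        intro a b hab
        have h1 : (a : Γ) * s ^ i * (a : Γ)⁻¹ = b * s ^ i * (b : Γ)⁻¹ := by
          simpa [commutatorElement_def] using congrArg Subtype.val hab
        have h2 : Commute ((b : Γ)⁻¹ * a) (s ^ i) := by
          show (b : Γ)⁻¹ * a * s ^ i = s ^ i * ((b : Γ)⁻¹ * a)
          calc (b : Γ)⁻¹ * a * s ^ i = (b : Γ)⁻¹ * (a * s ^ i * (a : Γ)⁻¹) * a := by group
            _ = (b : Γ)⁻¹ * (b * s ^ i * (b : Γ)⁻¹) * a := by rw [h1]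
            _ = s ^ i * ((b : Γ)⁻¹ * a) := by group
        have hcop : i.Coprime r := ((h.prime.coprime_iff_not_dvd).2
          (Nat.not_dvd_of_pos_of_lt (Nat.pos_of_ne_zero hi0) (Finset.mem_range.1 hi))).symm
        obtain ⟨m, -, hm⟩ := Nat.exists_mul_mod_eq_one_of_coprime hcop h.prime.one_lt
        have h3 : (s ^ i) ^ m = s := by
          rw [← pow_mul, pow_eq_pow_mod (i * m) h.pow, hm, pow_one]
        exact Subtype.ext
          (inv_mul_eq_one.1 (hAf _ (mul_mem (inv_mem b.2) a.2) (h3 ▸ h2.pow_right m).eq.symm)).symm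
      have hz := sum_smul_eq_zero hA0 (s ^ i • v)
      rw [← Equiv.sum_comp (Equiv.ofBijective _ ⟨hinj, Finite.surjective_of_injective hinj⟩)] at hz
      refine Eq.trans (Finset.sum_congr rfl fun a _ => ?_) hz
      show (a : Γ) • s ^ i • (a : Γ)⁻¹ • v = ⁅(a : Γ), s ^ i⁆ • s ^ i • v
      rw [← mul_smul, ← mul_smul, ← mul_smul, commutatorElement_def]
      congr 1; group
    rw [hsum, Finset.smul_sum]
    refine Finset.sum_congr rfl fun a _ => ?_
    rw [← mul_smul, (mem_cenIn.1 (hAZ a.2)).2 x hxS, mul_smul,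
      hk _ (smul_orbit_sum h.pow ((a : Γ)⁻¹ • v))]
  -- `s` centralises the centre
  by_contra hx1
  have key : ∀ z ∈ cenIn S, z ≠ 1 → (∀ w : V, s • w = w → z • w - w ∈ killedSub Ω s) → False := by
    intro z hz hz1 hzk
    have hzs := hZ z hz
    haveI : (zpowers z).Normal := by
      rw [← normalizer_eq_top_iff, eq_top_iff]
      intro g _
      refine centralizer_le_normalizer _ (mem_centralizer_iff.2 fun a ha => ?_)
      obtain ⟨k, rfl⟩ := mem_zpowers_iff.1 ha
      exact ((show Commute g z from h.central_commute hz hzs g).zpow_right k).eq.symm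
    have h0 := h.fixedSub_eq_bot (Q := zpowers z) (by rwa [ne_eq, zpowers_eq_bot])
    let φ : fixedBySub V s → fixedBySub V s := fun w => ⟨z • (w : V) - w, by
      show s • (z • (w : V) - w) = z • (w : V) - w
      rw [smul_sub, ← mul_smul, ← hzs, mul_smul, show s • (w : V) = w from w.2]⟩
    have hinj : Function.Injective φ := by
      intro a b hab
      have h1 : z • (a : V) - a = z • (b : V) - b := congrArg Subtype.val hab
      refine Subtype.ext (sub_eq_zero.1 ?_)
      rw [← AddSubgroup.mem_bot, ← h0]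
      refine mem_fixedSub_zpowers.2 ?_
      rw [smul_sub, sub_eq_sub_iff_sub_eq_sub]
      exact h1
    obtain ⟨c, hc, hc0⟩ := hC
    obtain ⟨w, hw, hwk⟩ := h.exists_not_mem_killedSub hD hmove hc hc0
    obtain ⟨u, hu⟩ := Finite.surjective_of_injective hinj ⟨w, hw⟩
    have e : z • (u : V) - u = w := congrArg Subtype.val hu
    rw [← e] at hwk
    exact hwk (hzk u u.2)
  by_cases hxZ : x ∈ cenIn S
  · exact key x hxZ hx1 hx
  obtain ⟨c, hcS, hcs, hxc⟩ : ∃ c ∈ S, c * s = s * c ∧ x * c ≠ c * x := by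
    by_contra hno
    push Not at hno
    refine hxZ (mem_cenIn.2 ⟨hxS, fun y hy => ?_⟩)
    have hSle : S ≤ centralizer ({x} : Set Γ) := by
      have hsN : zpowers s ≤ normalizer (S : Set Γ) := by rw [normalizer_eq_top]; exact le_top
      rw [← Coprime.commutator_sup_centralizer (A := zpowers s) hsN
        (by rw [Nat.card_zpowers]
            exact h.copS.symm.coprime_dvd_left (orderOf_dvd_of_pow_eq_one h.pow))
        (Or.inl (Coprime.isSolvable_zpowers s))]
      refine sup_le (commutator_le.2 fun u hu a ha => ?_) fun u hu => ?_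
      · obtain ⟨m, rfl⟩ := (mem_powers_iff_mem_zpowers (x := s)).2 ha
        set g := s ^ m
        have hgx : g * x = x * g := ((show Commute s x from hxs.symm).pow_left m).eq
        have h1 : g * ⁅x, u⁆ = ⁅x, u⁆ * g :=
          ((show Commute s ⁅x, u⁆ from (hZ _ (h.class2 x hxS u hu)).symm).pow_left m).eq
        have h2 : ⁅x, g * u * g⁻¹⁆ = ⁅x, u⁆ := by
          have e : ⁅g * x * g⁻¹, g * u * g⁻¹⁆ = g * ⁅x, u⁆ * g⁻¹ := by
            simp only [commutatorElement_def]; group
          rw [hgx, mul_inv_cancel_right, h1, mul_inv_cancel_right] at e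
          exact e
        have h3 : g * u * g⁻¹ * x⁻¹ * (g * u * g⁻¹)⁻¹ = u * x⁻¹ * u⁻¹ := by
          simpa [commutatorElement_def, mul_assoc] using h2
        have h4 : Commute (u⁻¹ * (g * u * g⁻¹)) x⁻¹ := by
          show u⁻¹ * (g * u * g⁻¹) * x⁻¹ = x⁻¹ * (u⁻¹ * (g * u * g⁻¹))
          calc u⁻¹ * (g * u * g⁻¹) * x⁻¹
              = u⁻¹ * (g * u * g⁻¹ * x⁻¹ * (g * u * g⁻¹)⁻¹) * (g * u * g⁻¹) := by group
            _ = x⁻¹ * (u⁻¹ * (g * u * g⁻¹)) := by rw [h3]; group
        rw [mem_centralizer_singleton_iff]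
        set w := u⁻¹ * (g * u * g⁻¹) with hw
        have hwS : w⁻¹ ∈ S := inv_mem (mul_mem (inv_mem hu) (hSn.conj_mem u hu g))
        have hu' : ⁅u, g⁆ = ⁅u, w⁻¹⁆ * w⁻¹ := by
          rw [hw]; simp only [commutatorElement_def]; group
        have h5 : Commute ⁅u, w⁻¹⁆ x :=
          (show Commute x ⁅u, w⁻¹⁆ from (mem_cenIn.1 (h.class2 u hu _ hwS)).2 x hxS).symm
        rw [hu']
        exact (h5.mul_left (by simpa using h4.inv_inv)).eq
      · exact mem_centralizer_singleton_iff.2 ((hno u (mem_inf.1 hu).1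
          (mem_centralizer_iff.1 (mem_inf.1 hu).2 s (mem_zpowers s)).symm).symm)
    exact mem_centralizer_singleton_iff.1 (hSle hy)
  refine key ⁅x, c⁆ (h.class2 x hxS c hcS) (fun h1 => hxc (commutatorElement_eq_one_iff_mul_comm.1 h1))
    fun w hw => ?_
  have hxi : ∀ w : V, s • w = w → x⁻¹ • w - w ∈ killedSub Ω s := fun w hw => by
    have hw' : s • x⁻¹ • w = x⁻¹ • w := by
      rw [← mul_smul, (show Commute s x⁻¹ from (show Commute s x from hxs.symm).inv_right).eq,
        mul_smul, hw]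
    have := neg_mem (hx _ hw')
    rwa [smul_inv_smul, neg_sub] at this
  have hci : Commute s c⁻¹ := (show Commute s c from hcs.symm).inv_right
  have hw1 : s • c⁻¹ • w = c⁻¹ • w := by rw [← mul_smul, hci.eq, mul_smul, hw]
  have hw2 : s • c • x⁻¹ • c⁻¹ • w = c • x⁻¹ • c⁻¹ • w := by
    rw [← mul_smul s c, ← hcs, mul_smul, ← mul_smul s x⁻¹,
      (show Commute s x⁻¹ from (show Commute s x from hxs.symm).inv_right).eq, mul_smul, hw1]
  have e : ⁅x, c⁆ • w - w = (x • c • x⁻¹ • c⁻¹ • w - c • x⁻¹ • c⁻¹ • w) +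
      c • (x⁻¹ • c⁻¹ • w - c⁻¹ • w) := by
    rw [smul_sub, smul_inv_smul, commutatorElement_def, mul_smul, mul_smul, mul_smul]
    abel
  rw [e]
  exact add_mem (hx _ hw2) (smul_mem_killedSub hD hcs (hxi _ hw1))

end Setup

end CfsgLib.Solvable.TurullHeight
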