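import Cfsg.Agent.Lib.Solvable.TurullHeight.Killed
import Mathlib.Algebra.Group.Units.Hom
import Mathlib.Algebra.Group.TypeTags.Hom
import Mathlib.GroupTheory.PGroup
import Mathlib.GroupTheory.QuotientGroup.Basic

/-!
# The symplectic module of a class two group
-/

set_option autoImplicit false

namespace CfsgLib.Solvable.TurullHeight

open Subgroup CfsgLib
open scoped commutatorElement

universe u w

/-- The module `R / Z(R)` of a class two group with the commutator form. -/
structure SympModule {Γ : Type u} [Group Γ] (R : Subgroup Γ) {T : Type w} [CommGroup T]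
    (χ : cenIn R →* T) (M : Type u) [AddCommGroup M] [DistribMulAction Γ M]
    (cl : R → M) (B : M →+ M →+ Additive T) : Prop where
  finite : Finite M
  surj : Function.Surjective cl
  map_mul : ∀ a b : R, cl (a * b) = cl a + cl b
  map_one : cl 1 = 0
  eq_zero : ∀ a : R, cl a = 0 ↔ (a : Γ) ∈ cenIn R
  map_conj : ∀ (g : Γ) (a : R) (h : g * a * g⁻¹ ∈ R), cl ⟨g * a * g⁻¹, h⟩ = g • cl a
  form : ∀ (a b : R) (h : ⁅(a : Γ), (b : Γ)⁆ ∈ cenIn R),
    B (cl a) (cl b) = Additive.ofMul (χ ⟨⁅(a : Γ), (b : Γ)⁆, h⟩)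
  nondeg : ∀ m, (∀ m', B m m' = 0) → m = 0
  refl : ∀ m m', B m m' = 0 → B m' m = 0
  isometry : ∀ g : Γ, (∀ a ∈ R, ∀ b ∈ R, g * ⁅a, b⁆ = ⁅a, b⁆ * g) →
    ∀ m m', B (g • m) (g • m') = B m m'
  card_eq : Nat.card M = (cenIn R).relIndex R

/-- The symplectic module exists. -/
theorem exists_sympModule {Γ : Type u} [Group Γ] [Finite Γ] {R : Subgroup Γ} [hRn : R.Normal]
    (hclass : ∀ a ∈ R, ∀ b ∈ R, ⁅a, b⁆ ∈ cenIn R) {T : Type w} [CommGroup T] (χ : cenIn R →* T)
    (hinj : ∀ a ∈ R, ∀ b ∈ R, ∀ h : ⁅a, b⁆ ∈ cenIn R, χ ⟨⁅a, b⁆, h⟩ = 1 → ⁅a, b⁆ = 1) :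
    ∃ (M : Type u) (_ : AddCommGroup M) (_ : DistribMulAction Γ M) (cl : R → M)
      (B : M →+ M →+ Additive T), SympModule R χ M cl B := by
  classical
  set N := (cenIn R).subgroupOf R with hN
  haveI : N.Normal := (inferInstance : (cenIn R).Normal).subgroupOf R
  have hab : ∀ x y : R ⧸ N, x * y = y * x := by
    intro x y
    obtain ⟨a, rfl⟩ := QuotientGroup.mk_surjective x
    obtain ⟨b, rfl⟩ := QuotientGroup.mk_surjective y
    refine QuotientGroup.eq.2 (mem_subgroupOf.2 ?_)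
    have h1 := hclass _ (R.inv_mem b.2) _ (R.inv_mem a.2)
    simpa [commutatorElement_def, mul_assoc] using h1
  letI : CommGroup (R ⧸ N) := { (inferInstance : Group (R ⧸ N)) with mul_comm := hab }
  have hmem : ∀ g : Γ, N ≤ N.comap (MulAut.conjNormal g : MulAut R).toMonoidHom := fun g x hx => by
    show ((MulAut.conjNormal g x : R) : Γ) ∈ cenIn R
    rw [MulAut.conjNormal_apply]
    exact (inferInstance : (cenIn R).Normal).conj_mem _ hx _
  let φ : Γ → (R ⧸ N →* R ⧸ N) := fun g =>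
    QuotientGroup.map N N (MulAut.conjNormal g : MulAut R).toMonoidHom (hmem g)
  have hφ : ∀ (g : Γ) (a : R), φ g (QuotientGroup.mk a) =
      QuotientGroup.mk ((MulAut.conjNormal g : MulAut R) a) := fun g a => rfl
  have hφ1 : ∀ x, φ 1 x = x := fun x => by
    obtain ⟨a, rfl⟩ := QuotientGroup.mk_surjective x
    rw [hφ, map_one, MulAut.one_apply]
  have hφm : ∀ g k x, φ (g * k) x = φ g (φ k x) := fun g k x => by
    obtain ⟨a, rfl⟩ := QuotientGroup.mk_surjective x
    rw [hφ, hφ, hφ, map_mul, MulAut.mul_apply]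
  let act : DistribMulAction Γ (Additive (R ⧸ N)) :=
    { smul := fun g m => Additive.ofMul (φ g m.toMul)
      one_smul := fun m => congrArg Additive.ofMul (hφ1 m.toMul)
      mul_smul := fun g k m => congrArg Additive.ofMul (hφm g k m.toMul)
      smul_zero := fun g => congrArg Additive.ofMul (map_one (φ g))
      smul_add := fun g a b => congrArg Additive.ofMul (map_mul (φ g) a.toMul b.toMul) }
  have hmul_left : ∀ a ∈ R, ∀ b ∈ R, ∀ c ∈ R, ⁅a * b, c⁆ = ⁅a, c⁆ * ⁅b, c⁆ := by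
    intro a ha b hb c hc
    have hz := mem_cenIn.1 (hclass b hb c hc)
    calc ⁅a * b, c⁆ = a * ⁅b, c⁆ * a⁻¹ * ⁅a, c⁆ := by simp only [commutatorElement_def]; group
      _ = ⁅b, c⁆ * ⁅a, c⁆ := by rw [hz.2 a ha, mul_inv_cancel_right]
      _ = ⁅a, c⁆ * ⁅b, c⁆ := (hz.2 _ (mem_cenIn.1 (hclass a ha c hc)).1).symm
  have hmul_right : ∀ a ∈ R, ∀ b ∈ R, ∀ c ∈ R, ⁅a, b * c⁆ = ⁅a, b⁆ * ⁅a, c⁆ := by
    intro a ha b hb c hc
    rw [← commutatorElement_inv (b * c) a, hmul_left b hb c hc a ha, mul_inv_rev,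
      commutatorElement_inv, commutatorElement_inv]
    exact (mem_cenIn.1 (hclass a ha b hb)).2 _ (mem_cenIn.1 (hclass a ha c hc)).1
  let f : R → R →* T := fun a =>
    { toFun := fun b => χ ⟨⁅(a : Γ), (b : Γ)⁆, hclass a a.2 b b.2⟩
      map_one' := by
        rw [← map_one χ]; congr 1; exact Subtype.ext (commutatorElement_one_right _)
      map_mul' := fun b c => by
        rw [← map_mul]; congr 1; exact Subtype.ext (hmul_right a a.2 b b.2 c c.2) }
  have hfN : ∀ a : R, N ≤ (f a).ker := fun a z hz => by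
    show χ _ = 1
    rw [← map_one χ]; congr 1
    exact Subtype.ext (commutatorElement_eq_one_iff_mul_comm.2 ((mem_cenIn.1 hz).2 a a.2))
  let f₁ : R →* (R ⧸ N →* T) :=
    { toFun := fun a => QuotientGroup.lift N (f a) (hfN a)
      map_one' := by
        refine MonoidHom.ext fun x => ?_
        obtain ⟨b, rfl⟩ := QuotientGroup.mk_surjective x
        show χ _ = 1
        rw [← map_one χ]; congr 1; exact Subtype.ext (commutatorElement_one_left _)
      map_mul' := fun a b => by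
        refine MonoidHom.ext fun x => ?_
        obtain ⟨c, rfl⟩ := QuotientGroup.mk_surjective x
        show χ _ = χ _ * χ _
        rw [← map_mul]; congr 1; exact Subtype.ext (hmul_left a a.2 b b.2 c c.2) }
  let f₂ : R ⧸ N →* (R ⧸ N →* T) := QuotientGroup.lift N f₁ fun z hz => by
    refine MonoidHom.mem_ker.2 (MonoidHom.ext fun x => ?_)
    obtain ⟨c, rfl⟩ := QuotientGroup.mk_surjective x
    show χ _ = 1
    rw [← map_one χ]; congr 1
    exact Subtype.ext (commutatorElement_eq_one_iff_mul_comm.2 ((mem_cenIn.1 hz).2 c c.2).symm)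
  let B : Additive (R ⧸ N) →+ Additive (R ⧸ N) →+ Additive T :=
    AddMonoidHom.mk' (fun m => MonoidHom.toAdditive (f₂ m.toMul)) fun a b => AddMonoidHom.ext fun x =>
      congrArg Additive.ofMul (DFunLike.congr_fun (map_mul f₂ a.toMul b.toMul) x.toMul)
  let cl : R → Additive (R ⧸ N) := fun a => Additive.ofMul (QuotientGroup.mk a)
  have hform : ∀ (a b : R), B (cl a) (cl b) =
      Additive.ofMul (χ ⟨⁅(a : Γ), (b : Γ)⁆, hclass a a.2 b b.2⟩) := fun a b => rfl
  have hsurj : Function.Surjective cl := fun m =>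
    (QuotientGroup.mk_surjective m.toMul).imp fun a ha => congrArg Additive.ofMul ha
  refine ⟨Additive (R ⧸ N), inferInstance, act, cl, B,
    ⟨inferInstanceAs (Finite (R ⧸ N)), hsurj, fun a b => rfl, rfl, fun a => ?_, fun g a h => ?_,
      fun a b h => rfl, fun m hm => ?_, fun m m' h => ?_, fun g hg m m' => ?_, rfl⟩⟩
  · exact ofMul_eq_zero.trans ((QuotientGroup.eq_one_iff a).trans mem_subgroupOf)
  · show Additive.ofMul _ = Additive.ofMul _
    congr 1
  · obtain ⟨a, rfl⟩ := hsurj m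
    refine (ofMul_eq_zero.trans ((QuotientGroup.eq_one_iff a).trans mem_subgroupOf)).2
      (mem_cenIn.2 ⟨a.2, fun b hb => ?_⟩)
    have h1 := hm (cl ⟨b, hb⟩)
    rw [hform] at h1
    exact (commutatorElement_eq_one_iff_mul_comm.1
      (hinj _ a.2 b hb _ (ofMul_eq_zero.1 h1))).symm
  · obtain ⟨a, rfl⟩ := hsurj m
    obtain ⟨b, rfl⟩ := hsurj m'
    rw [hform] at h ⊢
    rw [ofMul_eq_zero] at h ⊢
    rw [← map_one χ]; congr 1
    refine Subtype.ext ?_
    show ⁅(b : Γ), (a : Γ)⁆ = 1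
    rw [← commutatorElement_inv, hinj _ a.2 _ b.2 _ h, inv_one]
  · obtain ⟨a, rfl⟩ := hsurj m
    obtain ⟨b, rfl⟩ := hsurj m'
    have ea : g • cl a = cl ((MulAut.conjNormal g : MulAut R) a) := rfl
    have eb : g • cl b = cl ((MulAut.conjNormal g : MulAut R) b) := rfl
    rw [ea, eb, hform, hform]
    congr 2
    refine Subtype.ext ?_
    show ⁅((MulAut.conjNormal g : MulAut R) a : Γ), ((MulAut.conjNormal g : MulAut R) b : Γ)⁆ = _
    rw [MulAut.conjNormal_apply, MulAut.conjNormal_apply]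
    calc ⁅g * (a : Γ) * g⁻¹, g * (b : Γ) * g⁻¹⁆ = g * ⁅(a : Γ), (b : Γ)⁆ * g⁻¹ := by
          simp only [commutatorElement_def]; group
      _ = ⁅(a : Γ), (b : Γ)⁆ := by rw [hg _ a.2 _ b.2, mul_inv_cancel_right]

section Restrict

variable {Γ : Type*} {V : Type*} [Group Γ] [AddCommGroup V] [DistribMulAction Γ V]

/-- The action on a stable subgroup. -/
def resEnd (N : AddSubgroup V) (h : IsInv (⊤ : Subgroup Γ) N) : Γ →* AddMonoid.End N where
  toFun g :=
    { toFun := fun v => ⟨g • (v : V), h g trivial v v.2⟩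
      map_zero' := Subtype.ext (smul_zero g)
      map_add' := fun a b => Subtype.ext (smul_add g (a : V) b) }
  map_one' := AddMonoidHom.ext fun v => Subtype.ext (one_smul Γ (v : V))
  map_mul' a b := AddMonoidHom.ext fun v => Subtype.ext (mul_smul a b (v : V))

/-- The operators induced on a stable subgroup. -/
abbrev resGroup (N : AddSubgroup V) (h : IsInv (⊤ : Subgroup Γ) N) : Subgroup (AddMonoid.End N)ˣ :=
  (resEnd N h).toHomUnits.range

/-- The homomorphism onto the induced operators. -/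
abbrev resHom (N : AddSubgroup V) (h : IsInv (⊤ : Subgroup Γ) N) : Γ →* resGroup N h :=
  (resEnd N h).toHomUnits.rangeRestrict

theorem resHom_smul {N : AddSubgroup V} (h : IsInv (⊤ : Subgroup Γ) N) (g : Γ) (v : N) :
    ((resHom N h g • v : N) : V) = g • (v : V) := rfl

theorem resHom_eq_one_iff {N : AddSubgroup V} (h : IsInv (⊤ : Subgroup Γ) N) (g : Γ) :
    resHom N h g = 1 ↔ ∀ v ∈ N, g • v = v := by
  constructor
  · intro hg v hv
    have := resHom_smul h g ⟨v, hv⟩
    rw [hg, one_smul] at this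
    exact this.symm
  · exact fun hg => Subtype.ext (Units.ext (AddMonoidHom.ext fun v => Subtype.ext (hg v v.2)))

theorem resGroup_faithful {N : AddSubgroup V} (h : IsInv (⊤ : Subgroup Γ) N) (g : resGroup N h)
    (hg : ∀ v : N, g • v = v) : g = 1 :=
  Subtype.ext (Units.ext (AddMonoidHom.ext hg))

theorem resHom_surjective {N : AddSubgroup V} (h : IsInv (⊤ : Subgroup Γ) N) :
    Function.Surjective (resHom N h) :=
  MonoidHom.rangeRestrict_surjective _

theorem finite_resGroup [Finite Γ] {N : AddSubgroup V} (h : IsInv (⊤ : Subgroup Γ) N) :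
    Finite (resGroup N h) :=
  Finite.of_surjective _ (resHom_surjective h)

/-- A datum restricts to a stable subgroup. -/
theorem IsDatum.restrict {T : Type*} [AddCommGroup T] {Ω : Set (V →+ T)} (hD : IsDatum Γ Ω)
    {N : AddSubgroup V} (h : IsInv (⊤ : Subgroup Γ) N) :
    IsDatum (resGroup N h) ((fun ω => ω.comp N.subtype) '' Ω) := by
  refine ⟨?_, fun v hv => Subtype.ext (hD.sep v fun ω hω => hv _ ⟨ω, hω, rfl⟩)⟩
  rintro g _ ⟨ω, hω, rfl⟩
  obtain ⟨k, rfl⟩ := resHom_surjective h g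
  exact ⟨_, hD.comp_mem k ω hω, AddMonoidHom.ext fun v => rfl⟩

theorem coe_mem_killedSub_restrict {T : Type*} [AddCommGroup T] {Ω : Set (V →+ T)}
    {N : AddSubgroup V} (h : IsInv (⊤ : Subgroup Γ) N) {s : Γ} {v : N}
    (hv : (v : V) ∈ killedSub Ω s) :
    v ∈ killedSub ((fun ω => ω.comp N.subtype) '' Ω) (resHom N h s) := by
  refine ⟨Subtype.ext ((resHom_smul h s v).trans hv.1), ?_⟩
  rintro _ ⟨ω, hω, rfl⟩ ⟨u, hu⟩
  exact hv.2 ω hω ⟨u, hu⟩

end Restrict

/-- Orbits of an operator of prime order without fixed points. -/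
theorem card_modEq_one {Γ V : Type*} [Group Γ] [AddCommGroup V] [DistribMulAction Γ V] [Finite V]
    {r : ℕ} (hr : r.Prime) {s : Γ} (hs : s ^ r = 1) {N : AddSubgroup V}
    (hN : IsInv (zpowers s) N) (hfree : ∀ v ∈ N, s • v = v → v = 0) :
    Nat.card N ≡ 1 [MOD r] := by
  haveI := Fact.mk hr
  let act : MulAction (zpowers s) N :=
    { smul := fun g v => ⟨(g : Γ) • (v : V), hN g g.2 v v.2⟩
      one_smul := fun v => Subtype.ext (one_smul Γ (v : V))
      mul_smul := fun g k v => Subtype.ext (mul_smul (g : Γ) k (v : V)) }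
  have hp : IsPGroup r (zpowers s) := by
    rintro ⟨g, hg⟩
    obtain ⟨n, rfl⟩ := mem_zpowers_iff.1 hg
    refine ⟨1, Subtype.ext ?_⟩
    show (s ^ n) ^ r ^ 1 = 1
    rw [pow_one, ← zpow_natCast, ← zpow_mul, mul_comm n, zpow_mul, zpow_natCast, hs, one_zpow]
  refine (hp.card_modEq_card_fixedPoints N).trans ?_
  have h1 : Nat.card (MulAction.fixedPoints (zpowers s) N) = 1 := by
    rw [Nat.card_eq_one_iff_unique]
    exact ⟨⟨fun a b => Subtype.ext (Subtype.ext
      ((hfree _ a.1.2 (congrArg Subtype.val (a.2 ⟨s, mem_zpowers s⟩))).trans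
        (hfree _ b.1.2 (congrArg Subtype.val (b.2 ⟨s, mem_zpowers s⟩))).symm))⟩,
      ⟨⟨0, fun g => Subtype.ext (smul_zero (g : Γ))⟩⟩⟩
  rw [h1]

end CfsgLib.Solvable.TurullHeight
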