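import Cfsg.Agent.Lib.Solvable.TurullHeight.Tower
import Cfsg.Agent.Lib.Solvable.TurullHeight.Symp
import Cfsg.Agent.Lib.PGroup.Frattini
import Mathlib.Algebra.Module.ZMod

/-!
# The layers of a tower

`den P p K i` is the Frattini subgroup of `P i` joined with the kernel; the quotient `P i / den` is
an irreducible module for the upper members and the operator.
-/

set_option autoImplicit false

namespace CfsgLib.Solvable.TurullHeight

open Subgroup CfsgLib
open scoped commutatorElement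

universe u

variable {Γ : Type u} [Group Γ]

/-- The upper members of the tower with the operator. -/
def upper (P : ℕ → Subgroup Γ) (s : Γ) (j : ℕ) : Subgroup Γ :=
  (⨆ l ∈ Finset.Icc 1 j, P l) ⊔ zpowers s

theorem le_upper {P : ℕ → Subgroup Γ} {s : Γ} {l j : ℕ} (hl : 1 ≤ l) (hlj : l ≤ j) :
    P l ≤ upper P s j :=
  le_sup_of_le_left (le_iSup₂_of_le l (Finset.mem_Icc.2 ⟨hl, hlj⟩) le_rfl)

theorem mem_upper {P : ℕ → Subgroup Γ} {s : Γ} (j : ℕ) : s ∈ upper P s j :=
  mem_sup_right (mem_zpowers s)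

theorem upper_le {P : ℕ → Subgroup Γ} {s : Γ} {j : ℕ} {H : Subgroup Γ}
    (hP : ∀ l, 1 ≤ l → l ≤ j → P l ≤ H) (hs : s ∈ H) : upper P s j ≤ H :=
  sup_le (iSup₂_le fun l hl => hP l (Finset.mem_Icc.1 hl).1 (Finset.mem_Icc.1 hl).2)
    (zpowers_le.2 hs)

theorem upper_mono {P : ℕ → Subgroup Γ} {s : Γ} {i j : ℕ} (hij : i ≤ j) :
    upper P s i ≤ upper P s j :=
  upper_le (fun _ hl hlj => le_upper hl (hlj.trans hij)) (mem_upper j)

/-- The Frattini subgroup joined with the kernel. -/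
def den (P K : ℕ → Subgroup Γ) (i : ℕ) : Subgroup Γ :=
  (frattini (P i)).map (P i).subtype ⊔ K i

/-- An operator commuting with a normalised `D` moves `y` into the centraliser of `D`. -/
theorem commute_commutator_of_fixed {D : Subgroup Γ} {x y : Γ}
    (hyD : y ∈ normalizer (D : Set Γ)) (hx : ∀ d ∈ D, x * d = d * x) {d : Γ} (hd : d ∈ D) :
    ⁅y, x⁆ * d = d * ⁅y, x⁆ := by
  have h1 : y⁻¹ * d * y ∈ D := (mem_normalizer_iff''.1 hyD d).1 hd
  have e1 : x⁻¹ * (y⁻¹ * d * y) * x = y⁻¹ * d * y := by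
    rw [mul_assoc _ _ x, ← hx _ h1, inv_mul_cancel_left]
  rw [commutatorElement_def]
  calc y * x * y⁻¹ * x⁻¹ * d = y * x * y⁻¹ * d * x⁻¹ := by
        rw [mul_assoc _ x⁻¹ d, mul_assoc _ d x⁻¹, (show Commute x d from hx d hd).inv_left.eq]
    _ = y * x * (y⁻¹ * d * y) * y⁻¹ * x⁻¹ := by group
    _ = y * (y⁻¹ * d * y) * x * y⁻¹ * x⁻¹ := by rw [mul_assoc y x, hx _ h1, ← mul_assoc y]
    _ = d * (y * x * y⁻¹ * x⁻¹) := by group

namespace Tower

variable {G : Subgroup Γ} {s : Γ} {h : ℕ} {P : ℕ → Subgroup Γ} {p : ℕ → ℕ} {K : ℕ → Subgroup Γ}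

theorem upper_le_normalizer (hT : Tower G s h P p K) {j l : ℕ} (hjl : j ≤ l) (hl1 : 1 ≤ l)
    (hl : l ≤ h) : upper P s j ≤ normalizer (P l : Set Γ) :=
  upper_le (fun i hi hij => hT.norm i l hi (hij.trans hjl) hl) (hT.norm_s l hl1 hl)

theorem upper_le_normalizer_ker [Finite Γ] (hT : Tower G s h P p K) {j l : ℕ} (hjl : j ≤ l)
    (hl1 : 1 ≤ l) (hl : l ≤ h) : upper P s j ≤ normalizer (K l : Set Γ) :=
  upper_le (fun i hi hij => hT.le_normalizer_ker hi (hij.trans hjl) hl)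
    (hT.s_mem_normalizer_ker hl1 hl)

theorem not_le_ker [Finite Γ] (hT : Tower G s h P p K) {i : ℕ} (hi : 1 ≤ i) (hih : i ≤ h) :
    ¬ P i ≤ K i := by
  intro hle
  rcases Nat.lt_or_eq_of_le hi with hi1 | hi1
  · obtain ⟨j, rfl⟩ : ∃ j, i = j + 1 := ⟨i - 1, by omega⟩
    refine hT.act j (by omega) (by omega) (commutator_le.2 fun y hy x hx => ?_)
    rw [commutatorElement_def, mul_assoc, mul_assoc, ← mul_assoc x]
    exact mul_mem (hle hy) ((mem_normalizer_iff.1
      (hT.le_normalizer_ker (show 1 ≤ j by omega) (by omega) hih hx) _).1 (inv_mem (hle hy)))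
  · subst hi1; exact hT.top hle

theorem den_le [Finite Γ] (hT : Tower G s h P p K) {i : ℕ} (hi : 1 ≤ i) (hih : i ≤ h) :
    den P K i ≤ P i :=
  sup_le (map_subtype_le _) (hT.ker_le hi hih)

theorem ker_le_den {i : ℕ} : K i ≤ den P K i := le_sup_right

theorem commutator_mem_den [Finite Γ] (hT : Tower G s h P p K) {i : ℕ} (hi : 1 ≤ i) (hih : i ≤ h)
    {a b : Γ} (ha : a ∈ P i) (hb : b ∈ P i) : ⁅a, b⁆ ∈ den P K i := by
  haveI := Fact.mk (hT.prime i hi hih)
  exact mem_sup_left ⟨_, PGroup.Frattini.commutatorElement_mem_frattini (hT.pgroup i hi hih)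
    ⟨a, ha⟩ ⟨b, hb⟩, rfl⟩

theorem pow_mem_den [Finite Γ] (hT : Tower G s h P p K) {i : ℕ} (hi : 1 ≤ i) (hih : i ≤ h)
    {a : Γ} (ha : a ∈ P i) : a ^ p i ∈ den P K i := by
  haveI := Fact.mk (hT.prime i hi hih)
  exact mem_sup_left ⟨_, PGroup.Frattini.pow_mem_frattini (hT.pgroup i hi hih) ⟨a, ha⟩, rfl⟩

theorem mem_normalizer_den [Finite Γ] {i : ℕ} {g : Γ} (hg : g ∈ normalizer (P i : Set Γ))
    (hgK : g ∈ normalizer (K i : Set Γ)) : g ∈ normalizer (den P K i : Set Γ) := by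
  refine mem_normalizer_iff_map_conj_eq.2 ?_
  rw [den, Subgroup.map_sup, mem_normalizer_iff_map_conj_eq.1 hgK, Subgroup.map_map]
  congr 1
  let φ : MulAut (P i) :=
    { toFun := fun a => ⟨g * a * g⁻¹, (mem_normalizer_iff.1 hg _).1 a.2⟩
      invFun := fun a => ⟨g⁻¹ * a * g, (mem_normalizer_iff''.1 hg _).1 a.2⟩
      left_inv := fun a => Subtype.ext (by show g⁻¹ * (g * a * g⁻¹) * g = a; group)
      right_inv := fun a => Subtype.ext (by show g * (g⁻¹ * a * g) * g⁻¹ = a; group)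
      map_mul' := fun a b => Subtype.ext (by
        show g * (a * b : Γ) * g⁻¹ = g * a * g⁻¹ * (g * b * g⁻¹); group) }
  have he : (MulAut.conj g).toMonoidHom.comp (P i).subtype = (P i).subtype.comp φ.toMonoidHom :=
    MonoidHom.ext fun a => rfl
  show Subgroup.map ((MulAut.conj g).toMonoidHom.comp (P i).subtype) (frattini (P i)) = _
  rw [he, ← Subgroup.map_map, Subgroup.characteristic_iff_map_eq.1 inferInstance φ]

theorem upper_le_normalizer_den [Finite Γ] (hT : Tower G s h P p K) {j l : ℕ} (hjl : j ≤ l)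
    (hl1 : 1 ≤ l) (hl : l ≤ h) : upper P s j ≤ normalizer (den P K l : Set Γ) := fun _ hg =>
  mem_normalizer_den (hT.upper_le_normalizer hjl hl1 hl hg)
    (hT.upper_le_normalizer_ker hjl hl1 hl hg)

/-- The Frattini subgroup does not help to generate. -/
theorem sup_ker_eq_of_sup_den [Finite Γ] (hT : Tower G s h P p K) {i : ℕ} (hi : 1 ≤ i) (hih : i ≤ h)
    {Q : Subgroup Γ} (hQ : Q ≤ P i) (heq : Q ⊔ den P K i = P i) : Q ⊔ K i = P i := by
  have hle : Q ⊔ K i ≤ P i := sup_le hQ (hT.ker_le hi hih)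
  have h1 : ((Q ⊔ K i).subgroupOf (P i) : Subgroup (P i)) = ⊤ := by
    refine frattini_nongenerating (map_injective (P i).subtype_injective ?_)
    rw [Subgroup.map_sup, map_subgroupOf_eq_of_le hle, ← MonoidHom.range_eq_map,
      Subgroup.range_subtype, sup_assoc, sup_comm (K i), ← den, heq]
  exact le_antisymm hle (subgroupOf_eq_top.1 h1)

/-- The subgroup `Q ⊔ K` acts as much as `Q` does. -/
theorem commutator_sup_ker_le [Finite Γ] (hT : Tower G s h P p K) {i : ℕ} (hi : 1 ≤ i)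
    (hih : i + 1 ≤ h) {Q : Subgroup Γ} (hQ : Q ≤ P (i + 1)) (hle : ⁅Q, P i⁆ ≤ K (i + 1)) :
    ⁅Q ⊔ K (i + 1), P i⁆ ≤ K (i + 1) := by
  refine commutator_le.2 fun z hz y hy => ?_
  rw [sup_comm] at hz
  obtain ⟨k, hk, q, hq, rfl⟩ := (Coprime.mem_sup_of_le_normalizer
    (hQ.trans (hT.le_normalizer_ker (by omega) le_rfl hih))).1 hz
  rw [show ⁅k * q, y⁆ = k * ⁅q, y⁆ * (y * k⁻¹ * y⁻¹) by simp only [commutatorElement_def]; group]
  exact mul_mem (mul_mem hk (hle (commutator_mem_commutator hq hy)))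
    ((mem_normalizer_iff.1 (hT.le_normalizer_ker hi (by omega) hih hy) _).1 (inv_mem hk))

theorem commutator_le' (hT : Tower G s h P p K) {i : ℕ} (hi : 1 ≤ i) (hih : i + 1 ≤ h) :
    ⁅P (i + 1), P i⁆ ≤ P (i + 1) :=
  le_normalizer_iff_commutator_le_left.1 (hT.norm i (i + 1) hi (by omega) hih)

theorem coprime_card (hT : Tower G s h P p K) [Finite Γ] {i : ℕ} (hi : 1 ≤ i) (hih : i + 1 ≤ h) :
    (Nat.card (P i)).Coprime (Nat.card (P (i + 1))) := by
  haveI := Fact.mk (hT.prime i hi (by omega))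
  haveI := Fact.mk (hT.prime (i + 1) (by omega) hih)
  exact IsPGroup.coprime_card_of_ne _ _ (hT.ne i hi (by omega)) _ _ (hT.pgroup i hi (by omega))
    (hT.pgroup (i + 1) (by omega) hih)

/-- A member is generated by its commutators with the member above. -/
theorem commutator_sup_ker [Finite Γ] (hT : Tower G s h P p K) {i : ℕ} (hi : 1 ≤ i)
    (hih : i + 1 ≤ h) : ⁅P (i + 1), P i⁆ ⊔ K (i + 1) = P (i + 1) := by
  haveI := Fact.mk (hT.prime i hi (by omega))
  haveI := Fact.mk (hT.prime (i + 1) (by omega) hih)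
  have hle := hT.commutator_le' hi hih
  have hKP := hT.ker_le (i := i + 1) (by omega) hih
  refine hT.min i hi (by omega) _ (sup_le hle hKP) (fun j hj hji g hg => ?_) ?_ fun hle' => ?_
  · refine mem_normalizer_iff_map_conj_eq.2 ?_
    rw [Subgroup.map_sup, Subgroup.map_commutator,
      mem_normalizer_iff_map_conj_eq.1 (hT.norm j (i + 1) hj (by omega) hih hg),
      mem_normalizer_iff_map_conj_eq.1 (hT.norm j i hj hji (by omega) hg),
      mem_normalizer_iff_map_conj_eq.1 (hT.le_normalizer_ker hj (by omega) hih hg)]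
  · refine mem_normalizer_iff_map_conj_eq.2 ?_
    rw [Subgroup.map_sup, Subgroup.map_commutator,
      mem_normalizer_iff_map_conj_eq.1 (hT.norm_s (i + 1) (by omega) hih),
      mem_normalizer_iff_map_conj_eq.1 (hT.norm_s i hi (by omega)),
      mem_normalizer_iff_map_conj_eq.1 (hT.s_mem_normalizer_ker (by omega) hih)]
  · refine hT.act i hi (by omega) (commutator_le.2 fun y hy x hx => ?_)
    refine commutator_mem_of_twice hKP (hT.le_normalizer_ker (by omega) le_rfl hih)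
      (hT.norm i (i + 1) hi (by omega) hih hx) (hT.le_normalizer_ker hi (by omega) hih hx)
      (coprime_orderOf_card (hT.pgroup i hi (by omega)) (hT.pgroup (i + 1) (by omega) hih)
        (hT.ne i hi (by omega)) hx) hy ?_
    exact hle' (commutator_mem_commutator (mem_sup_left (commutator_mem_commutator hy hx)) hx)

/-- The member above centralises the Frattini part. -/
theorem commutator_den_le [Finite Γ] (hT : Tower G s h P p K) {i : ℕ} (hi : 1 ≤ i)
    (hih : i + 1 ≤ h) : ⁅den P K (i + 1), P i⁆ ≤ K (i + 1) := by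
  by_contra hne
  have heq := hT.min i hi (by omega) _ (hT.den_le (by omega) hih)
    (fun j hj hji => (le_upper hj hji).trans (hT.upper_le_normalizer_den (by omega) (by omega) hih))
    (hT.upper_le_normalizer_den (show i ≤ i + 1 by omega) (by omega) hih (mem_upper i)) hne
  have h1 := hT.sup_ker_eq_of_sup_den (i := i + 1) (by omega) hih (Q := ⊥) bot_le
    (by rw [bot_sup_eq]; exact heq)
  rw [bot_sup_eq] at h1
  exact hT.not_le_ker (by omega) hih h1.ge

theorem den_one_le [Finite Γ] (hT : Tower G s h P p K) (hh : 1 ≤ h) : den P K 1 ≤ K 1 := by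
  by_contra hne
  have heq := hT.top_min _ (hT.den_le le_rfl hh)
    (mem_normalizer_den (hT.norm_s 1 le_rfl hh) (hT.s_mem_normalizer_ker le_rfl hh)) hne
  have h1 := hT.sup_ker_eq_of_sup_den (i := 1) le_rfl hh (Q := ⊥) bot_le
    (by rw [bot_sup_eq]; exact heq)
  rw [bot_sup_eq] at h1
  exact hT.top h1.ge

/-- The Frattini part is central modulo the kernel. -/
theorem den_central [Finite Γ] (hT : Tower G s h P p K) {i : ℕ} (hi : 1 ≤ i) (hih : i ≤ h) {d u : Γ}
    (hd : d ∈ den P K i) (hu : u ∈ P i) : ⁅d, u⁆ ∈ K i := by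
  rcases Nat.lt_or_eq_of_le hi with hi1 | hi1
  swap
  · subst hi1
    rw [commutatorElement_def, mul_assoc, mul_assoc, ← mul_assoc u]
    exact mul_mem (hT.den_one_le hih hd)
      ((mem_normalizer_iff.1 (hT.le_normalizer_ker le_rfl le_rfl hih hu) _).1
        (inv_mem (hT.den_one_le hih hd)))
  obtain ⟨j, rfl⟩ : ∃ j, i = j + 1 := ⟨i - 1, by omega⟩
  have hj : 1 ≤ j := by omega
  -- work modulo the kernel
  set N := normalizer (K (j + 1) : Set Γ) with hN
  haveI : ((K (j + 1)).subgroupOf N).Normal :=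
    (normal_subgroupOf_iff_le_normalizer le_normalizer).2 le_rfl
  set mk := QuotientGroup.mk' ((K (j + 1)).subgroupOf N) with hmk
  have hPN : P (j + 1) ≤ N := hT.le_normalizer_ker (by omega) le_rfl hih
  have hTN : P j ≤ N := hT.le_normalizer_ker hj (by omega) hih
  have hDP := hT.den_le (i := j + 1) (by omega) hih
  set D := ((den P K (j + 1)).subgroupOf N).map mk with hD
  have hdD : mk ⟨d, hPN (hDP hd)⟩ ∈ D :=
    mem_map_of_mem mk (show (⟨d, hPN (hDP hd)⟩ : N) ∈ (den P K (j + 1)).subgroupOf N from hd)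
  let M : Subgroup Γ :=
    { carrier := {v | ∃ hv : v ∈ N, ∀ d' ∈ D, mk ⟨v, hv⟩ * d' = d' * mk ⟨v, hv⟩}
      one_mem' := ⟨one_mem N, fun d' _ => by
        rw [show (⟨1, one_mem N⟩ : N) = 1 from rfl, map_one, one_mul, mul_one]⟩
      mul_mem' := fun {a b} ⟨ha, ha'⟩ ⟨hb, hb'⟩ => ⟨mul_mem ha hb, fun d' hd' => by
        rw [show (⟨a * b, mul_mem ha hb⟩ : N) = ⟨a, ha⟩ * ⟨b, hb⟩ from rfl, map_mul, mul_assoc,
          hb' d' hd', ← mul_assoc, ha' d' hd', mul_assoc]⟩
      inv_mem' := fun {a} ⟨ha, ha'⟩ => ⟨inv_mem ha, fun d' hd' => by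
        rw [show (⟨a⁻¹, inv_mem ha⟩ : N) = ⟨a, ha⟩⁻¹ from rfl, map_inv]
        exact (show Commute _ d' from ha' d' hd').inv_left.eq⟩ }
  have hKM : K (j + 1) ≤ M := fun v hv => ⟨le_normalizer hv, fun d' _ => by
    rw [show mk ⟨v, le_normalizer hv⟩ = 1 from (QuotientGroup.eq_one_iff _).2 hv, one_mul, mul_one]⟩
  have hfix : ∀ x ∈ P j, ∀ hx : x ∈ N, ∀ d' ∈ D, mk ⟨x, hx⟩ * d' = d' * mk ⟨x, hx⟩ := by
    rintro x hx hxN _ ⟨⟨d', hd'N⟩, hd', rfl⟩
    rw [← map_mul, ← map_mul]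
    refine QuotientGroup.eq.2 ?_
    show ((⟨x, hxN⟩ * ⟨d', hd'N⟩ : N)⁻¹ * (⟨d', hd'N⟩ * ⟨x, hxN⟩) : N).1 ∈ K (j + 1)
    show (x * d')⁻¹ * (d' * x) ∈ K (j + 1)
    have h1 := hT.commutator_den_le hj hih (commutator_mem_commutator (inv_mem hd') (inv_mem hx))
    rwa [show (x * d')⁻¹ * (d' * x) = ⁅d'⁻¹, x⁻¹⁆ by simp [commutatorElement_def, mul_assoc]]
  have hcom : ⁅P (j + 1), P j⁆ ≤ M := commutator_le.2 fun y hy x hx => by
    have hyx : ⁅y, x⁆ ∈ N := hPN (hT.commutator_le' hj hih (commutator_mem_commutator hy hx))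
    refine ⟨hyx, fun d' hd' => ?_⟩
    rw [show (⟨⁅y, x⁆, hyx⟩ : N) = ⁅(⟨y, hPN hy⟩ : N), (⟨x, hTN hx⟩ : N)⁆ from rfl,
      map_commutatorElement]
    refine commute_commutator_of_fixed ?_ (hfix x hx _) hd'
    refine mem_normalizer_fintype fun z hz => ?_
    obtain ⟨⟨z', hz'N⟩, hz', rfl⟩ := hz
    exact ⟨⟨y, hPN hy⟩ * ⟨z', hz'N⟩ * ⟨y, hPN hy⟩⁻¹,
      (mem_normalizer_iff.1 ((le_upper (s := s) (show 1 ≤ j + 1 by omega) le_rfl).trans
        (hT.upper_le_normalizer_den le_rfl (by omega) hih) hy) _).1 hz',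
      by rw [map_mul, map_mul, map_inv]⟩
  have huM : u ∈ M := sup_le hcom hKM ((hT.commutator_sup_ker hj hih).symm ▸ hu)
  obtain ⟨huN, huM⟩ := huM
  have h2 : mk ⁅(⟨d, hPN (hDP hd)⟩ : N), (⟨u, huN⟩ : N)⁆ = 1 := by
    rw [map_commutatorElement, commutatorElement_eq_one_iff_mul_comm]
    exact (huM _ hdD).symm
  exact (QuotientGroup.eq_one_iff ⁅(⟨d, hPN (hDP hd)⟩ : N), (⟨u, huN⟩ : N)⁆).1 h2

/-- Whoever acts trivially on a layer lies in the kernel. -/
theorem mem_ker_of_trivial [Finite Γ] (hT : Tower G s h P p K) {i : ℕ} (hi : 1 ≤ i)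
    (hih : i + 1 ≤ h) {x : Γ} (hx : x ∈ P i)
    (htriv : ∀ y ∈ P (i + 1), ⁅y, x⁆ ∈ den P K (i + 1)) : x ∈ K i := by
  haveI := Fact.mk (hT.prime i hi (by omega))
  haveI := Fact.mk (hT.prime (i + 1) (by omega) hih)
  refine (hT.ker i hi (by omega) x).2 ⟨hx, fun y hy => ?_⟩
  rw [← commutatorElement_inv]
  refine inv_mem (commutator_mem_of_twice (hT.ker_le (by omega) hih)
    (hT.le_normalizer_ker (by omega) le_rfl hih) (hT.norm i (i + 1) hi (by omega) hih hx)
    (hT.le_normalizer_ker hi (by omega) hih hx)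
    (coprime_orderOf_card (hT.pgroup i hi (by omega)) (hT.pgroup (i + 1) (by omega) hih)
      (hT.ne i hi (by omega)) hx) hy ?_)
  exact hT.commutator_den_le hi hih (commutator_mem_commutator (htriv y hy) hx)

theorem coprime_s [Finite Γ] (hT : Tower G s h P p K) {r : ℕ} (hs : s ^ r = 1)
    (hcop : (Nat.card G).Coprime r) {i : ℕ} (hi : 1 ≤ i) (hih : i ≤ h) :
    (Nat.card (zpowers s)).Coprime (Nat.card (P i)) := by
  rw [Nat.card_zpowers]
  exact ((hcop.coprime_dvd_left (card_dvd_of_le (hT.le i hi hih))).coprime_dvd_right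
    (orderOf_dvd_of_pow_eq_one hs)).symm

/-- Classes fixed by the operator contain fixed elements. -/
theorem exists_fixed [Finite Γ] (hT : Tower G s h P p K) {r : ℕ} (hs : s ^ r = 1)
    (hcop : (Nat.card G).Coprime r) {i : ℕ} (hi : 1 ≤ i) (hih : i ≤ h) {N : Subgroup Γ}
    (hNP : N ≤ P i) (hsN : s ∈ normalizer (N : Set Γ)) (hPN : P i ≤ normalizer (N : Set Γ)) {x : Γ}
    (hx : x ∈ P i) (hfix : ⁅s, x⁆ ∈ N) :
    ∃ y ∈ P i, s * y = y * s ∧ y * x⁻¹ ∈ N := by
  obtain ⟨n, hn, hc⟩ := Coprime.exists_mul_mem_centralizer (A := zpowers s) (N := N) (k := x)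
    (zpowers_le.2 hsN) ((hT.coprime_s hs hcop hi hih).coprime_dvd_right (card_dvd_of_le hNP))
    (Or.inl (Coprime.isSolvable_zpowers s)) fun g hg => by
      obtain ⟨m, rfl⟩ := (mem_powers_iff_mem_zpowers (x := s)).2 hg
      show ⁅s ^ m, x⁆ ∈ N
      clear hg
      induction m with
      | zero => rw [pow_zero, commutatorElement_one_left]; exact one_mem N
      | succ m ih =>
        rw [pow_succ', show ⁅s * s ^ m, x⁆ = s * ⁅s ^ m, x⁆ * s⁻¹ * ⁅s, x⁆ by
          simp only [commutatorElement_def]; group]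
        exact mul_mem ((mem_normalizer_iff.1 hsN _).1 ih) hfix
  exact ⟨n * x, mul_mem (hNP hn) hx, mem_centralizer_iff.1 hc s (mem_zpowers s), by
    rwa [mul_inv_cancel_right]⟩

/-- Above the first moved member the operator centralises the tower. -/
theorem le_centralizer_of_trivial [Finite Γ] (hT : Tower G s h P p K) {r : ℕ} (hs : s ^ r = 1)
    (hcop : (Nat.card G).Coprime r) {i : ℕ} (hi : 1 ≤ i) (hih : i ≤ h)
    (hup : ∀ l, 1 ≤ l → l < i → ∀ x ∈ P l, s * x = x * s)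
    (htriv : ∀ x ∈ P i, ⁅s, x⁆ ∈ den P K i) : ∀ x ∈ P i, s * x = x * s := by
  set Q := P i ⊓ centralizer ({s} : Set Γ) with hQ
  have hsup : Q ⊔ den P K i = P i := by
    refine le_antisymm (sup_le inf_le_left (hT.den_le hi hih)) fun x hx => ?_
    obtain ⟨y, hy, hys, hyx⟩ := hT.exists_fixed hs hcop hi hih (hT.den_le hi hih)
      (hT.upper_le_normalizer_den le_rfl hi hih (mem_upper i))
      ((le_upper hi le_rfl).trans (hT.upper_le_normalizer_den le_rfl hi hih)) hx (htriv x hx)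
    rw [show x = (y * x⁻¹)⁻¹ * y by group]
    exact mul_mem (mem_sup_right (inv_mem hyx))
      (mem_sup_left (mem_inf.2 ⟨hy, mem_centralizer_singleton_iff.2 hys.symm⟩))
  have hQK := hT.sup_ker_eq_of_sup_den hi hih (inf_le_left : Q ≤ P i) hsup
  have hQs : s ∈ normalizer (Q : Set Γ) := mem_normalizer_fintype fun x hx => by
    have h1 := mem_centralizer_singleton_iff.1 (mem_inf.1 hx).2
    rw [← h1, mul_inv_cancel_right]
    exact hx
  have hQeq : Q = P i := by
    rcases Nat.lt_or_eq_of_le hi with hi1 | hi1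
    · obtain ⟨j, rfl⟩ : ∃ j, i = j + 1 := ⟨i - 1, by omega⟩
      refine hT.min j (by omega) (by omega) Q inf_le_left (fun l hl hlj g hg => ?_) hQs fun hle => ?_
      · refine mem_normalizer_fintype fun x hx => mem_inf.2 ⟨(mem_normalizer_iff.1
          (hT.norm l (j + 1) hl (by omega) hih hg) x).1 (mem_inf.1 hx).1, ?_⟩
        refine mem_centralizer_singleton_iff.2 ?_
        have hc : Commute g s := (hup l hl (by omega) g hg).symm
        exact ((hc.mul_left (mem_centralizer_singleton_iff.1 (mem_inf.1 hx).2)).mul_left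
          hc.inv_left).eq
      · have h1 := hT.commutator_sup_ker_le (by omega) hih inf_le_left hle
        rw [hQK] at h1
        exact hT.act j (by omega) (by omega) h1
    · subst hi1
      refine hT.top_min Q inf_le_left hQs fun hle => hT.top ?_
      rw [← hQK]; exact sup_le hle le_rfl
  intro x hx
  rw [← hQeq] at hx
  exact (mem_centralizer_singleton_iff.1 (mem_inf.1 hx).2).symm

end Tower

/-- A module carrying a layer: `cl` identifies it with `P / D`. -/
structure LayerModule (H P D : Subgroup Γ) (V : Type u) [AddCommGroup V] [DistribMulAction H V]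
    (cl : P → V) : Prop where
  finite : Finite V
  surj : Function.Surjective cl
  map_mul : ∀ a b : P, cl (a * b) = cl a + cl b
  eq_zero : ∀ a : P, cl a = 0 ↔ (a : Γ) ∈ D
  map_conj : ∀ (g : H) (a : P) (h : (g : Γ) * a * (g : Γ)⁻¹ ∈ P),
    cl ⟨(g : Γ) * a * (g : Γ)⁻¹, h⟩ = g • cl a

/-- A normalised section with commutators inside gives a module. -/
theorem exists_layerModule [Finite Γ] {H P D : Subgroup Γ} (hH : H ≤ normalizer (P : Set Γ))
    (hHD : H ≤ normalizer (D : Set Γ)) (hPD : P ≤ normalizer (D : Set Γ))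
    (hcomm : ∀ a ∈ P, ∀ b ∈ P, ⁅a, b⁆ ∈ D) :
    ∃ (V : Type u) (_ : AddCommGroup V) (_ : DistribMulAction H V) (cl : P → V),
      LayerModule H P D V cl := by
  classical
  set N := D.subgroupOf P with hN
  haveI : N.Normal := ⟨fun x hx g => (mem_normalizer_iff.1 (hPD g.2) _).1 hx⟩
  have hab : ∀ x y : P ⧸ N, x * y = y * x := by
    intro x y
    obtain ⟨a, rfl⟩ := QuotientGroup.mk_surjective x
    obtain ⟨b, rfl⟩ := QuotientGroup.mk_surjective y
    refine QuotientGroup.eq.2 (mem_subgroupOf.2 ?_)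
    have h1 := hcomm _ (P.inv_mem b.2) _ (P.inv_mem a.2)
    simpa [commutatorElement_def, mul_assoc] using h1
  letI : CommGroup (P ⧸ N) := { (inferInstance : Group (P ⧸ N)) with mul_comm := hab }
  let conj : H → (P →* P) := fun g =>
    { toFun := fun a => ⟨(g : Γ) * a * (g : Γ)⁻¹, (mem_normalizer_iff.1 (hH g.2) _).1 a.2⟩
      map_one' := Subtype.ext (by show (g : Γ) * 1 * (g : Γ)⁻¹ = 1; group)
      map_mul' := fun a b => Subtype.ext (by
        show (g : Γ) * (a * b : Γ) * (g : Γ)⁻¹ = g * a * (g : Γ)⁻¹ * (g * b * (g : Γ)⁻¹); group) }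
  have hmem : ∀ g : H, N ≤ N.comap (conj g) := fun g x hx =>
    (mem_normalizer_iff.1 (hHD g.2) _).1 hx
  let φ : H → (P ⧸ N →* P ⧸ N) := fun g => QuotientGroup.map N N (conj g) (hmem g)
  have hφ1 : ∀ x, φ 1 x = x := fun x => by
    obtain ⟨a, rfl⟩ := QuotientGroup.mk_surjective x
    refine congrArg QuotientGroup.mk (Subtype.ext ?_)
    show ((1 : H) : Γ) * a * ((1 : H) : Γ)⁻¹ = a
    simp
  have hφm : ∀ g k x, φ (g * k) x = φ g (φ k x) := fun g k x => by
    obtain ⟨a, rfl⟩ := QuotientGroup.mk_surjective x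
    refine congrArg QuotientGroup.mk (Subtype.ext ?_)
    show ((g * k : H) : Γ) * a * ((g * k : H) : Γ)⁻¹ = g * (k * a * (k : Γ)⁻¹) * (g : Γ)⁻¹
    simp only [Subgroup.coe_mul]; group
  let act : DistribMulAction H (Additive (P ⧸ N)) :=
    { smul := fun g m => Additive.ofMul (φ g m.toMul)
      one_smul := fun m => congrArg Additive.ofMul (hφ1 m.toMul)
      mul_smul := fun g k m => congrArg Additive.ofMul (hφm g k m.toMul)
      smul_zero := fun g => congrArg Additive.ofMul (map_one (φ g))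
      smul_add := fun g a b => congrArg Additive.ofMul (map_mul (φ g) a.toMul b.toMul) }
  let cl : P → Additive (P ⧸ N) := fun a => Additive.ofMul (QuotientGroup.mk a)
  exact ⟨Additive (P ⧸ N), inferInstance, act, cl,
    ⟨inferInstanceAs (Finite (P ⧸ N)), fun m =>
      (QuotientGroup.mk_surjective m.toMul).imp fun a ha => congrArg Additive.ofMul ha,
      fun a b => rfl, fun a => ofMul_eq_zero.trans ((QuotientGroup.eq_one_iff a).trans mem_subgroupOf),
      fun g a h => rfl⟩⟩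

namespace LayerModule

variable {H P D : Subgroup Γ} {V : Type u} [AddCommGroup V] [DistribMulAction H V] {cl : P → V}

theorem map_one (hV : LayerModule H P D V cl) : cl 1 = 0 := (hV.eq_zero 1).2 (one_mem D)

theorem map_inv (hV : LayerModule H P D V cl) (a : P) : cl a⁻¹ = -cl a :=
  eq_neg_of_add_eq_zero_right (by rw [← hV.map_mul, mul_inv_cancel, hV.map_one])

/-- The commutator with an operator. -/
theorem map_commutator (hV : LayerModule H P D V cl) (a : P) (g : H)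
    (hc : ⁅(a : Γ), (g : Γ)⁆ ∈ P) : cl ⟨⁅(a : Γ), (g : Γ)⁆, hc⟩ = cl a - g • cl a := by
  have hm : (g : Γ) * a * (g : Γ)⁻¹ ∈ P := by
    have h1 : ⁅(a : Γ), (g : Γ)⁆⁻¹ * a ∈ P := mul_mem (inv_mem hc) a.2
    rwa [show ⁅(a : Γ), (g : Γ)⁆⁻¹ * a = g * a * (g : Γ)⁻¹ by
      simp [commutatorElement_def, mul_assoc]] at h1
  rw [← hV.map_conj g a hm, sub_eq_add_neg, ← hV.map_inv, ← hV.map_mul]
  exact congrArg cl (Subtype.ext (by simp [commutatorElement_def, mul_assoc]))

theorem commutator_mem (hH : H ≤ normalizer (P : Set Γ)) (a : P) (g : H) :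
    ⁅(a : Γ), (g : Γ)⁆ ∈ P := by
  rw [commutatorElement_def, mul_assoc, mul_assoc, ← mul_assoc (g : Γ)]
  exact mul_mem a.2 ((mem_normalizer_iff.1 (hH g.2) _).1 (inv_mem a.2))

theorem nsmul_eq_zero (hV : LayerModule H P D V cl) {n : ℕ} (hn : ∀ a ∈ P, a ^ n ∈ D) (v : V) :
    n • v = 0 := by
  obtain ⟨a, rfl⟩ := hV.surj v
  have h1 : ∀ m : ℕ, cl (a ^ m) = m • cl a := by
    intro m
    induction m with
    | zero => rw [pow_zero, hV.map_one, zero_nsmul]
    | succ m ih => rw [pow_succ, hV.map_mul, ih, succ_nsmul]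
  rw [← h1]
  exact (hV.eq_zero _).2 (by rw [SubmonoidClass.coe_pow]; exact hn _ a.2)

theorem card_dvd [Finite Γ] (hV : LayerModule H P D V cl) : Nat.card V ∣ Nat.card P := by
  let f : P →* Multiplicative V :=
    { toFun := fun a => Multiplicative.ofAdd (cl a)
      map_one' := congrArg Multiplicative.ofAdd hV.map_one
      map_mul' := fun a b => congrArg Multiplicative.ofAdd (hV.map_mul a b) }
  rw [Nat.card_congr (Multiplicative.ofAdd : V ≃ Multiplicative V)]
  exact Subgroup.card_dvd_of_surjective f fun v => (hV.surj v.toAdd).imp fun a ha =>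
    congrArg Multiplicative.ofAdd ha

/-- The moved part of a subgroup of operators consists of the classes of commutators. -/
theorem mem_movedSub_iff [Finite Γ] (hV : LayerModule H P D V cl) (hH : H ≤ normalizer (P : Set Γ))
    {Y : Subgroup Γ} (hY : Y ≤ H) {v : V} :
    v ∈ movedSub V (Y.subgroupOf H) ↔ ∃ a : P, (a : Γ) ∈ ⁅P, Y⁆ ∧ cl a = v := by
  let C : AddSubgroup V :=
    { carrier := {w | ∃ a : P, (a : Γ) ∈ ⁅P, Y⁆ ∧ cl a = w}
      zero_mem' := ⟨1, one_mem _, hV.map_one⟩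
      add_mem' := fun {v w} ⟨a, ha, ha'⟩ ⟨b, hb, hb'⟩ => ⟨a * b, mul_mem ha hb, by
        rw [hV.map_mul, ha', hb']⟩
      neg_mem' := fun {v} ⟨a, ha, ha'⟩ => ⟨a⁻¹, inv_mem ha, by rw [hV.map_inv, ha']⟩ }
  constructor
  · intro hv
    have hle : movedSub V (Y.subgroupOf H) ≤ C := (AddSubgroup.closure_le _).2 (by
      rintro _ ⟨g, hg, w, rfl⟩
      obtain ⟨a, rfl⟩ := hV.surj w
      refine ⟨⟨⁅(a : Γ), (g : Γ)⁆, LayerModule.commutator_mem hH a g⟩⁻¹, inv_mem
        (commutator_mem_commutator a.2 hg), ?_⟩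
      rw [hV.map_inv, hV.map_commutator a g, neg_sub])
    exact hle hv
  · rintro ⟨a, ha, rfl⟩
    let G₁ : Subgroup Γ :=
      { carrier := {x | ∃ hx : x ∈ P, cl ⟨x, hx⟩ ∈ movedSub V (Y.subgroupOf H)}
        one_mem' := ⟨one_mem P, by
          rw [show (⟨1, one_mem P⟩ : P) = 1 from rfl, hV.map_one]; exact zero_mem _⟩
        mul_mem' := fun {x y} ⟨hx, hx'⟩ ⟨hy, hy'⟩ => ⟨mul_mem hx hy, by
          rw [show (⟨x * y, mul_mem hx hy⟩ : P) = ⟨x, hx⟩ * ⟨y, hy⟩ from rfl, hV.map_mul]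
          exact add_mem hx' hy'⟩
        inv_mem' := fun {x} ⟨hx, hx'⟩ => ⟨inv_mem hx, by
          rw [show (⟨x⁻¹, inv_mem hx⟩ : P) = ⟨x, hx⟩⁻¹ from rfl, hV.map_inv]
          exact neg_mem hx'⟩ }
    have hle : ⁅P, Y⁆ ≤ G₁ := commutator_le.2 fun x hx y hy => by
      refine ⟨LayerModule.commutator_mem hH ⟨x, hx⟩ ⟨y, hY hy⟩, ?_⟩
      rw [hV.map_commutator ⟨x, hx⟩ ⟨y, hY hy⟩, ← neg_sub]
      exact neg_mem (sub_mem_movedSub (show (⟨y, hY hy⟩ : H) ∈ Y.subgroupOf H from hy) _)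
    obtain ⟨_, h1⟩ := hle ha
    exact h1

end LayerModule

namespace Tower

variable {G : Subgroup Γ} {s : Γ} {h : ℕ} {P : ℕ → Subgroup Γ} {p : ℕ → ℕ} {K : ℕ → Subgroup Γ}

/-- The module of a layer, with any upper operators. -/
theorem exists_module [Finite Γ] (hT : Tower G s h P p K) {i j : ℕ} (hji : j ≤ i) (hi : 1 ≤ i)
    (hih : i ≤ h) {H : Subgroup Γ} (hH : H ≤ upper P s j) :
    ∃ (V : Type u) (_ : AddCommGroup V) (_ : DistribMulAction H V) (cl : P i → V),
      LayerModule H (P i) (den P K i) V cl :=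
  exists_layerModule (hH.trans (hT.upper_le_normalizer hji hi hih))
    (hH.trans (hT.upper_le_normalizer_den hji hi hih))
    ((le_upper hi le_rfl).trans (hT.upper_le_normalizer_den le_rfl hi hih))
    fun _ ha _ hb => hT.commutator_mem_den hi hih ha hb

theorem nsmul_module [Finite Γ] (hT : Tower G s h P p K) {i : ℕ} (hi : 1 ≤ i) (hih : i ≤ h)
    {H : Subgroup Γ} {V : Type u} [AddCommGroup V] [DistribMulAction H V] {cl : P i → V}
    (hV : LayerModule H (P i) (den P K i) V cl) (v : V) : p i • v = 0 :=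
  hV.nsmul_eq_zero (fun _ ha => hT.pow_mem_den hi hih ha) v

/-- The member above moves the whole layer. -/
theorem movedSub_eq_top [Finite Γ] (hT : Tower G s h P p K) {i : ℕ} (hi : 1 ≤ i) (hih : i + 1 ≤ h)
    {H : Subgroup Γ} (hH : H ≤ upper P s (i + 1)) (hPH : P i ≤ H) {V : Type u} [AddCommGroup V]
    [DistribMulAction H V] {cl : P (i + 1) → V}
    (hV : LayerModule H (P (i + 1)) (den P K (i + 1)) V cl) :
    movedSub V ((P i).subgroupOf H) = ⊤ := by
  refine eq_top_iff.2 fun v _ => ?_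
  obtain ⟨a, rfl⟩ := hV.surj v
  have ha : (a : Γ) ∈ K (i + 1) ⊔ ⁅P (i + 1), P i⁆ := by
    rw [sup_comm, hT.commutator_sup_ker hi hih]; exact a.2
  obtain ⟨k, hk, c, hc, hkc⟩ := (Coprime.mem_sup_of_le_normalizer ((hT.commutator_le' hi hih).trans
    (hT.le_normalizer_ker (by omega) le_rfl hih))).1 ha
  have hkP : k ∈ P (i + 1) := hT.ker_le (by omega) hih hk
  have hcP : c ∈ P (i + 1) := hT.commutator_le' hi hih hc
  have hcl := hV.map_mul ⟨k, hkP⟩ ⟨c, hcP⟩
  rw [show (⟨k, hkP⟩ : P (i + 1)) * ⟨c, hcP⟩ = a from Subtype.ext hkc,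
    (hV.eq_zero ⟨k, hkP⟩).2 (ker_le_den hk), zero_add] at hcl
  rw [hcl]
  exact (hV.mem_movedSub_iff (hH.trans (hT.upper_le_normalizer le_rfl (by omega) hih)) hPH).2
    ⟨⟨c, hcP⟩, hc, rfl⟩

/-- Only `0` is fixed by the member above. -/
theorem eq_zero_of_fixed [Finite Γ] (hT : Tower G s h P p K) {i : ℕ} (hi : 1 ≤ i) (hih : i + 1 ≤ h)
    {H : Subgroup Γ} (hH : H ≤ upper P s (i + 1)) (hPH : P i ≤ H) {V : Type u} [AddCommGroup V]
    [DistribMulAction H V] {cl : P (i + 1) → V}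
    (hV : LayerModule H (P (i + 1)) (den P K (i + 1)) V cl) :
    fixedSub V ((P i).subgroupOf H) = ⊥ := by
  haveI := hV.finite
  refine (AddSubgroup.eq_bot_iff_forall _).2 fun v hv => fixedSub_inf_movedSub ?_ hv
    (by rw [hT.movedSub_eq_top hi hih hH hPH hV]; trivial)
  rw [Nat.card_congr (subgroupOfEquivOfLe hPH).toEquiv]
  exact (hT.coprime_card hi hih).coprime_dvd_right hV.card_dvd

/-- Each layer is irreducible under the upper members and the operator. -/
theorem eq_den_or_eq [Finite Γ] (hT : Tower G s h P p K) {i : ℕ} (hi : 1 ≤ i) (hih : i ≤ h)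
    {Q : Subgroup Γ} (hDQ : den P K i ≤ Q) (hQP : Q ≤ P i)
    (hQn : ∀ j, 1 ≤ j → j < i → P j ≤ normalizer (Q : Set Γ))
    (hQs : s ∈ normalizer (Q : Set Γ)) : Q = den P K i ∨ Q = P i := by
  refine or_iff_not_imp_right.2 fun hne => le_antisymm (fun x hx => ?_) hDQ
  rcases Nat.lt_or_eq_of_le hi with hi1 | hi1
  swap
  · subst hi1
    exact ker_le_den (by_contra fun hxK => hne (hT.top_min Q hQP hQs fun hle => hxK (hle hx)))
  obtain ⟨j, rfl⟩ : ∃ j, i = j + 1 := ⟨i - 1, by omega⟩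
  have hle : ⁅Q, P j⁆ ≤ K (j + 1) := by
    by_contra hc
    exact hne (hT.min j (by omega) (by omega) Q hQP (fun l hl hlj => hQn l hl (by omega)) hQs hc)
  have hH : P j ≤ upper P s (j + 1) := le_upper (by omega) (by omega)
  obtain ⟨V, instV, actV, cl, hV⟩ := hT.exists_module le_rfl hi hih hH
  have hfix : cl ⟨x, hQP hx⟩ ∈ fixedSub V ((P j).subgroupOf (P j)) := mem_fixedSub.2 fun g _ => by
    have hmem := LayerModule.commutator_mem (hH.trans (hT.upper_le_normalizer le_rfl hi hih))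
      (⟨x, hQP hx⟩ : P (j + 1)) g
    have h1 := hV.map_commutator ⟨x, hQP hx⟩ g hmem
    rw [(hV.eq_zero ⟨_, hmem⟩).2 (ker_le_den (hle (commutator_mem_commutator hx g.2)))] at h1
    exact (sub_eq_zero.1 h1.symm).symm
  rw [hT.eq_zero_of_fixed (by omega) hih hH le_rfl hV, AddSubgroup.mem_bot, hV.eq_zero] at hfix
  exact hfix

end Tower

end CfsgLib.Solvable.TurullHeight
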