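import Cfsg.Agent.Lib.Solvable.TurullHeight.Top

/-!
# The height of a solvable group with a coprime operator of prime order

If the fixed points have a chain with `n` nilpotent factors, the group has one with `n + 2`.
-/

set_option autoImplicit false

namespace CfsgLib.Solvable.TurullHeight

open Subgroup CfsgLib
open scoped commutatorElement

universe u

/-- Elements of coprime orders commute modulo the bottom of a nilpotent factor. -/
theorem commutator_mem_of_lowerCentralSeries {H : Type*} [Group H] [Finite H] {A N : Subgroup H}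
    [N.Normal] {k : ℕ} (hk : A.lowerCentralSeries k ≤ N) {x y : H} (hx : x ∈ A) (hy : y ∈ A)
    (hcop : (orderOf x).Coprime (orderOf y)) : ⁅x, y⁆ ∈ N := by
  set mk := QuotientGroup.mk' N with hmk
  haveI : Group.IsNilpotent (A.map mk) := by
    refine (isNilpotent_iff_lowerCentralSeries _).2 ⟨k, ?_⟩
    rw [← map_lowerCentralSeries, eq_bot_iff]
    rintro _ ⟨z, hz, rfl⟩
    exact mem_bot.2 ((QuotientGroup.eq_one_iff z).2 (hk hz))
  rw [← QuotientGroup.eq_one_iff]
  show mk ⁅x, y⁆ = 1
  rw [map_commutatorElement, commutatorElement_eq_one_iff_mul_comm]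
  exact (OddOrder.Basic.commute_of_mem_nilpotent (mem_map_of_mem mk hx) (mem_map_of_mem mk hy)
    ((hcop.coprime_dvd_left (orderOf_map_dvd mk x)).coprime_dvd_right (orderOf_map_dvd mk y))).eq

variable {Γ : Type u} [Group Γ]

/-- The chain on the whole group is at most two longer than the chain on the fixed points. -/
theorem hasChain_add_two [Finite Γ] (G : Subgroup Γ) [G.Normal] (hG : Group.IsSolvable G) (s : Γ)
    {r : ℕ} (hr : r.Prime) (hs : s ^ r = 1) (hcop : (Nat.card G).Coprime r) {n : ℕ}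
    (F : ℕ → Subgroup Γ) (F_zero : F 0 = ⊥)
    (F_top : ∀ m, n ≤ m → ∀ x ∈ G, s * x = x * s → x ∈ F m)
    (F_norm : ∀ m, ∀ x ∈ F m, ∀ d ∈ G, s * d = d * s → ⁅d, x⁆ ∈ F m)
    (F_comm : ∀ m, ∀ x ∈ F (m + 1), ∀ y ∈ F (m + 1), (orderOf x).Coprime (orderOf y) →
      ⁅x, y⁆ ∈ F m) : HasChain G (n + 2) := by
  classical
  by_contra hno
  obtain ⟨P, p, K, hT, -⟩ := exists_tower (n + 2) G hG s r hs hcop hno
  have hC : Config G s r n P p K F := ⟨hT, hr, hs, hcop, F_zero, F_top, F_norm, F_comm⟩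
  by_cases hex : ∃ k, (1 ≤ k ∧ k ≤ n + 1) ∧ ∃ x ∈ P k, s * x ≠ x * s
  · have hk := Nat.find_spec hex
    refine Moved.false (k := Nat.find hex) ⟨hC, hk.1.1, hk.1.2, fun l hl hlk x hx => ?_, hk.2⟩
    by_contra hx'
    exact Nat.find_min hex hlk ⟨⟨hl, by omega⟩, x, hx, hx'⟩
  · push Not at hex
    refine hC.false_of_base (i₀ := n + 1) (by omega) le_rfl (fun l hl hln x hx => hex l ⟨hl, hln⟩ x hx)
      fun x _ hxF => ?_
    rw [Nat.sub_self, F_zero, mem_bot] at hxF
    rw [hxF]
    exact one_mem _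

end CfsgLib.Solvable.TurullHeight
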