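import Cfsg.Agent.Lib.Solvable.TurullHeight.Joint
import Cfsg.Agent.Lib.Solvable.TurullHeight.Actions
import Cfsg.Agent.Lib.Coprime.Abelian

/-!
# The first moved member on the layer below it

Consequences of a datum for the image `R` of the first moved member: elements sending the fixed
vectors of `s` into the killed ones are trivial in the fixed part of `R`.
-/

set_option autoImplicit false

namespace CfsgLib.Solvable.TurullHeight

open Subgroup CfsgLib
open scoped commutatorElement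

universe u v w

/-- The first moved member `R` with its operator on an irreducible layer. -/
structure TopSetup {Γ : Type*} [Group Γ] (R : Subgroup Γ) (s : Γ) (r : ℕ) (V : Type*)
    [AddCommGroup V] [DistribMulAction Γ V] : Prop where
  prime : r.Prime
  pow : s ^ r = 1
  copr : (Nat.card R).Coprime r
  copV : (Nat.card R).Coprime (Nat.card V)
  coprV : r.Coprime (Nat.card V)
  class2 : ∀ a ∈ R, ∀ b ∈ R, ⁅a, b⁆ ∈ cenIn R
  faithful : ∀ g : Γ, (∀ v : V, g • v = v) → g = 1
  comm : ⁅R, zpowers s⁆ = R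
  free : fixedSub V R = ⊥
  fix : ∀ a ∈ R, s * a = a * s → a ∈ cenIn R
  hasFixed : ∀ U : AddSubgroup V, IsInv (R ⊔ zpowers s) U → U ≠ ⊥ →
    ∃ c ∈ U, s • c = c ∧ c ≠ 0

namespace TopSetup

variable {Γ : Type u} [Group Γ] [Finite Γ] {V : Type v} [AddCommGroup V] [Finite V]
  [DistribMulAction Γ V] {T : Type w} [AddCommGroup T] {Ω : Set (V →+ T)}
  {R : Subgroup Γ} [hRn : R.Normal] {s : Γ} {r : ℕ}

omit [Finite Γ] [Finite V] hRn in
theorem datum_subgroup (hD : IsDatum Γ Ω) (H : Subgroup Γ) : IsDatum H Ω :=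
  ⟨fun g ω hω => hD.comp_mem g ω hω, hD.sep⟩

omit [Finite Γ] [Finite V] hRn in
theorem mem_killedSub_subgroup {H : Subgroup Γ} (hs : s ∈ H) {v : V}
    (hv : v ∈ killedSub Ω s) : v ∈ killedSub Ω (⟨s, hs⟩ : H) := hv

/-- The operators induced on a minimal part. -/
theorem setup (h : TopSetup R s r V) {N : AddSubgroup V} (hN : IsInv (R ⊔ zpowers s) N)
    (hN0 : N ≠ ⊥) (hmin : ∀ U ≤ N, IsInv (R ⊔ zpowers s) U → U = ⊥ ∨ U = N)
    (hinv : IsInv (⊤ : Subgroup (R ⊔ zpowers s : Subgroup Γ)) N)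
    (hs₁ : s ∈ R ⊔ zpowers s) :
    ((R.subgroupOf (R ⊔ zpowers s)).map (resHom N hinv)).Normal ∧
      Setup ((R.subgroupOf (R ⊔ zpowers s)).map (resHom N hinv)) (resHom N hinv ⟨s, hs₁⟩) r N ∧
      (∃ v : N, resHom N hinv ⟨s, hs₁⟩ • v ≠ v) ∧
      ∃ c : N, resHom N hinv ⟨s, hs₁⟩ • c = c ∧ c ≠ 0 := by
  haveI := finite_resGroup hinv
  haveI : (R.subgroupOf (R ⊔ zpowers s)).Normal := hRn.subgroupOf _
  set π := resHom N hinv with hπ
  have hcardR : Nat.card ((R.subgroupOf (R ⊔ zpowers s)).map π) ∣ Nat.card R :=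
    (Subgroup.card_map_dvd _ _).trans (Nat.card_congr (subgroupOfEquivOfLe le_sup_left).toEquiv).dvd
  have hcardN : Nat.card N ∣ Nat.card V := AddSubgroup.card_addSubgroup_dvd_card N
  refine ⟨Subgroup.Normal.map inferInstance π (resHom_surjective hinv),
    { prime := h.prime
      pow := by rw [← map_pow, show (⟨s, hs₁⟩ : (R ⊔ zpowers s : Subgroup Γ)) ^ r = 1 from
        Subtype.ext h.pow, map_one]
      gen := by
        rw [← MonoidHom.map_zpowers, ← Subgroup.map_sup, eq_top_iff,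
          ← map_top_of_surjective π (resHom_surjective hinv)]
        refine Subgroup.map_mono ?_
        rintro ⟨g, hg⟩ -
        obtain ⟨a, ha, b, hb, rfl⟩ := mem_sup_of_normal_left.1 hg
        rw [show (⟨a * b, hg⟩ : (R ⊔ zpowers s : Subgroup Γ)) =
          ⟨a, mem_sup_left ha⟩ * ⟨b, mem_sup_right hb⟩ from rfl]
        refine mul_mem (mem_sup_left (mem_subgroupOf.2 ha)) (mem_sup_right ?_)
        obtain ⟨i, rfl⟩ := mem_zpowers_iff.1 hb
        exact ⟨i, Subtype.ext rfl⟩
      class2 := by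
        rintro _ ⟨a, ha, rfl⟩ _ ⟨b, hb, rfl⟩
        rw [← map_commutatorElement]
        have h1 := mem_cenIn.1 (h.class2 a ha b hb)
        refine mem_cenIn.2 ⟨mem_map_of_mem π (mem_subgroupOf.2 h1.1), ?_⟩
        rintro _ ⟨y, hy, rfl⟩
        rw [← map_mul, ← map_mul]
        exact congrArg π (Subtype.ext (h1.2 y hy))
      copS := h.copr.coprime_dvd_left hcardR
      copV := (h.copV.coprime_dvd_left hcardR).coprime_dvd_right hcardN
      coprV := h.coprV.coprime_dvd_right hcardN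
      irr := fun U hU => by
        rcases hmin (U.map N.subtype) (by rintro _ ⟨w, -, rfl⟩; exact w.2) (by
          rintro g hg _ ⟨w, hw, rfl⟩
          exact ⟨π ⟨g, hg⟩ • w, hU _ trivial w hw, rfl⟩) with hb | ht
        · exact Or.inl ((AddSubgroup.map_eq_bot_iff_of_injective _ N.subtype_injective).1 hb)
        · refine Or.inr (AddSubgroup.map_injective N.subtype_injective ?_)
          rw [← AddMonoidHom.range_eq_map, N.range_subtype, ht]
      faithful := resGroup_faithful hinv }, ?_, ?_⟩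
  · by_contra hall
    push Not at hall
    obtain ⟨v, hv, hv0⟩ := (AddSubgroup.bot_or_exists_ne_zero N).resolve_left hN0
    refine hv0 (AddSubgroup.mem_bot.1 (h.free ▸ mem_fixedSub.2 fun a ha => ?_))
    have hle : ⁅R, zpowers s⁆ ≤ fixer N := by
      refine (commutator_zpowers_le (A := R) (le_normalizer_fixer hN hs₁) fun b hb w hw => ?_).trans
        le_rfl
      have hfix : ∀ w ∈ N, s • w = w := fun w hw => congrArg Subtype.val (hall ⟨w, hw⟩)
      have hw1 : b⁻¹ • w ∈ N := hN _ (mem_sup_left (inv_mem hb)) w hw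
      have hfix' : s⁻¹ • w = w := by rw [inv_smul_eq_iff, hfix w hw]
      rw [commutatorElement_def, mul_smul, mul_smul, mul_smul, hfix', hfix _ hw1, smul_inv_smul]
    exact hle (h.comm.symm ▸ ha) v hv
  · obtain ⟨c, hc, hcs, hc0⟩ := h.hasFixed N hN hN0
    exact ⟨⟨c, hc⟩, Subtype.ext hcs, fun h0 => hc0 (congrArg Subtype.val h0)⟩

/-- Some fixed vector is not killed. -/
theorem exists_not_mem_killedSub [Nontrivial V] (h : TopSetup R s r V) (hD : IsDatum Γ Ω) :
    ∃ w : V, s • w = w ∧ w ∉ killedSub Ω s := by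
  obtain ⟨v₀, hv₀⟩ := exists_ne (0 : V)
  obtain ⟨N, -, hN0, hN, hmin⟩ := exists_minimal_inv (H := R ⊔ zpowers s)
    (U := (⊤ : AddSubgroup V)) (fun _ _ _ _ => trivial)
    (fun hb => hv₀ (AddSubgroup.mem_bot.1 (hb ▸ AddSubgroup.mem_top v₀)))
  have hs₁ : s ∈ R ⊔ zpowers s := mem_sup_right (mem_zpowers s)
  have hinv : IsInv (⊤ : Subgroup (R ⊔ zpowers s : Subgroup Γ)) N := fun g _ v hv => hN g g.2 v hv
  obtain ⟨hn, hS, hmove, c, hc, hc0⟩ := h.setup hN hN0 hmin hinv hs₁
  haveI := finite_resGroup hinv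
  haveI := hn
  obtain ⟨w, hw, hwk⟩ := hS.exists_not_mem_killedSub ((datum_subgroup hD _).restrict hinv) hmove hc hc0
  exact ⟨w, congrArg Subtype.val hw, fun hk =>
    hwk (coe_mem_killedSub_restrict hinv (mem_killedSub_subgroup hs₁ hk))⟩

/-- A fixed element of `R` sending the fixed vectors into the killed ones is trivial. -/
theorem eq_one_of_killed (h : TopSetup R s r V) (hD : IsDatum Γ Ω) {z : Γ} (hz : z ∈ R)
    (hzs : z * s = s * z) (hzk : ∀ c : V, s • c = c → z • c - c ∈ killedSub Ω s) : z = 1 := by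
  refine eq_one_of_trivial_on_minimal h.faithful (H := R ⊔ zpowers s) (Z := R) h.copV
    (by rw [normalizer_eq_top]; exact le_top) hz fun N hN0 hN hmin v hv => ?_
  have hs₁ : s ∈ R ⊔ zpowers s := mem_sup_right (mem_zpowers s)
  have hinv : IsInv (⊤ : Subgroup (R ⊔ zpowers s : Subgroup Γ)) N := fun g _ v hv => hN g g.2 v hv
  obtain ⟨hn, hS, hmove, hc⟩ := h.setup hN hN0 hmin hinv hs₁
  haveI := finite_resGroup hinv
  haveI := hn
  have h1 := hS.eq_one_of_sub_mem_killedSub ((datum_subgroup hD _).restrict hinv) hmove hc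
    (x := resHom N hinv ⟨z, mem_sup_left hz⟩) (mem_map_of_mem _ (mem_subgroupOf.2 hz))
    (by rw [← map_mul, ← map_mul]; exact congrArg _ (Subtype.ext hzs))
    fun w hw => coe_mem_killedSub_restrict hinv
      (mem_killedSub_subgroup hs₁ (hzk (w : V) (congrArg Subtype.val hw)))
  exact (resHom_eq_one_iff hinv _).1 h1 v hv

omit [Finite V] in
/-- An abelian `R` is inverted freely. -/
theorem fpf_of_comm (h : TopSetup R s r V) (hc : ∀ a ∈ R, ∀ b ∈ R, a * b = b * a) :
    ∀ a ∈ R, s * a = a * s → a = 1 := by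
  intro a ha hsa
  haveI : IsMulCommutative R :=
    isMulCommutative_iff.2 fun a b => Subtype.ext (hc a a.2 b b.2)
  have h1 := Coprime.centralizer_inf_commutator_eq_bot (A := zpowers s) (V := R)
    (by rw [normalizer_eq_top]; exact le_top) (by
      rw [Nat.card_zpowers]
      exact h.copr.symm.coprime_dvd_left (orderOf_dvd_of_pow_eq_one h.pow))
  rw [h.comm] at h1
  refine mem_bot.1 (h1 ▸ mem_inf.2 ⟨mem_inf.2 ⟨ha, mem_centralizer_iff.2 fun g hg => ?_⟩, ha⟩)
  obtain ⟨i, rfl⟩ := mem_zpowers_iff.1 hg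
  exact ((show Commute s a from hsa).zpow_left i).eq

/-- Over an abelian `R` an element sending the fixed vectors into the killed ones is trivial. -/
theorem eq_one_of_killed_of_comm [Nontrivial V] (h : TopSetup R s r V) (hD : IsDatum Γ Ω) {q : ℕ}
    (hq : q.Prime) (hexp : ∀ v : V, q • v = 0) (hc : ∀ a ∈ R, ∀ b ∈ R, a * b = b * a) {t : Γ}
    (hts : t * s = s * t) (htr : (orderOf t).Coprime r)
    (htk : ∀ c : V, s • c = c → t • c - c ∈ killedSub Ω s) : t = 1 := by
  refine eq_one_of_regular hq hexp hc ?_ h.free h.prime h.pow (h.fpf_of_comm hc) hts htr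
    (fun c hcs => sub_eq_zero.1 (killedSub_eq_zero_of_regular hD
      (by rw [normalizer_eq_top]; trivial) (h.fpf_of_comm hc) h.copV h.free (htk c hcs))) h.faithful
  intro hd
  obtain ⟨v, hv⟩ := exists_ne (0 : V)
  have h1 : addOrderOf v = q := ((Nat.dvd_prime hq).1
    (addOrderOf_dvd_of_nsmul_eq_zero (hexp v))).resolve_left
      fun h1 => hv (AddMonoid.addOrderOf_eq_one_iff.1 h1)
  exact hq.ne_one (Nat.eq_one_of_dvd_coprimes h.copV hd (h1 ▸ addOrderOf_dvd_natCard v))

/-- The commutator of `t` and `x` is trivial modulo the centre of `R`. -/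
theorem commutator_mem_of_killed (h : TopSetup R s r V) (hD : IsDatum Γ Ω) {q : ℕ}
    (hq : q.Prime) (hexp : ∀ v : V, q • v = 0) {t x : Γ} (hts : t * s = s * t)
    (hxs : x * s = s * x) (htc : ∀ z ∈ R, s * z = z * s → t * z = z * t)
    (hxc : ∀ z ∈ R, s * z = z * s → x * z = z * x) (htR : (orderOf t).Coprime (Nat.card R))
    (htr : (orderOf t).Coprime r)
    (htk : ∀ c : V, s • c = c → t • c - c ∈ killedSub Ω s) :
    ∀ u ∈ R, ⁅⁅t, x⁆, u⁆ ∈ cenIn R := by
  classical
  intro u hu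
  have hyR : ⁅⁅t, x⁆, u⁆ ∈ R := by
    rw [commutatorElement_def]
    exact mul_mem (hRn.conj_mem _ hu _) (inv_mem hu)
  refine mem_cenIn.2 ⟨hyR, fun b hb => ?_⟩
  refine (commutatorElement_eq_one_iff_mul_comm.1 (eq_one_of_trivial_on_minimal h.faithful
    (H := R ⊔ zpowers s) (Z := R) h.copV (by rw [normalizer_eq_top]; exact le_top)
    (z := ⁅⁅⁅t, x⁆, u⁆, b⁆) ?_ fun N hN0 hN hmin v hv => ?_)).symm
  · rw [commutatorElement_def]
    exact mul_mem (mul_mem (mul_mem hyR hb) (inv_mem hyR)) (inv_mem hb)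
  -- the fixed part is central
  set H₀ := R ⊔ zpowers s ⊔ zpowers t ⊔ zpowers x with hH₀
  have hR₀ : R ≤ H₀ := le_sup_of_le_left (le_sup_of_le_left le_sup_left)
  have hs₀ : s ∈ H₀ := mem_sup_left (mem_sup_left (mem_sup_right (mem_zpowers s)))
  have ht₀ : t ∈ H₀ := mem_sup_left (mem_sup_right (mem_zpowers t))
  have hx₀ : x ∈ H₀ := mem_sup_right (mem_zpowers x)
  set Zs := R ⊓ centralizer ({s} : Set Γ) with hZs
  have hZc : H₀ ≤ centralizer (Zs : Set Γ) := by
    refine sup_le (sup_le (sup_le (fun a ha => ?_) (zpowers_le.2 ?_)) (zpowers_le.2 ?_))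
      (zpowers_le.2 ?_) <;>
      refine mem_centralizer_iff.2 fun z hz => ?_
    · exact ((mem_cenIn.1 (h.fix z (mem_inf.1 hz).1
        (mem_centralizer_singleton_iff.1 (mem_inf.1 hz).2).symm)).2 a ha).symm
    · exact mem_centralizer_singleton_iff.1 (mem_inf.1 hz).2
    · exact (htc z (mem_inf.1 hz).1 (mem_centralizer_singleton_iff.1 (mem_inf.1 hz).2).symm).symm
    · exact (hxc z (mem_inf.1 hz).1 (mem_centralizer_singleton_iff.1 (mem_inf.1 hz).2).symm).symm
  have hnorm : ∀ A ≤ Zs, H₀ ≤ normalizer (A : Set Γ) := fun A hA =>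
    (hZc.trans (centralizer_le hA)).trans (centralizer_le_normalizer _)
  have hRs₀ : R ⊔ zpowers s ≤ H₀ := sup_le hR₀ (zpowers_le.2 hs₀)
  -- the part with the same kernel
  set Y : AddSubgroup V := fixedSub V (Zs ⊓ fixer N) ⊓
    ⨅ z : Γ, ⨅ (_ : z ∈ Zs), ⨅ (_ : z ∉ fixer N), movedSub V (zpowers z) with hY
  have hYinv : IsInv H₀ Y := fun g hg w hw => by
    refine AddSubgroup.mem_inf.2 ⟨isInv_fixedSub (hnorm _ inf_le_left) g hg w
      (AddSubgroup.mem_inf.1 hw).1, ?_⟩
    exact IsInv.iInf (fun z => IsInv.iInf fun hz => IsInv.iInf fun _ =>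
      isInv_movedSub (hnorm _ (zpowers_le.2 hz))) g hg w (AddSubgroup.mem_inf.1 hw).2
  have hNY : v ∈ Y := by
    refine AddSubgroup.mem_inf.2 ⟨mem_fixedSub.2 fun g hg => (mem_inf.1 hg).2 v hv, ?_⟩
    simp only [AddSubgroup.mem_iInf]
    intro z hz hzN
    have hWinv : IsInv (R ⊔ zpowers s) (N ⊓ movedSub V (zpowers z)) := fun g hg w hw =>
      AddSubgroup.mem_inf.2 ⟨hN g hg w (AddSubgroup.mem_inf.1 hw).1,
        isInv_movedSub (hnorm _ (zpowers_le.2 hz)) g (hRs₀ hg) w (AddSubgroup.mem_inf.1 hw).2⟩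
    rcases hmin _ inf_le_left hWinv with hb | ht
    · refine absurd (fun w hw => sub_eq_zero.1 (AddSubgroup.mem_bot.1 (hb ▸ AddSubgroup.mem_inf.2
        ⟨sub_mem (hN z (mem_sup_left (mem_inf.1 hz).1) w hw) hw,
          sub_mem_movedSub (mem_zpowers z) w⟩))) hzN
    · exact (AddSubgroup.mem_inf.1 (ht.symm ▸ hv)).2
  have hinv : IsInv (⊤ : Subgroup H₀) Y := fun g _ w hw => hYinv g g.2 w hw
  haveI := finite_resGroup hinv
  set π := resHom Y hinv with hπ
  haveI : (R.subgroupOf H₀).Normal := hRn.subgroupOf H₀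
  haveI : ((R.subgroupOf H₀).map π).Normal :=
    Subgroup.Normal.map inferInstance π (resHom_surjective hinv)
  have hlift : ∀ a ∈ R.subgroupOf H₀, π ⟨s, hs₀⟩ * π a = π a * π ⟨s, hs₀⟩ →
      ∃ a' ∈ R.subgroupOf H₀, (a' : Γ) ∈ Zs ∧ π a' = π a := by
    intro a ha hcom
    have hs1 : ⁅(⟨s, hs₀⟩ : H₀), a⁆ ∈ R.subgroupOf H₀ ⊓ π.ker := mem_inf.2 ⟨by
      rw [commutatorElement_def]
      exact mul_mem ((inferInstance : (R.subgroupOf H₀).Normal).conj_mem _ ha _) (inv_mem ha),
      MonoidHom.mem_ker.2 (by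
        rw [map_commutatorElement, commutatorElement_eq_one_iff_mul_comm]; exact hcom)⟩
    haveI : (R.subgroupOf H₀ ⊓ π.ker).Normal := normal_inf_normal _ _
    obtain ⟨n, hn, hc⟩ := Coprime.exists_mul_mem_centralizer (A := zpowers (⟨s, hs₀⟩ : H₀))
      (N := R.subgroupOf H₀ ⊓ π.ker) (k := a) (by rw [normalizer_eq_top]; exact le_top)
      (by
        rw [Nat.card_zpowers]
        exact ((h.copr.coprime_dvd_left ((card_dvd_of_le inf_le_left).trans
          (Nat.card_congr (subgroupOfEquivOfLe hR₀).toEquiv).dvd)).coprime_dvd_right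
          (orderOf_dvd_of_pow_eq_one (Subtype.ext h.pow))).symm)
      (Or.inl (Coprime.isSolvable_zpowers _)) fun g hg => by
        obtain ⟨k, rfl⟩ := (mem_powers_iff_mem_zpowers (x := (⟨s, hs₀⟩ : H₀))).2 hg
        exact commutator_pow_mem hs1 k
    refine ⟨n * a, mul_mem (mem_inf.1 hn).1 ha, mem_inf.2 ⟨mul_mem (mem_inf.1 hn).1 ha, ?_⟩, ?_⟩
    · exact mem_centralizer_singleton_iff.2
        (congrArg Subtype.val (mem_centralizer_iff.1 hc _ (mem_zpowers _))).symm
    · rw [map_mul, MonoidHom.mem_ker.1 (mem_inf.1 hn).2, one_mul]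
  have hcardR : Nat.card ((R.subgroupOf H₀).map π) ∣ Nat.card R :=
    (Subgroup.card_map_dvd _ _).trans (Nat.card_congr (subgroupOfEquivOfLe hR₀).toEquiv).dvd
  have hcardY : Nat.card Y ∣ Nat.card V := AddSubgroup.card_addSubgroup_dvd_card Y
  have hJ : JointSetup ((R.subgroupOf H₀).map π) (π ⟨s, hs₀⟩) r Y :=
    { prime := h.prime
      pow := by rw [← map_pow, show (⟨s, hs₀⟩ : H₀) ^ r = 1 from Subtype.ext h.pow, map_one]
      copr := h.copr.coprime_dvd_left hcardR
      copV := (h.copV.coprime_dvd_left hcardR).coprime_dvd_right hcardY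
      coprV := h.coprV.coprime_dvd_right hcardY
      class2 := by
        rintro _ ⟨a, ha, rfl⟩ _ ⟨b, hb, rfl⟩
        rw [← map_commutatorElement]
        have h1 := mem_cenIn.1 (h.class2 a ha b hb)
        refine mem_cenIn.2 ⟨mem_map_of_mem π (mem_subgroupOf.2 h1.1), ?_⟩
        rintro _ ⟨y, hy, rfl⟩
        rw [← map_mul, ← map_mul]
        exact congrArg π (Subtype.ext (h1.2 y hy))
      fix := by
        rintro _ ⟨a, ha, rfl⟩ hs'
        obtain ⟨z, hzR, hz, e⟩ := hlift a ha hs'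
        rw [← e]
        refine mem_cenIn.2 ⟨mem_map_of_mem π hzR, ?_⟩
        rintro _ ⟨y, hy, rfl⟩
        rw [← map_mul, ← map_mul]
        exact congrArg π (Subtype.ext ((mem_centralizer_iff.1 (hZc y.2) _ hz).symm))
      free := by
        rintro _ ⟨a, ha, rfl⟩ hs' hne
        obtain ⟨z, hzR, hz, e⟩ := hlift a ha hs'
        rw [← e] at hne ⊢
        have hzN : (z : Γ) ∉ fixer N := fun hzN => hne ((resHom_eq_one_iff hinv z).2 fun w hw =>
          mem_fixedSub.1 (AddSubgroup.mem_inf.1 hw).1 _ (mem_inf.2 ⟨hz, hzN⟩))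
        refine eq_bot_iff.2 fun w hw => AddSubgroup.mem_bot.2 (Subtype.ext ?_)
        refine fixedSub_inf_movedSub (Q := zpowers (z : Γ))
          (h.copV.coprime_dvd_left (card_dvd_of_le (zpowers_le.2 (mem_inf.1 hz).1)))
          (mem_fixedSub_zpowers.2 (congrArg Subtype.val (mem_fixedSub_zpowers.1 hw))) ?_
        have h1 := (AddSubgroup.mem_inf.1 w.2).2
        simp only [AddSubgroup.mem_iInf] at h1
        exact h1 _ hz hzN
      gen := by
        rw [eq_top_iff, ← map_top_of_surjective π (resHom_surjective hinv)]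
        refine le_trans (Subgroup.map_mono ?_) (Subgroup.map_le_iff_le_comap.2 le_rfl)
        intro g _
        suffices hle : H₀ ≤ (Subgroup.comap π ((R.subgroupOf H₀).map π ⊔
            centralizer {π ⟨s, hs₀⟩})).map H₀.subtype by
          obtain ⟨g', hg', e⟩ := hle g.2
          rwa [← H₀.subtype_injective e]
        refine sup_le (sup_le (sup_le (fun a ha => ⟨⟨a, hR₀ ha⟩, mem_sup_left
          (mem_map_of_mem π (mem_subgroupOf.2 ha)), rfl⟩) (zpowers_le.2 ⟨⟨s, hs₀⟩,
          mem_sup_right (mem_centralizer_singleton_iff.2 rfl), rfl⟩))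
          (zpowers_le.2 ⟨⟨t, ht₀⟩, mem_sup_right (mem_centralizer_singleton_iff.2 ?_), rfl⟩))
          (zpowers_le.2 ⟨⟨x, hx₀⟩, mem_sup_right (mem_centralizer_singleton_iff.2 ?_), rfl⟩) <;>
          rw [← map_mul, ← map_mul]
        · exact congrArg π (Subtype.ext hts)
        · exact congrArg π (Subtype.ext hxs)
      genZ := by
        rintro g _ ⟨a, ha, rfl⟩ hs'
        obtain ⟨g, rfl⟩ := resHom_surjective hinv g
        obtain ⟨z, hzR, hz, e⟩ := hlift a ha hs'
        rw [← e]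
        show π g * π z = π z * π g
        rw [← map_mul, ← map_mul]
        exact congrArg π (Subtype.ext (mem_centralizer_iff.1 (hZc g.2) _ hz).symm)
      hasFixed := fun U hU hU0 => by
        obtain ⟨_, ⟨c, hc, rfl⟩, hcs, hc0⟩ := h.hasFixed (U.map Y.subtype) (by
            rintro g hg _ ⟨w, hw, rfl⟩
            exact ⟨π ⟨g, hRs₀ hg⟩ • w, hU _ trivial w hw, rfl⟩)
          (fun hb => hU0 ((AddSubgroup.map_eq_bot_iff_of_injective _ Y.subtype_injective).1 hb))
        exact ⟨c, hc, Subtype.ext hcs, fun h0 => hc0 (by rw [h0]; rfl)⟩ }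
  have hexpY : ∀ w : Y, q • w = 0 := fun w =>
    Subtype.ext (by rw [AddSubmonoidClass.coe_nsmul, hexp]; rfl)
  have hot : orderOf (π ⟨t, ht₀⟩) ∣ orderOf t := by
    refine (orderOf_map_dvd π _).trans ?_
    rw [← orderOf_injective H₀.subtype H₀.subtype_injective]
    exact dvd_rfl
  have hkey := joint hJ ((datum_subgroup hD _).restrict hinv) (resGroup_faithful hinv) hq hexpY
    (t := π ⟨t, ht₀⟩) (x := π ⟨x, hx₀⟩)
    (by rw [← map_mul, ← map_mul]; exact congrArg π (Subtype.ext hts))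
    (by rw [← map_mul, ← map_mul]; exact congrArg π (Subtype.ext hxs))
    ((htR.coprime_dvd_left hot).coprime_dvd_right hcardR) (htr.coprime_dvd_left hot)
    (fun w hw => coe_mem_killedSub_restrict hinv
      (mem_killedSub_subgroup hs₀ (htk (w : V) (congrArg Subtype.val hw))))
    (π ⟨u, hR₀ hu⟩) (mem_map_of_mem π (mem_subgroupOf.2 hu))
  have h1 : π ⁅⁅⁅(⟨t, ht₀⟩ : H₀), (⟨x, hx₀⟩ : H₀)⁆, (⟨u, hR₀ hu⟩ : H₀)⁆, (⟨b, hR₀ hb⟩ : H₀)⁆ =
      1 := by
    rw [map_commutatorElement, map_commutatorElement, map_commutatorElement,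
      commutatorElement_eq_one_iff_mul_comm]
    exact ((mem_cenIn.1 hkey).2 _ (mem_map_of_mem π (mem_subgroupOf.2 hb))).symm
  exact (resHom_eq_one_iff hinv _).1 h1 v hNY

end TopSetup

end CfsgLib.Solvable.TurullHeight
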