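import Cfsg.Agent.Lib.Solvable.TurullHeight.Bottom
import Cfsg.Agent.Lib.Solvable.TurullHeight.TopCore

/-!
# The first moved member

No member of the tower among the first `n + 1` is moved by the operator.
-/

set_option autoImplicit false

namespace CfsgLib.Solvable.TurullHeight

open Subgroup CfsgLib
open scoped commutatorElement

universe u

variable {Γ : Type u} [Group Γ]

namespace Moved

variable {G : Subgroup Γ} {s : Γ} {r n : ℕ} {P : ℕ → Subgroup Γ} {p : ℕ → ℕ}
  {K F : ℕ → Subgroup Γ} {k : ℕ}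

/-- The first moved member, with an irreducible layer below it, cannot exist. -/
theorem false [Finite Γ] (hM : Moved G s r n P p K F k) : False := by
  classical
  have hC := hM.config
  have hT := hC.tower
  have hk1 := hM.one_le
  have hkn := hM.le
  haveI := Fact.mk (hT.prime k hk1 (by omega))
  haveI := Fact.mk (hT.prime (k + 1) (by omega) (by omega))
  -- the module
  set H := upper P s k with hHdef
  have hPk : P k ≤ H := le_upper hk1 le_rfl
  have hsH : s ∈ H := mem_upper k
  have hH2 : H ≤ upper P s (k + 1) := upper_mono (by omega)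
  have hHn : H ≤ normalizer (P (k + 1) : Set Γ) :=
    hH2.trans (hT.upper_le_normalizer le_rfl (by omega) (by omega))
  obtain ⟨V, instV, actV, cl, hV⟩ := hT.exists_module (i := k + 1) (j := k) (by omega) (by omega)
    (by omega) (le_refl H)
  haveI := hV.finite
  haveI := finite_actGroup (Γ := H) (V := V)
  set π := actHom H V with hπ
  haveI hRn : (((P k).subgroupOf H).map π).Normal :=
    normal_image hPk (hT.upper_le_normalizer le_rfl hk1 (by omega))
  set R := ((P k).subgroupOf H).map π with hR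
  let s₂ := π ⟨s, hsH⟩
  have hpowH : (⟨s, hsH⟩ : H) ^ r = 1 := Subtype.ext hC.pow
  have hs₂ : s₂ ^ r = 1 := by
    show π ⟨s, hsH⟩ ^ r = 1
    rw [← map_pow, hpowH, map_one]
  have hcommπ : ∀ {a b : H}, (a : Γ) * b = b * a → π a * π b = π b * π a := fun {a b} hab => by
    rw [← map_mul, ← map_mul]; exact congrArg π (Subtype.ext hab)
  have hcardV : Nat.card V ∣ Nat.card (P (k + 1)) := hV.card_dvd
  have hcardR : Nat.card R ∣ Nat.card (P k) := card_image_dvd hPk
  have hcoprV : r.Coprime (Nat.card V) :=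
    (hC.coprime_r (by omega) (by omega)).symm.coprime_dvd_right hcardV
  have hcopV : (Nat.card R).Coprime (Nat.card V) :=
    ((hT.coprime_card hk1 (by omega)).coprime_dvd_right hcardV).coprime_dvd_left hcardR
  have hcopr : (Nat.card R).Coprime r := (hC.coprime_r hk1 (by omega)).coprime_dvd_left hcardR
  have hexp : ∀ v : V, p (k + 1) • v = 0 := hT.nsmul_module (by omega) (by omega) hV
  have hq := hT.prime (k + 1) (by omega) (by omega)
  have hclass := hT.class2_image hk1 (by omega) hH2 hPk hV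
  have hR0 : fixedSub V R = ⊥ := by
    rw [hR, hπ, fixedSub_map, hT.eq_zero_of_fixed hk1 (by omega) hH2 hPk hV]
  haveI : Nontrivial V := by
    by_contra hno
    rw [not_nontrivial_iff_subsingleton] at hno
    have hle : P (k + 1) ≤ den P K (k + 1) := fun a ha =>
      (hV.eq_zero ⟨a, ha⟩).1 (Subsingleton.elim _ _)
    have h1 := hT.sup_ker_eq_of_sup_den (i := k + 1) (Q := ⊥) (by omega) (by omega) bot_le
      (by rw [bot_sup_eq]; exact le_antisymm (hT.den_le (by omega) (by omega)) hle)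
    rw [bot_sup_eq] at h1
    exact hT.not_le_ker (i := k + 1) (by omega) (by omega) h1.ge
  -- the layer is irreducible
  have hirr : ∀ U : AddSubgroup V, IsInv (⊤ : Subgroup (actGroup H V)) U → U = ⊥ ∨ U = ⊤ := by
    intro U hU
    let Q : Subgroup Γ :=
      { carrier := {a | ∃ ha : a ∈ P (k + 1), cl ⟨a, ha⟩ ∈ U}
        one_mem' := ⟨one_mem _, by
          rw [show (⟨1, one_mem _⟩ : P (k + 1)) = 1 from rfl, hV.map_one]; exact zero_mem U⟩
        mul_mem' := fun {a b} ⟨ha, ha'⟩ ⟨hb, hb'⟩ => ⟨mul_mem ha hb, by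
          rw [show (⟨a * b, mul_mem ha hb⟩ : P (k + 1)) = ⟨a, ha⟩ * ⟨b, hb⟩ from rfl, hV.map_mul]
          exact add_mem ha' hb'⟩
        inv_mem' := fun {a} ⟨ha, ha'⟩ => ⟨inv_mem ha, by
          rw [show (⟨a⁻¹, inv_mem ha⟩ : P (k + 1)) = ⟨a, ha⟩⁻¹ from rfl, hV.map_inv]
          exact neg_mem ha'⟩ }
    have hQn : ∀ g ∈ H, g ∈ normalizer (Q : Set Γ) := fun g hg =>
      mem_normalizer_fintype fun a ⟨ha, ha'⟩ => by
        have hm : g * a * g⁻¹ ∈ P (k + 1) := (mem_normalizer_iff.1 (hHn hg) a).1 ha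
        refine ⟨hm, ?_⟩
        rw [hV.map_conj ⟨g, hg⟩ ⟨a, ha⟩ hm, ← actHom_smul]
        exact hU _ trivial _ ha'
    rcases hT.eq_den_or_eq (i := k + 1) (by omega) (by omega) (Q := Q)
        (fun a ha => ⟨hT.den_le (by omega) (by omega) ha, by
          rw [(hV.eq_zero _).2 ha]; exact zero_mem U⟩)
        (fun a ⟨ha, _⟩ => ha) (fun j hj hjk g hg => hQn g (le_upper hj (by omega) hg))
        (hQn s hsH) with hb | ht
    · refine Or.inl ((AddSubgroup.eq_bot_iff_forall _).2 fun v hv => ?_)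
      obtain ⟨a, rfl⟩ := hV.surj v
      exact (hV.eq_zero a).2 (hb ▸ (show (a : Γ) ∈ Q from ⟨a.2, hv⟩))
    · refine Or.inr (eq_top_iff.2 fun v _ => ?_)
      obtain ⟨a, rfl⟩ := hV.surj v
      obtain ⟨_, ha⟩ : (a : Γ) ∈ Q := ht.symm ▸ a.2
      exact ha
  -- `s` moves the whole image
  have hRs : ⁅R, zpowers s₂⁆ = R := by
    refine le_antisymm (le_normalizer_iff_commutator_le_left.1
      (by rw [normalizer_eq_top]; exact le_top)) ?_
    rintro _ ⟨a, ha, rfl⟩
    have hsP : ⁅P k, zpowers s⁆ ≤ P k :=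
      le_normalizer_iff_commutator_le_left.1 (zpowers_le.2 (hT.norm_s k hk1 (by omega)))
    obtain ⟨z, hz, c, hc, hzc⟩ := (Coprime.mem_sup_of_le_normalizer
      (hsP.trans (hT.le_normalizer_ker hk1 le_rfl (by omega)))).1
      (show (a : Γ) ∈ K k ⊔ ⁅P k, zpowers s⁆ by rw [sup_comm, hM.commutator_sup_ker]; exact ha)
    have hzH : z ∈ H := hPk (hT.ker_le hk1 (by omega) hz)
    have hcH : c ∈ H := hPk (hsP hc)
    rw [show a = (⟨z, hzH⟩ : H) * ⟨c, hcH⟩ from Subtype.ext hzc.symm, map_mul,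
      hT.actHom_eq_one hk1 (by omega) hH2 hV (g := ⟨z, hzH⟩) hz, one_mul]
    have h1 : (⟨c, hcH⟩ : H) ∈ ⁅(P k).subgroupOf H, zpowers (⟨s, hsH⟩ : H)⁆ := by
      rw [← mem_map_iff_mem H.subtype_injective, Subgroup.map_commutator,
        map_subgroupOf_eq_of_le hPk, MonoidHom.map_zpowers]
      exact hc
    have h2 := mem_map_of_mem π h1
    rwa [Subgroup.map_commutator, MonoidHom.map_zpowers] at h2
  -- fixed elements of the image
  have hlift : ∀ z ∈ R, s₂ * z = z * s₂ → ∃ w : H, (w : Γ) ∈ P k ∧ s * w = w * s ∧ π w = z := by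
    rintro _ ⟨a, ha, rfl⟩ hsa
    have h1 : π ⁅(⟨s, hsH⟩ : H), a⁆ = 1 := by
      rw [map_commutatorElement, commutatorElement_eq_one_iff_mul_comm]; exact hsa
    have h2 : ⁅s, (a : Γ)⁆ ∈ K k := hT.mem_ker_of_actHom_eq_one hk1 (by omega) hH2 hV
      (g := ⁅(⟨s, hsH⟩ : H), a⁆) (by
        show ⁅s, (a : Γ)⁆ ∈ P k
        rw [commutatorElement_def]
        exact mul_mem ((mem_normalizer_iff.1 (hT.norm_s k hk1 (by omega)) _).1 ha) (inv_mem ha)) h1
    obtain ⟨y, hy, hys, hya⟩ := hT.exists_fixed hC.pow hC.cop hk1 (by omega)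
      (hT.ker_le hk1 (by omega)) (hT.s_mem_normalizer_ker hk1 (by omega))
      (hT.le_normalizer_ker hk1 le_rfl (by omega)) ha h2
    refine ⟨⟨y, hPk hy⟩, hy, hys, ?_⟩
    have h3 := hT.actHom_eq_one hk1 (by omega) hH2 hV (g := ⟨y, hPk hy⟩ * a⁻¹) hya
    rwa [← hπ, map_mul, map_inv, mul_inv_eq_one] at h3
  have hfix : ∀ z ∈ R, s₂ * z = z * s₂ → z ∈ cenIn R := by
    intro z hz hzs
    obtain ⟨w, hw, hws, rfl⟩ := hlift z hz hzs
    exact hT.den_mem_cenIn hk1 (by omega) hH2 hPk hV (hM.mem_den_of_fixed hw hws)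
  -- the centre of the image
  have hcenpre : (¬ ∀ a ∈ R, ∀ b ∈ R, a * b = b * a) →
      ∀ a : H, (a : Γ) ∈ P k → π a ∈ cenIn R → (a : Γ) ∈ den P K k := by
    intro hnc a ha hac
    set Q := (((cenIn R).comap π) ⊓ (P k).subgroupOf H).map H.subtype with hQ
    have hQn : ∀ g ∈ H, g ∈ normalizer (Q : Set Γ) := fun g hg =>
      le_normalizer_map H.subtype (mem_map_of_mem H.subtype
        (show (⟨g, hg⟩ : H) ∈ normalizer (((cenIn R).comap π ⊓ (P k).subgroupOf H : Subgroup H) : Set H) from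
          mem_normalizer_fintype fun x hx => by
            refine mem_inf.2 ⟨?_, ?_⟩
            · show π _ ∈ cenIn R
              rw [map_mul, map_mul, map_inv]
              exact (inferInstance : (cenIn R).Normal).conj_mem _ (mem_inf.1 hx).1 _
            · exact (mem_normalizer_iff.1 (hT.upper_le_normalizer le_rfl hk1 (by omega) hg) _).1
                (mem_inf.1 hx).2))
    rcases hT.eq_den_or_eq hk1 (by omega) (Q := Q)
        (fun d hd => ⟨⟨d, hPk (hT.den_le hk1 (by omega) hd)⟩, mem_inf.2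
          ⟨hT.den_mem_cenIn hk1 (by omega) hH2 hPk hV hd, hT.den_le hk1 (by omega) hd⟩, rfl⟩)
        (by rintro _ ⟨x, hx, rfl⟩; exact (mem_inf.1 hx).2)
        (fun j hj hjk g hg => hQn g (le_upper hj hjk.le hg)) (hQn s hsH) with hb | ht
    · rw [← hb]
      exact ⟨a, mem_inf.2 ⟨hac, ha⟩, rfl⟩
    · refine absurd ?_ hnc
      rintro _ ⟨x, hx, rfl⟩ _ ⟨y, hy, rfl⟩
      obtain ⟨x', hx', e⟩ : (x : Γ) ∈ Q := ht.symm ▸ hx
      obtain rfl := H.subtype_injective e
      exact ((mem_cenIn.1 (mem_inf.1 hx').1).2 _ (mem_map_of_mem π hy)).symm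
  -- some vector is fixed
  have hC0 : ∃ c : V, s₂ • c = c ∧ c ≠ 0 := by
    by_cases hc : ∀ a ∈ R, ∀ b ∈ R, a * b = b * a
    · refine exists_fixed_of_regular (A := R) hcopV hC.prime hs₂ (fun z hz hzs => ?_) hR0
      haveI : IsMulCommutative R :=
        isMulCommutative_iff.2 fun a b => Subtype.ext (hc a a.2 b b.2)
      have h1 := Coprime.centralizer_inf_commutator_eq_bot (A := zpowers s₂) (V := R)
        (by rw [normalizer_eq_top]; exact le_top) (by
          rw [Nat.card_zpowers]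
          exact hcopr.symm.coprime_dvd_left (orderOf_dvd_of_pow_eq_one hs₂))
      rw [hRs] at h1
      refine mem_bot.1 (h1 ▸ mem_inf.2 ⟨mem_inf.2 ⟨hz, mem_centralizer_iff.2 fun g hg => ?_⟩, hz⟩)
      obtain ⟨i, rfl⟩ := mem_zpowers_iff.1 hg
      exact ((show Commute s₂ z from hzs).zpow_left i).eq
    by_contra hno
    push Not at hno
    have hk2 : 2 ≤ k := by
      by_contra hlt
      obtain rfl : k = 1 := by omega
      refine hc ?_
      rintro _ ⟨a, ha, rfl⟩ _ ⟨b, hb, rfl⟩
      rw [← commutatorElement_eq_one_iff_mul_comm, ← map_commutatorElement]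
      exact hT.actHom_eq_one le_rfl (by omega) hH2 hV
        (hT.den_one_le (by omega) (hT.commutator_mem_den le_rfl (by omega) ha hb))
    obtain ⟨j, rfl⟩ : ∃ j, k = j + 1 := ⟨k - 1, by omega⟩
    refine hT.not_le_ker (i := j) (by omega) (by omega) fun x hx => ?_
    refine hT.mem_ker_of_trivial (by omega) (by omega) hx fun y hy => ?_
    have hxH : x ∈ H := le_upper (by omega) (by omega) hx
    have hyx : ⁅y, x⁆ ∈ P (j + 1) :=
      hT.commutator_le' (by omega) (by omega) (commutator_mem_commutator hy hx)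
    refine hcenpre hc ⟨⁅y, x⁆, hPk hyx⟩ hyx ?_
    set x₂ := π ⟨x, hxH⟩ with hx₂
    set H₀ := R ⊔ zpowers s₂ ⊔ zpowers x₂ with hH₀
    have hR₀ : R ≤ H₀ := le_sup_of_le_left le_sup_left
    have hs₀ : s₂ ∈ H₀ := mem_sup_left (mem_sup_right (mem_zpowers s₂))
    have hx₀ : x₂ ∈ H₀ := mem_sup_right (mem_zpowers x₂)
    haveI : (R.subgroupOf H₀).Normal := hRn.subgroupOf H₀
    have hxs : x₂ * s₂ = s₂ * x₂ := hcommπ (hM.above j (by omega) (by omega) x hx).symm
    have hcard₀ : Nat.card (R.subgroupOf H₀) = Nat.card R :=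
      Nat.card_congr (subgroupOfEquivOfLe hR₀).toEquiv
    have h1 := commutator_mem_of_fixed_eq_bot (V := V) (R := R.subgroupOf H₀) (s := (⟨s₂, hs₀⟩ : H₀))
      (x := ⟨x₂, hx₀⟩) (u := ⟨π ⟨y, hPk hy⟩, hR₀ (mem_map_of_mem π hy)⟩) hC.prime
      (Subtype.ext hs₂) (p := p (j + 1))
      ((((hT.pgroup (j + 1) (by omega) (by omega)).of_equiv
        (subgroupOfEquivOfLe hPk).symm).map π).of_equiv (subgroupOfEquivOfLe hR₀).symm)
      (class2_subgroupOf hclass) (fun a ha => mem_cenIn.2
        ⟨(mem_cenIn.1 (hT.pow_image (by omega) (by omega) hH2 hPk hV _ ha)).1, fun b hb =>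
          Subtype.ext ((mem_cenIn.1 (hT.pow_image (by omega) (by omega) hH2 hPk hV _ ha)).2 _ hb)⟩)
      (by rw [hcard₀]; exact hcopr) (by rw [hcard₀]; exact hcopV) hcoprV hq hexp
      (fun g hg => Subtype.ext (actGroup_faithful _ hg)) (fun v hv => hno v hv)
      ((AddSubgroup.eq_bot_iff_forall _).2 fun v hv => AddSubgroup.mem_bot.1 (hR0 ▸ mem_fixedSub.2
        fun a ha => mem_fixedSub.1 hv ⟨a, hR₀ ha⟩ ha))
      (map_injective H₀.subtype_injective (by
        rw [Subgroup.map_commutator, map_subgroupOf_eq_of_le hR₀, MonoidHom.map_zpowers]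
        exact hRs))
      (map_injective H₀.subtype_injective (by
        rw [Subgroup.map_sup, Subgroup.map_sup, map_subgroupOf_eq_of_le hR₀, MonoidHom.map_zpowers,
          MonoidHom.map_zpowers, ← MonoidHom.range_eq_map, Subgroup.range_subtype]
        rfl))
      (Subtype.ext hxs) (by
        refine (hC.coprime_r (i := j) (by omega) (by omega)).coprime_dvd_left ?_
        rw [← orderOf_injective H₀.subtype H₀.subtype_injective]
        refine (orderOf_map_dvd π _).trans ?_
        rw [← orderOf_injective H.subtype H.subtype_injective]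
        exact Subgroup.orderOf_dvd_natCard _ hx)
      (fun a ha b hb => Subtype.ext (hT.commute_image (i := j) (by omega) (by omega) hH2 hV _
        (mem_map_of_mem π (show (⟨x, hxH⟩ : H) ∈ (P j).subgroupOf H from hx)) _ ha _ hb))
      (mem_map_of_mem π hy : π ⟨y, hPk hy⟩ ∈ R)
    rw [show (⟨⁅y, x⁆, hPk hyx⟩ : H) = ⁅(⟨x, hxH⟩ : H), (⟨y, hPk hy⟩ : H)⁆⁻¹ from
      Subtype.ext (commutatorElement_inv x y).symm, map_inv, map_commutatorElement]
    exact inv_mem (mem_cenIn.2 ⟨(mem_cenIn.1 h1).1, fun b hb =>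
      congrArg Subtype.val ((mem_cenIn.1 h1).2 ⟨b, hR₀ hb⟩ hb)⟩)
  -- invariant parts have fixed vectors
  have hgen : R ⊔ centralizer {s₂} = ⊤ := by
    rw [eq_top_iff]
    intro g _
    obtain ⟨g', rfl⟩ := actHom_surjective g
    have hle : H ≤ ((R ⊔ centralizer {s₂}).comap π).map H.subtype := by
      refine upper_le (fun l hl hlk a ha => ⟨⟨a, le_upper hl hlk ha⟩, ?_, rfl⟩)
        ⟨⟨s, hsH⟩, mem_sup_right (mem_centralizer_singleton_iff.2 rfl), rfl⟩
      rcases Nat.lt_or_eq_of_le hlk with hlt | rfl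
      · exact mem_sup_right (mem_centralizer_singleton_iff.2 (hcommπ (hM.above l hl hlt a ha).symm))
      · exact mem_sup_left (mem_map_of_mem π ha)
    obtain ⟨g'', hg'', e⟩ := hle g'.2
    rwa [← H.subtype_injective e]
  have hH₁n : (⊤ : Subgroup (actGroup H V)) ≤
      normalizer ((R ⊔ zpowers s₂ : Subgroup _) : Set (actGroup H V)) := by
    rw [← hgen]
    refine sup_le (le_sup_left.trans le_normalizer) fun g hg => ?_
    refine mem_normalizer_iff_map_conj_eq.2 ?_
    rw [Subgroup.map_sup, MonoidHom.map_zpowers, mem_normalizer_iff_map_conj_eq.1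
      (show g ∈ normalizer (R : Set (actGroup H V)) by rw [normalizer_eq_top]; trivial)]
    show R ⊔ zpowers (g * s₂ * g⁻¹) = _
    rw [mem_centralizer_singleton_iff.1 hg, mul_inv_cancel_right]
  have hasFixed : ∀ U : AddSubgroup V, IsInv (R ⊔ zpowers s₂) U → U ≠ ⊥ →
      ∃ c ∈ U, s₂ • c = c ∧ c ≠ 0 := by
    intro U hU hU0
    by_contra hno
    push Not at hno
    let O : V →+ V := ∑ i ∈ Finset.range r, DistribSMul.toAddMonoidHom V (s₂ ^ i)
    have hO : ∀ v, O v = ∑ i ∈ Finset.range r, s₂ ^ i • v := fun v => by simp [O]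
    let U₀ : AddSubgroup V :=
      ⨅ g : (R ⊔ zpowers s₂ : Subgroup _), (O.comp (DistribSMul.toAddMonoidHom V (g : actGroup H V))).ker
    have hU₀ : ∀ v, v ∈ U₀ ↔ ∀ g ∈ R ⊔ zpowers s₂, O (g • v) = 0 := fun v => by
      simp [U₀, AddSubgroup.mem_iInf]
    have hinv : IsInv (⊤ : Subgroup (actGroup H V)) U₀ := by
      rw [← hgen]
      refine IsInv.sup (fun g hg v hv => (hU₀ _).2 fun a ha => ?_) fun g hg v hv =>
        (hU₀ _).2 fun a ha => ?_
      · rw [← mul_smul]; exact (hU₀ v).1 hv _ (mul_mem ha (mem_sup_left hg))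
      · have ha' : g⁻¹ * a * g ∈ R ⊔ zpowers s₂ :=
          (mem_normalizer_iff''.1 (hH₁n trivial) a).1 ha
        have hcom : ∀ w, O (g • w) = g • O w := fun w => by
          rw [hO, hO, Finset.smul_sum]
          refine Finset.sum_congr rfl fun i _ => ?_
          rw [← mul_smul, ← mul_smul,
            ((show Commute g s₂ from mem_centralizer_singleton_iff.1 hg).pow_right i).eq]
        rw [← mul_smul, show a * g = g * (g⁻¹ * a * g) by group, mul_smul, hcom,
          (hU₀ v).1 hv _ ha', smul_zero]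
    rcases hirr U₀ hinv with hb | ht
    · refine hU0 (eq_bot_iff.2 fun v hv => hb ▸ (hU₀ v).2 fun g hg => ?_)
      refine hno (O (g • v)) ?_ ?_
      · rw [hO]
        exact sum_mem fun i _ => hU _ (mem_sup_right (pow_mem (mem_zpowers s₂) i)) _ (hU _ hg v hv)
      · rw [hO]; exact smul_orbit_sum hs₂ _
    · obtain ⟨c, hcs, hc0⟩ := hC0
      refine hc0 (eq_zero_of_nsmul (n := r) hcoprV ?_)
      have h1 := (hU₀ c).1 (ht ▸ AddSubgroup.mem_top c) 1 (one_mem _)
      rw [one_smul, hO, Finset.sum_congr rfl fun i _ => ?_, Finset.sum_const, Finset.card_range] at h1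
      · exact h1
      · exact mem_fixedSub.1 (mem_fixedSub_zpowers.2 hcs) _ (pow_mem (mem_zpowers s₂) i)
  have hS : TopSetup R s₂ r V :=
    { prime := hC.prime, pow := hs₂, copr := hcopr, copV := hcopV, coprV := hcoprV
      class2 := hclass, faithful := actGroup_faithful, comm := hRs, free := hR0, fix := hfix
      hasFixed := hasFixed }
  -- the characters
  set E := movedSub V ((towerY P s k k).subgroupOf H) with hE
  obtain ⟨T, instT, Ω₀, hsep, hstab, hkill⟩ := hM.exists_datum (i := k) le_rfl (by omega)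
    (le_refl H) hsH (by rw [towerY_self]; exact hPk) hV hE
  have hEtop : ∀ v, v ∈ E := fun v => by
    rw [hE, towerY_self, hT.movedSub_eq_top hk1 (by omega) hH2 hPk hV]; trivial
  let e : V →+ E := AddMonoidHom.mk' (fun v => ⟨v, hEtop v⟩) fun a b => rfl
  set Ω := (fun ω : E →+ T => ω.comp e) '' Ω₀ with hΩ
  have hD : IsDatum (actGroup H V) Ω := by
    refine ⟨?_, fun v hv => congrArg Subtype.val
      (hsep (e v) fun ω hω => hv _ ⟨ω, hω, rfl⟩)⟩
    rintro g _ ⟨ω, hω, rfl⟩
    obtain ⟨g', rfl⟩ := actHom_surjective g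
    exact ⟨_, hstab g' ω hω (e.comp ((DistribSMul.toAddMonoidHom V g').comp E.subtype)) fun v => rfl,
      AddMonoidHom.ext fun v => rfl⟩
  have hlow : ∀ d : P (k + 1), s * d = d * s → (d : Γ) ∈ F (n + 2 - k) →
      cl d ∈ killedSub Ω s₂ := by
    intro d hds hdF
    have hl := hM.low_of_mem (n + 2 - k) (k + 1) (by omega) (by omega) d d.2 hds hdF
    refine ⟨?_, ?_⟩
    · have hm : s * d * s⁻¹ ∈ P (k + 1) := by
        rw [hds, mul_inv_cancel_right]; exact d.2
      refine (hV.map_conj ⟨s, hsH⟩ d hm).symm.trans (congrArg cl (Subtype.ext ?_))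
      show s * (d : Γ) * s⁻¹ = d
      rw [hds, mul_inv_cancel_right]
    · rintro _ ⟨ω, hω, rfl⟩ ⟨u, hu⟩
      exact hkill d hds hl (hEtop _) ω hω ⟨e u, e (s₂ • u), rfl, hu⟩
  have hfixlift : ∀ c : V, s₂ • c = c → ∃ y : P (k + 1), s * y = y * s ∧ cl y = c := fun c hc =>
    exists_fixed_lift hC (i := k + 1) (by omega) (by omega) hsH hV hc
  rcases Nat.lt_or_ge k 3 with hk3 | hk3
  · -- all fixed vectors are killed
    obtain ⟨w, hw, hwk⟩ := hS.exists_not_mem_killedSub hD
    obtain ⟨y, hys, rfl⟩ := hfixlift w hw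
    exact hwk (hlow y hys (hC.F_top _ (by omega) _ (hT.le _ (by omega) (by omega) y.2) hys))
  obtain ⟨l, rfl⟩ : ∃ l, k = l + 1 + 1 := ⟨k - 2, by omega⟩
  have hl1 : 1 ≤ l := by omega
  obtain ⟨m, hm⟩ : ∃ m, m = n + 2 - (l + 1 + 1) := ⟨_, rfl⟩
  have factA : ∀ g : H, s * g = g * s → (g : Γ) ∈ F m →
      ∀ c : V, s₂ • c = c → π g • c - c ∈ killedSub Ω s₂ := by
    intro g hgs hgF c hc
    obtain ⟨y, hys, rfl⟩ := hfixlift c hc
    have hyg := LayerModule.commutator_mem hHn y g
    have h1 := hlow ⟨_, hyg⟩ (commutator_fixed hys hgs)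
      (hm ▸ hC.F_norm m g hgF y (hT.le _ (by omega) (by omega) y.2) hys)
    rw [hV.map_commutator y g hyg, ← neg_sub, neg_mem_iff] at h1
    exact h1
  have hπK : ∀ g : H, (g : Γ) ∈ P (l + 1 + 1) → π g = 1 → (g : Γ) ∈ K (l + 1 + 1) :=
    fun g hg hg1 => hT.mem_ker_of_actHom_eq_one (by omega) (by omega) hH2 hV hg hg1
  -- the second member above centralises the fixed part
  have hxcen : ∀ x : H, (x : Γ) ∈ P l → (x : Γ) ∈ F (m + 1) →
      ∀ z ∈ R, s₂ * z = z * s₂ → π x * z = z * π x := by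
    intro x hx hxF z hz hzs
    have hxs : s * x = x * s := hM.above l hl1 (by omega) x hx
    obtain ⟨w, hw, hws, rfl⟩ := hlift z hz hzs
    have hwP := hT.norm l (l + 1 + 1) hl1 (by omega) (by omega) hx
    by_cases hne : p l = p (l + 1 + 1 + 1)
    · haveI := Fact.mk (hT.prime l hl1 (by omega))
      have hne' : p l ≠ p (l + 1 + 1) := fun h' =>
        hT.ne (l + 1 + 1) (by omega) (by omega) (h'.symm.trans hne)
      have hwx : ⁅(w : Γ), (x : Γ)⁆ ∈ P (l + 1 + 1) := by
        rw [commutatorElement_def, mul_assoc, mul_assoc, ← mul_assoc (x : Γ)]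
        exact mul_mem hw ((mem_normalizer_iff.1 hwP _).1 (inv_mem hw))
      have hwxx : ⁅⁅(w : Γ), (x : Γ)⁆, (x : Γ)⁆ ∈ P (l + 1 + 1) := by
        rw [commutatorElement_def ⁅(w : Γ), (x : Γ)⁆, mul_assoc, mul_assoc, ← mul_assoc (x : Γ)]
        exact mul_mem hwx ((mem_normalizer_iff.1 hwP _).1 (inv_mem hwx))
      have hwxxF : ⁅⁅(w : Γ), (x : Γ)⁆, (x : Γ)⁆ ∈ F m :=
        hC.F_comm m _ (hC.F_norm (m + 1) x hxF w (hT.le _ (by omega) (by omega) hw) hws) _ hxF
          (hC.coprime_orderOf (i := l + 1 + 1) (j := l) (by omega) (by omega) hl1 (by omega)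
            hne'.symm hwx hx)
      have hfixd := commutator_fixed (commutator_fixed hws hxs) hxs
      have h1 : π ⟨_, hPk hwxx⟩ = 1 := hS.eq_one_of_killed hD (mem_map_of_mem π hwxx)
        (hcommπ hfixd.symm) (factA ⟨_, hPk hwxx⟩ hfixd hwxxF)
      have h2 := commutator_mem_of_twice (hT.ker_le (by omega) (by omega))
        (hT.le_normalizer_ker (by omega) le_rfl (by omega)) hwP
        (hT.le_normalizer_ker hl1 (by omega) (by omega) hx)
        (coprime_orderOf_card (hT.pgroup l hl1 (by omega))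
          (hT.pgroup (l + 1 + 1) (by omega) (by omega)) hne' hx) hw (hπK ⟨_, hPk hwxx⟩ hwxx h1)
      have h3 : π ⁅w, x⁆ = 1 := hT.actHom_eq_one (by omega) (by omega) hH2 hV (g := ⁅w, x⁆) h2
      rw [map_commutatorElement, commutatorElement_eq_one_iff_mul_comm] at h3
      exact h3.symm
    · haveI := Fact.mk (hT.prime l hl1 (by omega))
      have hxs₂ : π x * s₂ = s₂ * π x := hcommπ hxs.symm
      have hxk : ∀ c : V, s₂ • c = c → π x • c - c ∈ killedSub Ω s₂ := by
        intro c hc
        refine sub_mem_of_twice (fun w hw => smul_mem_killedSub hD hxs₂ hw) ?_ ?_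
        · refine ((coprime_orderOf_card (hT.pgroup l hl1 (by omega))
            (hT.pgroup (l + 1 + 1 + 1) (by omega) (by omega)) hne hx).coprime_dvd_left ?_)
            |>.coprime_dvd_right hcardV
          refine (orderOf_map_dvd π _).trans ?_
          rw [← orderOf_injective H.subtype H.subtype_injective]
          exact dvd_rfl
        obtain ⟨y, hys, rfl⟩ := hfixlift c hc
        have hyx := LayerModule.commutator_mem hHn y x
        have hyxx := LayerModule.commutator_mem hHn ⟨_, hyx⟩ x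
        have h1 := hlow ⟨_, hyxx⟩ (commutator_fixed (commutator_fixed hys hxs) hxs)
          (hm ▸ hC.F_comm m _ (hC.F_norm (m + 1) x hxF y (hT.le _ (by omega) (by omega) y.2) hys)
            _ hxF (hC.coprime_orderOf (i := l + 1 + 1 + 1) (j := l) (by omega) (by omega) hl1
              (by omega) (fun h' => hne h'.symm) hyx hx))
        rw [hV.map_commutator ⟨_, hyx⟩ x hyxx, hV.map_commutator y x hyx] at h1
        have e : π x • (π x • cl y - cl y) - (π x • cl y - cl y) =
            cl y - x • cl y - x • (cl y - x • cl y) := by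
          show x • (x • cl y - cl y) - (x • cl y - cl y) = _
          simp only [smul_sub]; abel
        rw [e]; exact h1
      have hws₂ : π w * s₂ = s₂ * π w := hcommπ hws.symm
      have hxi : ∀ c : V, s₂ • c = c → (π x)⁻¹ • c - c ∈ killedSub Ω s₂ := fun c hc => by
        have hc' : s₂ • (π x)⁻¹ • c = (π x)⁻¹ • c := by
          rw [← mul_smul, (show Commute s₂ (π x) from hxs₂.symm).inv_right.eq, mul_smul, hc]
        have := neg_mem (hxk _ hc')
        rwa [smul_inv_smul, neg_sub] at this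
      have hxw : ⁅π x, π w⁆ = 1 := by
        refine hS.eq_one_of_killed hD ?_ ?_ fun c hc => ?_
        · rw [commutatorElement_def]
          exact mul_mem (hRn.conj_mem _ hz _) (inv_mem hz)
        · exact ((show Commute s₂ ⁅π x, π w⁆ from
            commutator_fixed (s := s₂) hxs₂.symm hws₂.symm)).eq.symm
        have hwi : Commute s₂ (π w)⁻¹ := (show Commute s₂ (π w) from hws₂.symm).inv_right
        have hc1 : s₂ • (π w)⁻¹ • c = (π w)⁻¹ • c := by rw [← mul_smul, hwi.eq, mul_smul, hc]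
        have hc2 : s₂ • π w • (π x)⁻¹ • (π w)⁻¹ • c = π w • (π x)⁻¹ • (π w)⁻¹ • c := by
          rw [← mul_smul s₂ (π w), ← hws₂, mul_smul, ← mul_smul s₂ (π x)⁻¹,
            (show Commute s₂ (π x) from hxs₂.symm).inv_right.eq, mul_smul, hc1]
        have e : ⁅π x, π w⁆ • c - c =
            (π x • π w • (π x)⁻¹ • (π w)⁻¹ • c - π w • (π x)⁻¹ • (π w)⁻¹ • c) +
              π w • ((π x)⁻¹ • (π w)⁻¹ • c - (π w)⁻¹ • c) := by
          rw [smul_sub, smul_inv_smul, commutatorElement_def, mul_smul, mul_smul, mul_smul]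
          abel
        rw [e]
        exact add_mem (hxk _ hc2) (smul_mem_killedSub hD hws₂ (hxi _ hc1))
      exact commutatorElement_eq_one_iff_mul_comm.1 hxw
  -- the commutators of the two members above
  haveI := Fact.mk (hT.prime (l + 1) (by omega) (by omega))
  haveI := Fact.mk (hT.prime l hl1 (by omega))
  have key : ∀ t x : H, (t : Γ) ∈ P (l + 1) → (x : Γ) ∈ P l → (t : Γ) ∈ F m → (x : Γ) ∈ F (m + 1) →
      ⁅(t : Γ), (x : Γ)⁆ ∈ K (l + 1) := by
    intro t x ht hx htF hxF
    have hts : s * t = t * s := hM.above (l + 1) (by omega) (by omega) t ht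
    have hxs : s * x = x * s := hM.above l hl1 (by omega) x hx
    have hxn := hT.norm l (l + 1) hl1 (by omega) (by omega) hx
    have htxP : ⁅(t : Γ), (x : Γ)⁆ ∈ P (l + 1) :=
      hT.commutator_le' hl1 (by omega) (commutator_mem_commutator ht hx)
    have hot : orderOf (π t) ∣ Nat.card (P (l + 1)) := by
      refine (orderOf_map_dvd π _).trans ?_
      rw [← orderOf_injective H.subtype H.subtype_injective]
      exact Subgroup.orderOf_dvd_natCard _ ht
    have htr : (orderOf (π t)).Coprime r :=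
      (hC.coprime_r (by omega) (by omega)).coprime_dvd_left hot
    have htk := factA t hts htF
    by_cases hc : ∀ a ∈ R, ∀ b ∈ R, a * b = b * a
    · have h1 := hS.eq_one_of_killed_of_comm hD hq hexp hc (hcommπ hts.symm) htr htk
      have htK : (t : Γ) ∈ K (l + 1) := by
        refine hT.mem_ker_of_trivial (by omega) (by omega) ht fun y hy => Tower.ker_le_den ?_
        have hyt := hT.commutator_le' (i := l + 1) (by omega) (by omega)
          (commutator_mem_commutator hy ht)
        refine hπK ⁅(⟨y, hPk hy⟩ : H), t⁆ hyt ?_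
        rw [map_commutatorElement, h1, commutatorElement_one_right]
      rw [commutatorElement_def, mul_assoc, mul_assoc, ← mul_assoc (x : Γ)]
      exact mul_mem htK ((mem_normalizer_iff.1
        (hT.le_normalizer_ker hl1 (by omega) (by omega) hx) _).1 (inv_mem htK))
    refine hT.mem_ker_of_trivial (by omega) (by omega) htxP fun y hy => ?_
    have htc : ∀ z ∈ R, s₂ * z = z * s₂ → π t * z = z * π t := by
      intro z hz hzs
      obtain ⟨w, hw, hws, rfl⟩ := hlift z hz hzs
      rw [← commutatorElement_eq_one_iff_mul_comm, ← map_commutatorElement]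
      refine hT.actHom_eq_one (by omega) (by omega) hH2 hV ?_
      show ⁅(t : Γ), (w : Γ)⁆ ∈ K (l + 1 + 1)
      rw [← commutatorElement_inv]
      exact inv_mem (hT.commutator_den_le (by omega) (by omega)
        (commutator_mem_commutator (hM.mem_den_of_fixed hw hws) ht))
    have h1 := hS.commutator_mem_of_killed hD hq hexp (hcommπ hts.symm) (hcommπ hxs.symm) htc
      (hxcen x hx hxF) (((hT.coprime_card (by omega) (by omega)).coprime_dvd_left hot).coprime_dvd_right
        hcardR) htr htk (π ⟨y, hPk hy⟩) (mem_map_of_mem π hy)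
    have hyP : ⁅⁅(t : Γ), (x : Γ)⁆, y⁆ ∈ P (l + 1 + 1) := by
      rw [← commutatorElement_inv]
      exact inv_mem (hT.commutator_le' (by omega) (by omega) (commutator_mem_commutator hy htxP))
    rw [← map_commutatorElement, ← map_commutatorElement] at h1
    rw [← commutatorElement_inv]
    exact inv_mem (hcenpre hc ⁅⁅t, x⁆, ⟨y, hPk hy⟩⁆ hyP h1)
  -- push up
  refine hC.false_of_base (i₀ := l) hl1 (by omega) (fun i hi hil => hM.above i hi (by omega))
    fun x hx hxF => ?_
  rw [show n + 1 - l = m + 1 by omega] at hxF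
  have hxH : x ∈ H := le_upper hl1 (by omega) hx
  have hxn := hT.norm l (l + 1) hl1 (by omega) (by omega) hx
  have hxK := hT.le_normalizer_ker hl1 (show l ≤ l + 1 by omega) (by omega) hx
  have hcop := coprime_orderOf_card (hT.pgroup l hl1 (by omega))
    (hT.pgroup (l + 1) (by omega) (by omega)) (hT.ne l hl1 (by omega)) hx
  have hKP := hT.ker_le (i := l + 1) (by omega) (by omega)
  have hPK := hT.le_normalizer_ker (i := l + 1) (by omega) le_rfl (by omega)
  refine hT.mem_ker_of_trivial hl1 (by omega) hx fun d hd => Tower.ker_le_den ?_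
  have hds : s * d = d * s := hM.above (l + 1) (by omega) (by omega) d hd
  have hdx : ⁅d, x⁆ ∈ P (l + 1) :=
    hT.commutator_le' hl1 (by omega) (commutator_mem_commutator hd hx)
  have hdxx : ⁅⁅d, x⁆, x⁆ ∈ P (l + 1) :=
    hT.commutator_le' hl1 (by omega) (commutator_mem_commutator hdx hx)
  have htF : ⁅⁅d, x⁆, x⁆ ∈ F m :=
    hC.F_comm m _ (hC.F_norm (m + 1) x hxF d (hT.le _ (by omega) (by omega) hd) hds) _ hxF
      (hC.coprime_orderOf (i := l + 1) (j := l) (by omega) (by omega) hl1 (by omega)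
        (hT.ne l hl1 (by omega)).symm hdx hx)
  have h1 := key ⟨_, le_upper (by omega) (by omega) hdxx⟩ ⟨x, hxH⟩ hdxx hx htF hxF
  have h2 := commutator_mem_of_twice hKP hPK hxn hxK hcop hdx h1
  exact commutator_mem_of_twice hKP hPK hxn hxK hcop hd h2

end Moved

end CfsgLib.Solvable.TurullHeight
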